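import Cfsg.Agent.Lib.Schur.PathCert

/-!
Certificates for the splitting of central extensions of the O'Nan group over its Sylow subgroups.
-/

set_option autoImplicit false
set_option maxRecDepth 20000

namespace CfsgLib.SchurON

/-- Part of a closed path for the prime 7. -/
def path7_4_0 : List SchurPath.Step :=
  [([], [2, 2, 2, 2, 2, 2], 8, false),
    ([0, 0, 0, 0, 0, 0, 1, 2, 2, 2], [2, 2, 2, 2, 2], 8, false),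
    ([0, 0, 0, 0, 0, 0, 1, 2, 2, 2, 0, 0, 0, 0, 0, 0, 1, 2, 2, 2], [2, 2, 2, 2], 8, false),
    ([0, 0, 0, 0, 0, 0, 1, 2, 2, 2, 0, 0, 0, 0, 0, 0, 1, 2, 2, 2, 0, 0, 0, 0, 0, 0, 1, 2, 2, 2], [2, 2, 2], 8, false),
    ([0, 0, 0, 0, 0, 0, 1, 2, 2, 2, 0, 0, 0, 0, 0, 0, 1, 2, 2, 2, 0, 0, 0, 0, 0, 0, 1, 2, 2, 2, 0, 0, 0, 0, 0, 0, 1, 2, 2, 2], [2, 2], 8, false),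
    ([0, 0, 0, 0, 0, 0, 1, 2, 2, 2, 0, 0, 0, 0, 0, 0, 1, 2, 2, 2, 0, 0, 0, 0, 0, 0, 1, 2, 2, 2, 0, 0, 0, 0, 0, 0, 1, 2, 2, 2, 0, 0, 0, 0, 0, 0, 1, 2, 2, 2], [2], 8, false),
    ([0, 0, 0, 0, 0, 0, 1, 2, 2, 2, 0, 0, 0, 0, 0, 0, 1, 2, 2, 2, 0, 0, 0, 0, 0, 0, 1, 2, 2, 2, 0, 0, 0, 0, 0, 0, 1, 2, 2, 2, 0, 0, 0, 0, 0, 0, 1, 2, 2, 2, 0, 0, 0, 0, 0, 0, 1, 2, 2, 2], [], 8, false),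
    ([0, 0, 0, 0, 0, 0, 1, 2, 2], [0, 0, 0, 0, 0, 1, 2, 2, 2, 0, 0, 0, 0, 0, 0, 1, 2, 2, 2, 0, 0, 0, 0, 0, 0, 1, 2, 2, 2, 0, 0, 0, 0, 0, 0, 1, 2, 2, 2, 0, 0, 0, 0, 0, 0, 1, 2, 2, 2, 0, 0, 0, 0, 0, 0, 1, 2, 2, 2, 3], 3, false),
    ([0, 0, 0, 0, 0, 0, 1, 2, 2, 0, 2, 0, 0, 0, 0, 0, 1, 2, 2, 2, 0, 0, 0, 0, 0, 0, 1, 2, 2, 2, 0, 0, 0, 0, 0, 0, 1, 2, 2, 2, 0, 0, 0, 0, 0, 0, 1, 2, 2, 2, 0, 0, 0, 0, 0, 0, 1, 2, 2], [0, 0, 0, 0, 0, 1, 2, 2, 2, 3], 3, false),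
    ([0, 0, 0, 0, 0, 0, 1, 2, 2, 0, 2, 0, 0, 0, 0, 0, 1, 2, 2, 2, 0, 0, 0, 0, 0, 0, 1, 2, 2, 2, 0, 0, 0, 0, 0, 0, 1, 2, 2, 2, 0, 0, 0, 0, 0, 0, 1, 2, 2, 2, 0, 0, 0, 0, 0, 0, 1, 2, 2, 0], [0, 0, 0, 0, 1, 2, 2, 2, 3], 3, false),
    ([0, 0, 0, 0, 0, 0, 1, 2, 2, 0, 2, 0, 0, 0, 0, 0, 1, 2, 2, 2, 0, 0, 0, 0, 0, 0, 1, 2, 2, 2, 0, 0, 0, 0, 0, 0, 1, 2, 2, 2, 0, 0, 0, 0, 0, 0, 1, 2, 2, 2, 0, 0, 0, 0, 0, 0, 1, 2, 2, 0, 0], [0, 0, 0, 1, 2, 2, 2, 3], 3, false),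
    ([0, 0, 0, 0, 0, 0, 1, 2, 2, 0, 2, 0, 0, 0, 0, 0, 1, 2, 2, 2, 0, 0, 0, 0, 0, 0, 1, 2, 2, 2, 0, 0, 0, 0, 0, 0, 1, 2, 2, 2, 0, 0, 0, 0, 0, 0, 1, 2, 2, 2, 0, 0, 0, 0, 0, 0, 1, 2, 2, 0, 0, 0], [0, 0, 1, 2, 2, 2, 3], 3, false),
    ([0, 0, 0, 0, 0, 0, 1, 2, 2, 0, 2, 0, 0, 0, 0, 0, 1, 2, 2, 2, 0, 0, 0, 0, 0, 0, 1, 2, 2, 2, 0, 0, 0, 0, 0, 0, 1, 2, 2, 2, 0, 0, 0, 0, 0, 0, 1, 2, 2, 2, 0, 0, 0, 0, 0, 0, 1, 2, 2, 0, 0, 0, 0], [0, 1, 2, 2, 2, 3], 3, false),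
    ([0, 0, 0, 0, 0, 0, 1, 2, 2, 0, 2, 0, 0, 0, 0, 0, 1, 2, 2, 2, 0, 0, 0, 0, 0, 0, 1, 2, 2, 2, 0, 0, 0, 0, 0, 0, 1, 2, 2, 2, 0, 0, 0, 0, 0, 0, 1, 2, 2, 2, 0, 0, 0, 0, 0, 0, 1, 2, 2, 0, 0, 0, 0, 0], [1, 2, 2, 2, 3], 3, false),
    ([0, 0, 0, 0, 0, 0, 1, 2, 2, 0, 2, 0, 0, 0, 0, 0, 1, 2, 2, 2, 0, 0, 0, 0, 0, 0, 1, 2, 2, 2, 0, 0, 0, 0, 0, 0, 1, 2, 2, 2, 0, 0, 0, 0, 0, 0, 1, 2, 2, 2, 0, 0, 0, 0, 0, 0, 1, 2, 2, 0, 0, 0, 0, 0, 0], [2, 2, 2, 3], 4, false),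
    ([0, 0, 0, 0, 0, 0, 1, 2, 2, 0, 2, 0, 0, 0, 0, 0, 1, 2, 2, 2, 0, 0, 0, 0, 0, 0, 1, 2, 2, 2, 0, 0, 0, 0, 0, 0, 1, 2, 2, 2, 0, 0, 0, 0, 0, 0, 1, 2, 2, 2, 0, 0, 0, 0, 0, 0, 1, 2, 2, 0, 0, 0], [1, 2, 2, 2, 2, 3], 0, false),
    ([0, 0, 0, 0, 0, 0, 1, 2, 2, 0, 2, 0, 0, 0, 0, 0, 1, 2, 2, 2, 0, 0, 0, 0, 0, 0, 1, 2, 2, 2, 0, 0, 0, 0, 0, 0, 1, 2, 2, 2, 0, 0, 0, 0, 0, 0, 1, 2, 2, 2, 0, 0, 0, 0, 0, 0, 1, 2], [0, 0, 1, 2, 2, 2, 2, 3], 3, false),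
    ([0, 0, 0, 0, 0, 0, 1, 2, 2, 0, 2, 0, 0, 0, 0, 0, 1, 2, 2, 2, 0, 0, 0, 0, 0, 0, 1, 2, 2, 2, 0, 0, 0, 0, 0, 0, 1, 2, 2, 2, 0, 0, 0, 0, 0, 0, 1, 2, 2, 2, 0, 0, 0, 0, 0, 0, 1, 2, 0], [0, 1, 2, 2, 2, 2, 3], 3, false),
    ([0, 0, 0, 0, 0, 0, 1, 2, 2, 0, 2, 0, 0, 0, 0, 0, 1, 2, 2, 2, 0, 0, 0, 0, 0, 0, 1, 2, 2, 2, 0, 0, 0, 0, 0, 0, 1, 2, 2, 2, 0, 0, 0, 0, 0, 0, 1, 2, 2, 2, 0, 0, 0, 0, 0, 0, 1, 2, 0, 0], [1, 2, 2, 2, 2, 3], 3, false),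
    ([0, 0, 0, 0, 0, 0, 1, 2, 2, 0, 2, 0, 0, 0, 0, 0, 1, 2, 2, 2, 0, 0, 0, 0, 0, 0, 1, 2, 2, 2, 0, 0, 0, 0, 0, 0, 1, 2, 2, 2, 0, 0, 0, 0, 0, 0, 1, 2, 2, 2, 0, 0, 0, 0, 0, 0, 1, 2, 0, 0, 0], [2, 2, 2, 2, 3], 4, false),
    ([0, 0, 0, 0, 0, 0, 1, 2, 2, 0, 2, 0, 0, 0, 0, 0, 1, 2, 2, 2, 0, 0, 0, 0, 0, 0, 1, 2, 2, 2, 0, 0, 0, 0, 0, 0, 1, 2, 2, 2, 0, 0, 0, 0, 0, 0, 1, 2, 2, 2, 0, 0, 0, 0, 0, 0, 1, 2], [1, 2, 2, 2, 2, 2, 3], 0, false),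
    ([0, 0, 0, 0, 0, 0, 1, 2, 2, 0, 2, 0, 0, 0, 0, 0, 1, 2, 2, 2, 0, 0, 0, 0, 0, 0, 1, 2, 2, 2, 0, 0, 0, 0, 0, 0, 1, 2, 2, 2, 0, 0, 0, 0, 0, 0, 1, 2, 2, 2, 0, 0, 0, 0, 0, 0, 1], [2, 2, 2, 2, 2, 3], 4, false),
    ([0, 0, 0, 0, 0, 0, 1, 2, 2, 0, 2, 0, 0, 0, 0, 0, 1, 2, 2, 2, 0, 0, 0, 0, 0, 0, 1, 2, 2, 2, 0, 0, 0, 0, 0, 0, 1, 2, 2, 2, 0, 0, 0, 0, 0, 0, 1, 2, 2, 2, 0, 0, 0, 0, 0, 0], [0, 0, 0, 1, 2, 2, 2, 2, 2, 2, 3], 1, false),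
    ([0, 0, 0, 0, 0, 0, 1, 2, 2, 0, 2, 0, 0, 0, 0, 0, 1, 2, 2, 2, 0, 0, 0, 0, 0, 0, 1, 2, 2, 2, 0, 0, 0, 0, 0, 0, 1, 2, 2, 2, 0, 0, 0, 0, 0, 0, 1, 2, 2, 2, 0, 0, 0, 0, 0, 0, 0], [0, 0, 1, 2, 2, 2, 2, 2, 2, 3], 1, false),
    ([0, 0, 0, 0, 0, 0, 1, 2, 2, 0, 2, 0, 0, 0, 0, 0, 1, 2, 2, 2, 0, 0, 0, 0, 0, 0, 1, 2, 2, 2, 0, 0, 0, 0, 0, 0, 1, 2, 2, 2, 0, 0, 0, 0, 0, 0, 1, 2, 2, 2, 0, 0, 0, 0, 0, 0, 0, 0], [0, 1, 2, 2, 2, 2, 2, 2, 3], 1, false),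
    ([0, 0, 0, 0, 0, 0, 1, 2, 2, 0, 2, 0, 0, 0, 0, 0, 1, 2, 2, 2, 0, 0, 0, 0, 0, 0, 1, 2, 2, 2, 0, 0, 0, 0, 0, 0, 1, 2, 2, 2, 0, 0, 0, 0, 0, 0, 1, 2, 2, 2, 0, 0, 0, 0, 0, 0, 0, 0, 0], [1, 2, 2, 2, 2, 2, 2, 3], 1, false),
    ([0, 0, 0, 0, 0, 0, 1, 2, 2, 0, 2, 0, 0, 0, 0, 0, 1, 2, 2, 2, 0, 0, 0, 0, 0, 0, 1, 2, 2, 2, 0, 0, 0, 0, 0, 0, 1, 2, 2, 2, 0, 0, 0, 0, 0, 0, 1, 2, 2, 2, 0, 0, 0], [1, 1, 2, 2, 2, 2, 2, 2, 3], 0, false),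
    ([0, 0, 0, 0, 0, 0, 1, 2, 2, 0, 2, 0, 0, 0, 0, 0, 1, 2, 2, 2, 0, 0, 0, 0, 0, 0, 1, 2, 2, 2, 0, 0, 0, 0, 0, 0, 1, 2, 2, 2, 0, 0, 0, 0, 0, 0, 1, 2, 2], [0, 0, 1, 1, 2, 2, 2, 2, 2, 2, 3], 3, false),
    ([0, 0, 0, 0, 0, 0, 1, 2, 2, 0, 2, 0, 0, 0, 0, 0, 1, 2, 2, 2, 0, 0, 0, 0, 0, 0, 1, 2, 2, 2, 0, 0, 0, 0, 0, 0, 1, 2, 2, 2, 0, 0, 0, 0, 0, 0, 1, 2, 2, 0], [0, 1, 1, 2, 2, 2, 2, 2, 2, 3], 3, false),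
    ([0, 0, 0, 0, 0, 0, 1, 2, 2, 0, 2, 0, 0, 0, 0, 0, 1, 2, 2, 2, 0, 0, 0, 0, 0, 0, 1, 2, 2, 2, 0, 0, 0, 0, 0, 0, 1, 2, 2, 2, 0, 0, 0, 0, 0, 0, 1, 2, 2, 0, 0], [1, 1, 2, 2, 2, 2, 2, 2, 3], 3, false),
    ([0, 0, 0, 0, 0, 0, 1, 2, 2, 0, 2, 0, 0, 0, 0, 0, 1, 2, 2, 2, 0, 0, 0, 0, 0, 0, 1, 2, 2, 2, 0, 0, 0, 0, 0, 0, 1, 2, 2, 2, 0, 0, 0, 0, 0, 0, 1, 2, 2, 0, 0, 0], [1, 2, 2, 2, 2, 2, 2, 3], 4, false),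
    ([0, 0, 0, 0, 0, 0, 1, 2, 2, 0, 2, 0, 0, 0, 0, 0, 1, 2, 2, 2, 0, 0, 0, 0, 0, 0, 1, 2, 2, 2, 0, 0, 0, 0, 0, 0, 1, 2, 2, 2, 0, 0, 0, 0, 0, 0, 1, 2, 2, 0, 0, 0, 0, 0, 0, 0, 1], [2, 2, 2, 2, 2, 2, 3], 4, false),
    ([0, 0, 0, 0, 0, 0, 1, 2, 2, 0, 2, 0, 0, 0, 0, 0, 1, 2, 2, 2, 0, 0, 0, 0, 0, 0, 1, 2, 2, 2, 0, 0, 0, 0, 0, 0, 1, 2, 2, 2, 0, 0, 0, 0, 0, 0, 1, 2, 2, 0, 0, 0, 0, 0, 0, 0, 1, 0, 0, 0, 0, 1], [3], 5, false),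
    ([0, 0, 0, 0, 0, 0, 1, 2, 2, 0, 2, 0, 0, 0, 0, 0, 1, 2, 2, 2, 0, 0, 0, 0, 0, 0, 1, 2, 2, 2, 0, 0, 0, 0, 0, 0, 1, 2, 2, 2, 0, 0, 0, 0, 0, 0, 1, 2, 2, 0, 0, 0, 0, 0, 0, 0], [0, 0, 0, 1, 3], 1, false),
    ([0, 0, 0, 0, 0, 0, 1, 2, 2, 0, 2, 0, 0, 0, 0, 0, 1, 2, 2, 2, 0, 0, 0, 0, 0, 0, 1, 2, 2, 2, 0, 0, 0, 0, 0, 0, 1, 2, 2, 2, 0, 0, 0, 0, 0, 0, 1, 2, 2, 0, 0, 0, 0, 0, 0, 0, 0], [0, 0, 1, 3], 1, false),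
    ([0, 0, 0, 0, 0, 0, 1, 2, 2, 0, 2, 0, 0, 0, 0, 0, 1, 2, 2, 2, 0, 0, 0, 0, 0, 0, 1, 2, 2, 2, 0, 0, 0, 0, 0, 0, 1, 2, 2, 2, 0, 0, 0, 0, 0, 0, 1, 2, 2, 0, 0, 0, 0, 0, 0, 0, 0, 0], [0, 1, 3], 1, false),
    ([0, 0, 0, 0, 0, 0, 1, 2, 2, 0, 2, 0, 0, 0, 0, 0, 1, 2, 2, 2, 0, 0, 0, 0, 0, 0, 1, 2, 2, 2, 0, 0, 0, 0, 0, 0, 1, 2, 2, 2, 0, 0, 0, 0, 0, 0, 1, 2, 2, 0, 0, 0, 0, 0, 0, 0, 0, 0, 0], [1, 3], 1, false),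
    ([0, 0, 0, 0, 0, 0, 1, 2, 2, 0, 2, 0, 0, 0, 0, 0, 1, 2, 2, 2, 0, 0, 0, 0, 0, 0, 1, 2, 2, 2, 0, 0, 0, 0, 0, 0, 1, 2, 2, 2, 0, 0, 0, 0, 0, 0, 1, 2, 2, 0, 0, 0, 0], [1, 1, 3], 0, false),
    ([0, 0, 0, 0, 0, 0, 1, 2, 2, 0, 2, 0, 0, 0, 0, 0, 1, 2, 2, 2, 0, 0, 0, 0, 0, 0, 1, 2, 2, 2, 0, 0, 0, 0, 0, 0, 1, 2, 2, 2, 0, 0, 0, 0, 0, 0, 1, 2], [0, 0, 0, 1, 1, 3], 3, false),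
    ([0, 0, 0, 0, 0, 0, 1, 2, 2, 0, 2, 0, 0, 0, 0, 0, 1, 2, 2, 2, 0, 0, 0, 0, 0, 0, 1, 2, 2, 2, 0, 0, 0, 0, 0, 0, 1, 2, 2, 2, 0, 0, 0, 0, 0, 0, 1, 2, 0], [0, 0, 1, 1, 3], 3, false),
    ([0, 0, 0, 0, 0, 0, 1, 2, 2, 0, 2, 0, 0, 0, 0, 0, 1, 2, 2, 2, 0, 0, 0, 0, 0, 0, 1, 2, 2, 2, 0, 0, 0, 0, 0, 0, 1, 2, 2, 2, 0, 0, 0, 0, 0, 0, 1, 2, 0, 0], [0, 1, 1, 3], 3, false),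
    ([0, 0, 0, 0, 0, 0, 1, 2, 2, 0, 2, 0, 0, 0, 0, 0, 1, 2, 2, 2, 0, 0, 0, 0, 0, 0, 1, 2, 2, 2, 0, 0, 0, 0, 0, 0, 1, 2, 2, 2, 0, 0, 0, 0, 0, 0, 1, 2, 0, 0, 0], [1, 1, 3], 3, false),
    ([0, 0, 0, 0, 0, 0, 1, 2, 2, 0, 2, 0, 0, 0, 0, 0, 1, 2, 2, 2, 0, 0, 0, 0, 0, 0, 1, 2, 2, 2, 0, 0, 0, 0, 0, 0, 1, 2, 2, 2, 0, 0, 0, 0, 0, 0, 1, 2, 0, 0, 0, 0], [1, 3], 4, false),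
    ([0, 0, 0, 0, 0, 0, 1, 2, 2, 0, 2, 0, 0, 0, 0, 0, 1, 2, 2, 2, 0, 0, 0, 0, 0, 0, 1, 2, 2, 2, 0, 0, 0, 0, 0, 0, 1, 2, 2, 2, 0, 0, 0, 0, 0, 0, 1, 2, 0, 0, 0, 0, 0, 0, 0, 0, 1], [3], 4, false),
    ([0, 0, 0, 0, 0, 0, 1, 2, 2, 0, 2, 0, 0, 0, 0, 0, 1, 2, 2, 2, 0, 0, 0, 0, 0, 0, 1, 2, 2, 2, 0, 0, 0, 0, 0, 0, 1, 2, 2, 2, 0, 0, 0, 0, 0, 0, 1, 2, 0, 0, 0, 0, 0, 0, 0, 0], [0, 0, 0, 1, 2, 3], 1, false),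
    ([0, 0, 0, 0, 0, 0, 1, 2, 2, 0, 2, 0, 0, 0, 0, 0, 1, 2, 2, 2, 0, 0, 0, 0, 0, 0, 1, 2, 2, 2, 0, 0, 0, 0, 0, 0, 1, 2, 2, 2, 0, 0, 0, 0, 0, 0, 1, 2, 0, 0, 0, 0, 0, 0, 0, 0, 0], [0, 0, 1, 2, 3], 1, false),
    ([0, 0, 0, 0, 0, 0, 1, 2, 2, 0, 2, 0, 0, 0, 0, 0, 1, 2, 2, 2, 0, 0, 0, 0, 0, 0, 1, 2, 2, 2, 0, 0, 0, 0, 0, 0, 1, 2, 2, 2, 0, 0, 0, 0, 0, 0, 1, 2, 0, 0, 0, 0, 0, 0, 0, 0, 0, 0], [0, 1, 2, 3], 1, false),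
    ([0, 0, 0, 0, 0, 0, 1, 2, 2, 0, 2, 0, 0, 0, 0, 0, 1, 2, 2, 2, 0, 0, 0, 0, 0, 0, 1, 2, 2, 2, 0, 0, 0, 0, 0, 0, 1, 2, 2, 2, 0, 0, 0, 0, 0, 0, 1, 2, 0, 0, 0, 0, 0, 0, 0, 0, 0, 0, 0], [1, 2, 3], 1, false),
    ([0, 0, 0, 0, 0, 0, 1, 2, 2, 0, 2, 0, 0, 0, 0, 0, 1, 2, 2, 2, 0, 0, 0, 0, 0, 0, 1, 2, 2, 2, 0, 0, 0, 0, 0, 0, 1, 2, 2, 2, 0, 0, 0, 0, 0, 0, 1, 2, 0, 0, 0, 0, 0], [1, 1, 2, 3], 0, false),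
    ([0, 0, 0, 0, 0, 0, 1, 2, 2, 0, 2, 0, 0, 0, 0, 0, 1, 2, 2, 2, 0, 0, 0, 0, 0, 0, 1, 2, 2, 2, 0, 0, 0, 0, 0, 0, 1, 2, 2, 2, 0, 0, 0, 0, 0, 0, 1], [0, 0, 0, 0, 1, 1, 2, 3], 3, false),
    ([0, 0, 0, 0, 0, 0, 1, 2, 2, 0, 2, 0, 0, 0, 0, 0, 1, 2, 2, 2, 0, 0, 0, 0, 0, 0, 1, 2, 2, 2, 0, 0, 0, 0, 0, 0, 1, 2, 2, 2, 0, 0, 0, 0, 0, 0, 1, 0], [0, 0, 0, 1, 1, 2, 3], 3, false),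
    ([0, 0, 0, 0, 0, 0, 1, 2, 2, 0, 2, 0, 0, 0, 0, 0, 1, 2, 2, 2, 0, 0, 0, 0, 0, 0, 1, 2, 2, 2, 0, 0, 0, 0, 0, 0, 1, 2, 2, 2, 0, 0, 0, 0, 0, 0, 1, 0, 0], [0, 0, 1, 1, 2, 3], 3, false),
    ([0, 0, 0, 0, 0, 0, 1, 2, 2, 0, 2, 0, 0, 0, 0, 0, 1, 2, 2, 2, 0, 0, 0, 0, 0, 0, 1, 2, 2, 2, 0, 0, 0, 0, 0, 0, 1, 2, 2, 2, 0, 0, 0, 0, 0, 0, 1, 0, 0, 0], [0, 1, 1, 2, 3], 3, false),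
    ([0, 0, 0, 0, 0, 0, 1, 2, 2, 0, 2, 0, 0, 0, 0, 0, 1, 2, 2, 2, 0, 0, 0, 0, 0, 0, 1, 2, 2, 2, 0, 0, 0, 0, 0, 0, 1, 2, 2, 2, 0, 0, 0, 0, 0, 0, 1, 0, 0, 0, 0], [1, 1, 2, 3], 3, false),
    ([0, 0, 0, 0, 0, 0, 1, 2, 2, 0, 2, 0, 0, 0, 0, 0, 1, 2, 2, 2, 0, 0, 0, 0, 0, 0, 1, 2, 2, 2, 0, 0, 0, 0, 0, 0, 1, 2, 2, 2, 0, 0, 0, 0, 0, 0, 1, 0, 0, 0, 0, 0], [1, 2, 3], 4, false),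
    ([0, 0, 0, 0, 0, 0, 1, 2, 2, 0, 2, 0, 0, 0, 0, 0, 1, 2, 2, 2, 0, 0, 0, 0, 0, 0, 1, 2, 2, 2, 0, 0, 0, 0, 0, 0, 1, 2, 2, 2, 0, 0, 0, 0, 0, 0, 1, 0, 0, 0, 0, 0, 0, 0, 0, 0, 1], [2, 3], 4, false),
    ([0, 0, 0, 0, 0, 0, 1, 2, 2, 0, 2, 0, 0, 0, 0, 0, 1, 2, 2, 2, 0, 0, 0, 0, 0, 0, 1, 2, 2, 2, 0, 0, 0, 0, 0, 0, 1, 2, 2, 2, 0, 0, 0, 0, 0, 0, 1, 0, 0, 0, 0, 0, 0, 0, 0, 0], [0, 0, 0, 1, 2, 2, 3], 1, false),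
    ([0, 0, 0, 0, 0, 0, 1, 2, 2, 0, 2, 0, 0, 0, 0, 0, 1, 2, 2, 2, 0, 0, 0, 0, 0, 0, 1, 2, 2, 2, 0, 0, 0, 0, 0, 0, 1, 2, 2, 2, 0, 0, 0, 0, 0, 0, 1, 0, 0, 0, 0, 0, 0, 0, 0, 0, 0], [0, 0, 1, 2, 2, 3], 1, false),
    ([0, 0, 0, 0, 0, 0, 1, 2, 2, 0, 2, 0, 0, 0, 0, 0, 1, 2, 2, 2, 0, 0, 0, 0, 0, 0, 1, 2, 2, 2, 0, 0, 0, 0, 0, 0, 1, 2, 2, 2, 0, 0, 0, 0, 0, 0, 1, 0, 0, 0, 0, 0, 0, 0, 0, 0, 0, 0], [0, 1, 2, 2, 3], 1, false),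
    ([0, 0, 0, 0, 0, 0, 1, 2, 2, 0, 2, 0, 0, 0, 0, 0, 1, 2, 2, 2, 0, 0, 0, 0, 0, 0, 1, 2, 2, 2, 0, 0, 0, 0, 0, 0, 1, 2, 2, 2, 0, 0, 0, 0, 0, 0, 1, 0, 0, 0, 0, 0, 0, 0, 0, 0, 0, 0, 0], [1, 2, 2, 3], 1, false)]

/-- Part of a closed path for the prime 7. -/
def path7_4_1 : List SchurPath.Step :=
  [([0, 0, 0, 0, 0, 0, 1, 2, 2, 0, 2, 0, 0, 0, 0, 0, 1, 2, 2, 2, 0, 0, 0, 0, 0, 0, 1, 2, 2, 2, 0, 0, 0, 0, 0, 0, 1, 2, 2, 2, 0, 0, 0, 0, 0, 0, 1, 0, 0, 0, 0, 0, 0], [1, 1, 2, 2, 3], 0, false),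
    ([0, 0, 0, 0, 0, 0, 1, 2, 2, 0, 2, 0, 0, 0, 0, 0, 1, 2, 2, 2, 0, 0, 0, 0, 0, 0, 1, 2, 2, 2, 0, 0, 0, 0, 0, 0, 1, 2, 2, 2, 0, 0, 0, 0, 0, 0], [0, 0, 0, 0, 0, 1, 1, 2, 2, 3], 1, false),
    ([0, 0, 0, 0, 0, 0, 1, 2, 2, 0, 2, 0, 0, 0, 0, 0, 1, 2, 2, 2, 0, 0, 0, 0, 0, 0, 1, 2, 2, 2, 0, 0, 0, 0, 0, 0, 1, 2, 2, 2, 0, 0, 0, 0, 0, 0, 0], [0, 0, 0, 0, 1, 1, 2, 2, 3], 1, false),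
    ([0, 0, 0, 0, 0, 0, 1, 2, 2, 0, 2, 0, 0, 0, 0, 0, 1, 2, 2, 2, 0, 0, 0, 0, 0, 0, 1, 2, 2, 2, 0, 0, 0, 0, 0, 0, 1, 2, 2, 2, 0, 0, 0, 0, 0, 0, 0, 0], [0, 0, 0, 1, 1, 2, 2, 3], 1, false),
    ([0, 0, 0, 0, 0, 0, 1, 2, 2, 0, 2, 0, 0, 0, 0, 0, 1, 2, 2, 2, 0, 0, 0, 0, 0, 0, 1, 2, 2, 2, 0, 0, 0, 0, 0, 0, 1, 2, 2, 2, 0, 0, 0, 0, 0, 0, 0, 0, 0], [0, 0, 1, 1, 2, 2, 3], 1, false),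
    ([0, 0, 0, 0, 0, 0, 1, 2, 2, 0, 2, 0, 0, 0, 0, 0, 1, 2, 2, 2, 0, 0, 0, 0, 0, 0, 1, 2, 2, 2, 0, 0, 0, 0, 0, 0, 1, 2, 2, 2, 0, 0, 0, 0, 0, 0, 0, 0, 0, 0], [0, 1, 1, 2, 2, 3], 1, false),
    ([0, 0, 0, 0, 0, 0, 1, 2, 2, 0, 2, 0, 0, 0, 0, 0, 1, 2, 2, 2, 0, 0, 0, 0, 0, 0, 1, 2, 2, 2, 0, 0, 0, 0, 0, 0, 1, 2, 2, 2, 0, 0, 0, 0, 0, 0, 0, 0, 0, 0, 0], [1, 1, 2, 2, 3], 1, false),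
    ([0, 0, 0, 0, 0, 0, 1, 2, 2, 0, 2, 0, 0, 0, 0, 0, 1, 2, 2, 2, 0, 0, 0, 0, 0, 0, 1, 2, 2, 2, 0, 0, 0, 0, 0, 0, 1, 2, 2, 2, 0, 0, 0, 0, 0], [1, 1, 1, 2, 2, 3], 0, false),
    ([0, 0, 0, 0, 0, 0, 1, 2, 2, 0, 2, 0, 0, 0, 0, 0, 1, 2, 2, 2, 0, 0, 0, 0, 0, 0, 1, 2, 2, 2, 0, 0, 0, 0, 0, 0, 1, 2, 2], [0, 0, 0, 0, 1, 1, 1, 2, 2, 3], 3, false),
    ([0, 0, 0, 0, 0, 0, 1, 2, 2, 0, 2, 0, 0, 0, 0, 0, 1, 2, 2, 2, 0, 0, 0, 0, 0, 0, 1, 2, 2, 2, 0, 0, 0, 0, 0, 0, 1, 2, 2, 0], [0, 0, 0, 1, 1, 1, 2, 2, 3], 3, false),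
    ([0, 0, 0, 0, 0, 0, 1, 2, 2, 0, 2, 0, 0, 0, 0, 0, 1, 2, 2, 2, 0, 0, 0, 0, 0, 0, 1, 2, 2, 2, 0, 0, 0, 0, 0, 0, 1, 2, 2, 0, 0], [0, 0, 1, 1, 1, 2, 2, 3], 3, false),
    ([0, 0, 0, 0, 0, 0, 1, 2, 2, 0, 2, 0, 0, 0, 0, 0, 1, 2, 2, 2, 0, 0, 0, 0, 0, 0, 1, 2, 2, 2, 0, 0, 0, 0, 0, 0, 1, 2, 2, 0, 0, 0], [0, 1, 1, 1, 2, 2, 3], 3, false),
    ([0, 0, 0, 0, 0, 0, 1, 2, 2, 0, 2, 0, 0, 0, 0, 0, 1, 2, 2, 2, 0, 0, 0, 0, 0, 0, 1, 2, 2, 2, 0, 0, 0, 0, 0, 0, 1, 2, 2, 0, 0, 0, 0], [1, 1, 1, 2, 2, 3], 3, false),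
    ([0, 0, 0, 0, 0, 0, 1, 2, 2, 0, 2, 0, 0, 0, 0, 0, 1, 2, 2, 2, 0, 0, 0, 0, 0, 0, 1, 2, 2, 2, 0, 0, 0, 0, 0, 0, 1, 2, 2, 0, 0, 0, 0, 0], [1, 1, 2, 2, 3], 4, false),
    ([0, 0, 0, 0, 0, 0, 1, 2, 2, 0, 2, 0, 0, 0, 0, 0, 1, 2, 2, 2, 0, 0, 0, 0, 0, 0, 1, 2, 2, 2, 0, 0, 0, 0, 0, 0, 1, 2, 2, 0, 0, 0, 0, 0, 0, 0, 0, 0, 1], [1, 2, 2, 3], 4, false),
    ([0, 0, 0, 0, 0, 0, 1, 2, 2, 0, 2, 0, 0, 0, 0, 0, 1, 2, 2, 2, 0, 0, 0, 0, 0, 0, 1, 2, 2, 2, 0, 0, 0, 0, 0, 0, 1, 2, 2, 0, 0, 0, 0, 0, 0, 0, 0, 0, 1, 0, 0, 0, 0, 1], [2, 2, 3], 4, false),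
    ([0, 0, 0, 0, 0, 0, 1, 2, 2, 0, 2, 0, 0, 0, 0, 0, 1, 2, 2, 2, 0, 0, 0, 0, 0, 0, 1, 2, 2, 2, 0, 0, 0, 0, 0, 0, 1, 2, 2, 0, 0, 0, 0, 0, 0, 0, 0, 0, 1, 0, 0, 0, 0], [0, 0, 0, 1, 2, 2, 2, 3], 1, false),
    ([0, 0, 0, 0, 0, 0, 1, 2, 2, 0, 2, 0, 0, 0, 0, 0, 1, 2, 2, 2, 0, 0, 0, 0, 0, 0, 1, 2, 2, 2, 0, 0, 0, 0, 0, 0, 1, 2, 2, 0, 0, 0, 0, 0, 0, 0, 0, 0, 1, 0, 0, 0, 0, 0], [0, 0, 1, 2, 2, 2, 3], 1, false),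
    ([0, 0, 0, 0, 0, 0, 1, 2, 2, 0, 2, 0, 0, 0, 0, 0, 1, 2, 2, 2, 0, 0, 0, 0, 0, 0, 1, 2, 2, 2, 0, 0, 0, 0, 0, 0, 1, 2, 2, 0, 0, 0, 0, 0, 0, 0, 0, 0, 1, 0, 0, 0, 0, 0, 0], [0, 1, 2, 2, 2, 3], 1, false),
    ([0, 0, 0, 0, 0, 0, 1, 2, 2, 0, 2, 0, 0, 0, 0, 0, 1, 2, 2, 2, 0, 0, 0, 0, 0, 0, 1, 2, 2, 2, 0, 0, 0, 0, 0, 0, 1, 2, 2, 0, 0, 0, 0, 0, 0, 0, 0, 0, 1, 0, 0, 0, 0, 0, 0, 0], [1, 2, 2, 2, 3], 1, false),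
    ([0, 0, 0, 0, 0, 0, 1, 2, 2, 0, 2, 0, 0, 0, 0, 0, 1, 2, 2, 2, 0, 0, 0, 0, 0, 0, 1, 2, 2, 2, 0, 0, 0, 0, 0, 0, 1, 2, 2, 0, 0, 0, 0, 0, 0, 0, 0, 0, 1, 0], [1, 1, 2, 2, 2, 3], 0, false),
    ([0, 0, 0, 0, 0, 0, 1, 2, 2, 0, 2, 0, 0, 0, 0, 0, 1, 2, 2, 2, 0, 0, 0, 0, 0, 0, 1, 2, 2, 2, 0, 0, 0, 0, 0, 0, 1, 2, 2, 0, 0, 0, 0, 0, 0, 0, 0, 0], [1, 1, 2, 2, 2, 3], 1, false),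
    ([0, 0, 0, 0, 0, 0, 1, 2, 2, 0, 2, 0, 0, 0, 0, 0, 1, 2, 2, 2, 0, 0, 0, 0, 0, 0, 1, 2, 2, 2, 0, 0, 0, 0, 0, 0, 1, 2, 2, 0, 0, 0], [1, 1, 1, 2, 2, 2, 3], 0, false),
    ([0, 0, 0, 0, 0, 0, 1, 2, 2, 0, 2, 0, 0, 0, 0, 0, 1, 2, 2, 2, 0, 0, 0, 0, 0, 0, 1, 2, 2, 2, 0, 0, 0, 0, 0, 0, 1, 2], [0, 0, 1, 1, 1, 2, 2, 2, 3], 3, false),
    ([0, 0, 0, 0, 0, 0, 1, 2, 2, 0, 2, 0, 0, 0, 0, 0, 1, 2, 2, 2, 0, 0, 0, 0, 0, 0, 1, 2, 2, 2, 0, 0, 0, 0, 0, 0, 1, 2, 0], [0, 1, 1, 1, 2, 2, 2, 3], 3, false),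
    ([0, 0, 0, 0, 0, 0, 1, 2, 2, 0, 2, 0, 0, 0, 0, 0, 1, 2, 2, 2, 0, 0, 0, 0, 0, 0, 1, 2, 2, 2, 0, 0, 0, 0, 0, 0, 1, 2, 0, 0], [1, 1, 1, 2, 2, 2, 3], 3, false),
    ([0, 0, 0, 0, 0, 0, 1, 2, 2, 0, 2, 0, 0, 0, 0, 0, 1, 2, 2, 2, 0, 0, 0, 0, 0, 0, 1, 2, 2, 2, 0, 0, 0, 0, 0, 0, 1, 2, 0, 0, 0], [1, 1, 2, 2, 2, 3], 4, false),
    ([0, 0, 0, 0, 0, 0, 1, 2, 2, 0, 2, 0, 0, 0, 0, 0, 1, 2, 2, 2, 0, 0, 0, 0, 0, 0, 1, 2, 2, 2, 0, 0, 0, 0, 0, 0, 1, 2, 0, 0, 0, 0, 0, 0, 0, 1], [1, 2, 2, 2, 3], 4, false),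
    ([0, 0, 0, 0, 0, 0, 1, 2, 2, 0, 2, 0, 0, 0, 0, 0, 1, 2, 2, 2, 0, 0, 0, 0, 0, 0, 1, 2, 2, 2, 0, 0, 0, 0, 0, 0, 1, 2, 0, 0, 0, 0, 0, 0, 0, 1, 0, 0, 0, 0, 1], [2, 2, 2, 3], 4, false),
    ([0, 0, 0, 0, 0, 0, 1, 2, 2, 0, 2, 0, 0, 0, 0, 0, 1, 2, 2, 2, 0, 0, 0, 0, 0, 0, 1, 2, 2, 2, 0, 0, 0, 0, 0, 0, 1, 2, 0, 0, 0, 0, 0, 0, 0, 1, 0, 0, 0, 0], [0, 0, 0, 1, 2, 2, 2, 2, 3], 1, false),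
    ([0, 0, 0, 0, 0, 0, 1, 2, 2, 0, 2, 0, 0, 0, 0, 0, 1, 2, 2, 2, 0, 0, 0, 0, 0, 0, 1, 2, 2, 2, 0, 0, 0, 0, 0, 0, 1, 2, 0, 0, 0, 0, 0, 0, 0, 1, 0, 0, 0, 0, 0], [0, 0, 1, 2, 2, 2, 2, 3], 1, false),
    ([0, 0, 0, 0, 0, 0, 1, 2, 2, 0, 2, 0, 0, 0, 0, 0, 1, 2, 2, 2, 0, 0, 0, 0, 0, 0, 1, 2, 2, 2, 0, 0, 0, 0, 0, 0, 1, 2, 0, 0, 0, 0, 0, 0, 0, 1, 0, 0, 0, 0, 0, 0], [0, 1, 2, 2, 2, 2, 3], 1, false),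
    ([0, 0, 0, 0, 0, 0, 1, 2, 2, 0, 2, 0, 0, 0, 0, 0, 1, 2, 2, 2, 0, 0, 0, 0, 0, 0, 1, 2, 2, 2, 0, 0, 0, 0, 0, 0, 1, 2, 0, 0, 0, 0, 0, 0, 0, 1, 0, 0, 0, 0, 0, 0, 0], [1, 2, 2, 2, 2, 3], 1, false),
    ([0, 0, 0, 0, 0, 0, 1, 2, 2, 0, 2, 0, 0, 0, 0, 0, 1, 2, 2, 2, 0, 0, 0, 0, 0, 0, 1, 2, 2, 2, 0, 0, 0, 0, 0, 0, 1, 2, 0, 0, 0, 0, 0, 0, 0, 1, 0], [1, 1, 2, 2, 2, 2, 3], 0, false),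
    ([0, 0, 0, 0, 0, 0, 1, 2, 2, 0, 2, 0, 0, 0, 0, 0, 1, 2, 2, 2, 0, 0, 0, 0, 0, 0, 1, 2, 2, 2, 0, 0, 0, 0, 0, 0, 1, 2, 0, 0, 0, 0, 0, 0, 0], [1, 1, 2, 2, 2, 2, 3], 1, false),
    ([0, 0, 0, 0, 0, 0, 1, 2, 2, 0, 2, 0, 0, 0, 0, 0, 1, 2, 2, 2, 0, 0, 0, 0, 0, 0, 1, 2, 2, 2, 0, 0, 0, 0, 0, 0, 1, 2, 0], [1, 1, 1, 2, 2, 2, 2, 3], 0, false),
    ([0, 0, 0, 0, 0, 0, 1, 2, 2, 0, 2, 0, 0, 0, 0, 0, 1, 2, 2, 2, 0, 0, 0, 0, 0, 0, 1, 2, 2, 2, 0, 0, 0, 0, 0, 0, 1], [1, 1, 1, 2, 2, 2, 2, 3], 3, false),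
    ([0, 0, 0, 0, 0, 0, 1, 2, 2, 0, 2, 0, 0, 0, 0, 0, 1, 2, 2, 2, 0, 0, 0, 0, 0, 0, 1, 2, 2, 2, 0, 0, 0, 0, 0, 0, 1, 0], [1, 1, 2, 2, 2, 2, 3], 4, false),
    ([0, 0, 0, 0, 0, 0, 1, 2, 2, 0, 2, 0, 0, 0, 0, 0, 1, 2, 2, 2, 0, 0, 0, 0, 0, 0, 1, 2, 2, 2, 0, 0, 0, 0, 0, 0, 1, 0, 0, 0, 0, 0, 1], [1, 2, 2, 2, 2, 3], 4, false),
    ([0, 0, 0, 0, 0, 0, 1, 2, 2, 0, 2, 0, 0, 0, 0, 0, 1, 2, 2, 2, 0, 0, 0, 0, 0, 0, 1, 2, 2, 2, 0, 0, 0, 0, 0, 0, 1, 0, 0, 0, 0, 0, 1, 0, 0, 0, 0, 1], [2, 2, 2, 2, 3], 4, false),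
    ([0, 0, 0, 0, 0, 0, 1, 2, 2, 0, 2, 0, 0, 0, 0, 0, 1, 2, 2, 2, 0, 0, 0, 0, 0, 0, 1, 2, 2, 2, 0, 0, 0, 0, 0, 0, 1, 0, 0, 0, 0, 0, 1, 0, 0, 0, 0], [0, 0, 0, 1, 2, 2, 2, 2, 2, 3], 1, false),
    ([0, 0, 0, 0, 0, 0, 1, 2, 2, 0, 2, 0, 0, 0, 0, 0, 1, 2, 2, 2, 0, 0, 0, 0, 0, 0, 1, 2, 2, 2, 0, 0, 0, 0, 0, 0, 1, 0, 0, 0, 0, 0, 1, 0, 0, 0, 0, 0], [0, 0, 1, 2, 2, 2, 2, 2, 3], 1, false),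
    ([0, 0, 0, 0, 0, 0, 1, 2, 2, 0, 2, 0, 0, 0, 0, 0, 1, 2, 2, 2, 0, 0, 0, 0, 0, 0, 1, 2, 2, 2, 0, 0, 0, 0, 0, 0, 1, 0, 0, 0, 0, 0, 1, 0, 0, 0, 0, 0, 0], [0, 1, 2, 2, 2, 2, 2, 3], 1, false),
    ([0, 0, 0, 0, 0, 0, 1, 2, 2, 0, 2, 0, 0, 0, 0, 0, 1, 2, 2, 2, 0, 0, 0, 0, 0, 0, 1, 2, 2, 2, 0, 0, 0, 0, 0, 0, 1, 0, 0, 0, 0, 0, 1, 0, 0, 0, 0, 0, 0, 0], [1, 2, 2, 2, 2, 2, 3], 1, false),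
    ([0, 0, 0, 0, 0, 0, 1, 2, 2, 0, 2, 0, 0, 0, 0, 0, 1, 2, 2, 2, 0, 0, 0, 0, 0, 0, 1, 2, 2, 2, 0, 0, 0, 0, 0, 0, 1, 0, 0, 0, 0, 0, 1, 0], [1, 1, 2, 2, 2, 2, 2, 3], 0, false),
    ([0, 0, 0, 0, 0, 0, 1, 2, 2, 0, 2, 0, 0, 0, 0, 0, 1, 2, 2, 2, 0, 0, 0, 0, 0, 0, 1, 2, 2, 2, 0, 0, 0, 0, 0, 0, 1, 0, 0, 0, 0, 0], [1, 1, 2, 2, 2, 2, 2, 3], 1, false),
    ([0, 0, 0, 0, 0, 0, 1, 2, 2, 0, 2, 0, 0, 0, 0, 0, 1, 2, 2, 2, 0, 0, 0, 0, 0, 0, 1, 2, 2, 2, 0, 0, 0, 0, 0, 0], [0, 0, 0, 0, 0, 1, 1, 1, 2, 2, 2, 2, 2, 3], 1, false),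
    ([0, 0, 0, 0, 0, 0, 1, 2, 2, 0, 2, 0, 0, 0, 0, 0, 1, 2, 2, 2, 0, 0, 0, 0, 0, 0, 1, 2, 2, 2, 0, 0, 0, 0, 0, 0, 0], [0, 0, 0, 0, 1, 1, 1, 2, 2, 2, 2, 2, 3], 1, false),
    ([0, 0, 0, 0, 0, 0, 1, 2, 2, 0, 2, 0, 0, 0, 0, 0, 1, 2, 2, 2, 0, 0, 0, 0, 0, 0, 1, 2, 2, 2, 0, 0, 0, 0, 0, 0, 0, 0], [0, 0, 0, 1, 1, 1, 2, 2, 2, 2, 2, 3], 1, false),
    ([0, 0, 0, 0, 0, 0, 1, 2, 2, 0, 2, 0, 0, 0, 0, 0, 1, 2, 2, 2, 0, 0, 0, 0, 0, 0, 1, 2, 2, 2, 0, 0, 0, 0, 0, 0, 0, 0, 0], [0, 0, 1, 1, 1, 2, 2, 2, 2, 2, 3], 1, false),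
    ([0, 0, 0, 0, 0, 0, 1, 2, 2, 0, 2, 0, 0, 0, 0, 0, 1, 2, 2, 2, 0, 0, 0, 0, 0, 0, 1, 2, 2, 2, 0, 0, 0, 0, 0, 0, 0, 0, 0, 0], [0, 1, 1, 1, 2, 2, 2, 2, 2, 3], 1, false),
    ([0, 0, 0, 0, 0, 0, 1, 2, 2, 0, 2, 0, 0, 0, 0, 0, 1, 2, 2, 2, 0, 0, 0, 0, 0, 0, 1, 2, 2, 2, 0, 0, 0, 0, 0, 0, 0, 0, 0, 0, 0], [1, 1, 1, 2, 2, 2, 2, 2, 3], 1, false),
    ([0, 0, 0, 0, 0, 0, 1, 2, 2, 0, 2, 0, 0, 0, 0, 0, 1, 2, 2, 2, 0, 0, 0, 0, 0, 0, 1, 2, 2, 2, 0, 0, 0, 0, 0], [1, 1, 1, 1, 2, 2, 2, 2, 2, 3], 0, false),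
    ([0, 0, 0, 0, 0, 0, 1, 2, 2, 0, 2, 0, 0, 0, 0, 0, 1, 2, 2, 2, 0, 0, 0, 0, 0, 0, 1, 2, 2], [0, 0, 0, 0, 1, 1, 1, 1, 2, 2, 2, 2, 2, 3], 3, false),
    ([0, 0, 0, 0, 0, 0, 1, 2, 2, 0, 2, 0, 0, 0, 0, 0, 1, 2, 2, 2, 0, 0, 0, 0, 0, 0, 1, 2, 2, 0], [0, 0, 0, 1, 1, 1, 1, 2, 2, 2, 2, 2, 3], 3, false),
    ([0, 0, 0, 0, 0, 0, 1, 2, 2, 0, 2, 0, 0, 0, 0, 0, 1, 2, 2, 2, 0, 0, 0, 0, 0, 0, 1, 2, 2, 0, 0], [0, 0, 1, 1, 1, 1, 2, 2, 2, 2, 2, 3], 3, false),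
    ([0, 0, 0, 0, 0, 0, 1, 2, 2, 0, 2, 0, 0, 0, 0, 0, 1, 2, 2, 2, 0, 0, 0, 0, 0, 0, 1, 2, 2, 0, 0, 0], [0, 1, 1, 1, 1, 2, 2, 2, 2, 2, 3], 3, false),
    ([0, 0, 0, 0, 0, 0, 1, 2, 2, 0, 2, 0, 0, 0, 0, 0, 1, 2, 2, 2, 0, 0, 0, 0, 0, 0, 1, 2, 2, 0, 0, 0, 0], [1, 1, 1, 1, 2, 2, 2, 2, 2, 3], 3, false),
    ([0, 0, 0, 0, 0, 0, 1, 2, 2, 0, 2, 0, 0, 0, 0, 0, 1, 2, 2, 2, 0, 0, 0, 0, 0, 0, 1, 2, 2, 0, 0, 0, 0, 0], [1, 1, 1, 2, 2, 2, 2, 2, 3], 4, false),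
    ([0, 0, 0, 0, 0, 0, 1, 2, 2, 0, 2, 0, 0, 0, 0, 0, 1, 2, 2, 2, 0, 0, 0, 0, 0, 0, 1, 2, 2, 0, 0, 0, 0, 0, 0, 0, 0, 0, 1], [1, 1, 2, 2, 2, 2, 2, 3], 4, false)]

/-- Part of a closed path for the prime 7. -/
def path7_4_2 : List SchurPath.Step :=
  [([0, 0, 0, 0, 0, 0, 1, 2, 2, 0, 2, 0, 0, 0, 0, 0, 1, 2, 2, 2, 0, 0, 0, 0, 0, 0, 1, 2, 2, 0, 0, 0, 0, 0, 0, 0, 0, 0, 1, 0, 0, 0, 0, 1], [1, 2, 2, 2, 2, 2, 3], 4, false),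
    ([0, 0, 0, 0, 0, 0, 1, 2, 2, 0, 2, 0, 0, 0, 0, 0, 1, 2, 2, 2, 0, 0, 0, 0, 0, 0, 1, 2, 2, 0, 0, 0, 0, 0, 0, 0, 0, 0, 1, 0, 0, 0, 0, 1, 0, 0, 0, 0, 1], [2, 2, 2, 2, 2, 3], 4, false),
    ([0, 0, 0, 0, 0, 0, 1, 2, 2, 0, 2, 0, 0, 0, 0, 0, 1, 2, 2, 2, 0, 0, 0, 0, 0, 0, 1, 2, 2, 0, 0, 0, 0, 0, 0, 0, 0, 0, 1, 0, 0, 0, 0, 1, 0, 0, 0, 0], [0, 0, 0, 1, 2, 2, 2, 2, 2, 2, 3], 1, false),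
    ([0, 0, 0, 0, 0, 0, 1, 2, 2, 0, 2, 0, 0, 0, 0, 0, 1, 2, 2, 2, 0, 0, 0, 0, 0, 0, 1, 2, 2, 0, 0, 0, 0, 0, 0, 0, 0, 0, 1, 0, 0, 0, 0, 1, 0, 0, 0, 0, 0], [0, 0, 1, 2, 2, 2, 2, 2, 2, 3], 1, false),
    ([0, 0, 0, 0, 0, 0, 1, 2, 2, 0, 2, 0, 0, 0, 0, 0, 1, 2, 2, 2, 0, 0, 0, 0, 0, 0, 1, 2, 2, 0, 0, 0, 0, 0, 0, 0, 0, 0, 1, 0, 0, 0, 0, 1, 0, 0, 0, 0, 0, 0], [0, 1, 2, 2, 2, 2, 2, 2, 3], 1, false),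
    ([0, 0, 0, 0, 0, 0, 1, 2, 2, 0, 2, 0, 0, 0, 0, 0, 1, 2, 2, 2, 0, 0, 0, 0, 0, 0, 1, 2, 2, 0, 0, 0, 0, 0, 0, 0, 0, 0, 1, 0, 0, 0, 0, 1, 0, 0, 0, 0, 0, 0, 0], [1, 2, 2, 2, 2, 2, 2, 3], 1, false),
    ([0, 0, 0, 0, 0, 0, 1, 2, 2, 0, 2, 0, 0, 0, 0, 0, 1, 2, 2, 2, 0, 0, 0, 0, 0, 0, 1, 2, 2, 0, 0, 0, 0, 0, 0, 0, 0, 0, 1, 0, 0, 0, 0, 1, 0], [1, 1, 2, 2, 2, 2, 2, 2, 3], 0, false),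
    ([0, 0, 0, 0, 0, 0, 1, 2, 2, 0, 2, 0, 0, 0, 0, 0, 1, 2, 2, 2, 0, 0, 0, 0, 0, 0, 1, 2, 2, 0, 0, 0, 0, 0, 0, 0, 0, 0, 1, 0, 0, 0, 0], [1, 1, 2, 2, 2, 2, 2, 2, 3], 1, false),
    ([0, 0, 0, 0, 0, 0, 1, 2, 2, 0, 2, 0, 0, 0, 0, 0, 1, 2, 2, 2, 0, 0, 0, 0, 0, 0, 1, 2, 2, 0, 0, 0, 0, 0, 0, 0, 0, 0], [0, 0, 0, 0, 1, 1, 1, 2, 2, 2, 2, 2, 2, 3], 1, false),
    ([0, 0, 0, 0, 0, 0, 1, 2, 2, 0, 2, 0, 0, 0, 0, 0, 1, 2, 2, 2, 0, 0, 0, 0, 0, 0, 1, 2, 2, 0, 0, 0, 0, 0, 0, 0, 0, 0, 0], [0, 0, 0, 1, 1, 1, 2, 2, 2, 2, 2, 2, 3], 1, false),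
    ([0, 0, 0, 0, 0, 0, 1, 2, 2, 0, 2, 0, 0, 0, 0, 0, 1, 2, 2, 2, 0, 0, 0, 0, 0, 0, 1, 2, 2, 0, 0, 0, 0, 0, 0, 0, 0, 0, 0, 0], [0, 0, 1, 1, 1, 2, 2, 2, 2, 2, 2, 3], 1, false),
    ([0, 0, 0, 0, 0, 0, 1, 2, 2, 0, 2, 0, 0, 0, 0, 0, 1, 2, 2, 2, 0, 0, 0, 0, 0, 0, 1, 2, 2, 0, 0, 0, 0, 0, 0, 0, 0, 0, 0, 0, 0], [0, 1, 1, 1, 2, 2, 2, 2, 2, 2, 3], 1, false),
    ([0, 0, 0, 0, 0, 0, 1, 2, 2, 0, 2, 0, 0, 0, 0, 0, 1, 2, 2, 2, 0, 0, 0, 0, 0, 0, 1, 2, 2, 0, 0, 0, 0, 0, 0, 0, 0, 0, 0, 0, 0, 0], [1, 1, 1, 2, 2, 2, 2, 2, 2, 3], 1, false),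
    ([0, 0, 0, 0, 0, 0, 1, 2, 2, 0, 2, 0, 0, 0, 0, 0, 1, 2, 2, 2, 0, 0, 0, 0, 0, 0, 1, 2, 2, 0, 0, 0, 0, 0, 0, 0], [1, 1, 1, 1, 2, 2, 2, 2, 2, 2, 3], 0, false),
    ([0, 0, 0, 0, 0, 0, 1, 2, 2, 0, 2, 0, 0, 0, 0, 0, 1, 2, 2, 2, 0, 0, 0, 0, 0, 0, 1, 2, 2], [1, 1, 1, 1, 2, 2, 2, 2, 2, 2, 3], 0, false),
    ([0, 0, 0, 0, 0, 0, 1, 2, 2, 0, 2, 0, 0, 0, 0, 0, 1, 2, 2, 2, 0, 0, 0, 0, 0, 0, 1, 2], [1, 1, 1, 2, 2, 2, 2, 2, 2, 3], 4, false),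
    ([0, 0, 0, 0, 0, 0, 1, 2, 2, 0, 2, 0, 0, 0, 0, 0, 1, 2, 2, 2, 0, 0, 0, 0, 0, 0, 1, 2, 0, 0, 0, 0, 1], [1, 1, 2, 2, 2, 2, 2, 2, 3], 4, false),
    ([0, 0, 0, 0, 0, 0, 1, 2, 2, 0, 2, 0, 0, 0, 0, 0, 1, 2, 2, 2, 0, 0, 0, 0, 0, 0, 1, 2, 0, 0, 0, 0, 1, 0, 0, 0, 0, 1], [1, 2, 2, 2, 2, 2, 2, 3], 4, false),
    ([0, 0, 0, 0, 0, 0, 1, 2, 2, 0, 2, 0, 0, 0, 0, 0, 1, 2, 2, 2, 0, 0, 0, 0, 0, 0, 1, 2, 0, 0, 0, 0, 1, 0, 0, 0, 0, 1, 0, 0, 0, 0, 1], [2, 2, 2, 2, 2, 2, 3], 4, false),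
    ([0, 0, 0, 0, 0, 0, 1, 2, 2, 0, 2, 0, 0, 0, 0, 0, 1, 2, 2, 2, 0, 0, 0, 0, 0, 0, 1, 2, 0, 0, 0, 0, 1, 0, 0, 0, 0, 1, 0, 0, 0, 0, 1, 0, 0, 0, 0, 1], [3], 5, false),
    ([0, 0, 0, 0, 0, 0, 1, 2, 2, 0, 2, 0, 0, 0, 0, 0, 1, 2, 2, 2, 0, 0, 0, 0, 0, 0, 1, 2, 0, 0, 0, 0, 1, 0, 0, 0, 0, 1, 0, 0, 0, 0], [0, 0, 0, 1, 3], 1, false),
    ([0, 0, 0, 0, 0, 0, 1, 2, 2, 0, 2, 0, 0, 0, 0, 0, 1, 2, 2, 2, 0, 0, 0, 0, 0, 0, 1, 2, 0, 0, 0, 0, 1, 0, 0, 0, 0, 1, 0, 0, 0, 0, 0], [0, 0, 1, 3], 1, false),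
    ([0, 0, 0, 0, 0, 0, 1, 2, 2, 0, 2, 0, 0, 0, 0, 0, 1, 2, 2, 2, 0, 0, 0, 0, 0, 0, 1, 2, 0, 0, 0, 0, 1, 0, 0, 0, 0, 1, 0, 0, 0, 0, 0, 0], [0, 1, 3], 1, false),
    ([0, 0, 0, 0, 0, 0, 1, 2, 2, 0, 2, 0, 0, 0, 0, 0, 1, 2, 2, 2, 0, 0, 0, 0, 0, 0, 1, 2, 0, 0, 0, 0, 1, 0, 0, 0, 0, 1, 0, 0, 0, 0, 0, 0, 0], [1, 3], 1, false),
    ([0, 0, 0, 0, 0, 0, 1, 2, 2, 0, 2, 0, 0, 0, 0, 0, 1, 2, 2, 2, 0, 0, 0, 0, 0, 0, 1, 2, 0, 0, 0, 0, 1, 0, 0, 0, 0, 1, 0], [1, 1, 3], 0, false),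
    ([0, 0, 0, 0, 0, 0, 1, 2, 2, 0, 2, 0, 0, 0, 0, 0, 1, 2, 2, 2, 0, 0, 0, 0, 0, 0, 1, 2, 0, 0, 0, 0, 1, 0, 0, 0, 0], [1, 1, 3], 1, false),
    ([0, 0, 0, 0, 0, 0, 1, 2, 2, 0, 2, 0, 0, 0, 0, 0, 1, 2, 2, 2, 0, 0, 0, 0, 0, 0, 1, 2, 0, 0, 0, 0], [0, 0, 0, 0, 1, 1, 1, 3], 1, false),
    ([0, 0, 0, 0, 0, 0, 1, 2, 2, 0, 2, 0, 0, 0, 0, 0, 1, 2, 2, 2, 0, 0, 0, 0, 0, 0, 1, 2, 0, 0, 0, 0, 0], [0, 0, 0, 1, 1, 1, 3], 1, false),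
    ([0, 0, 0, 0, 0, 0, 1, 2, 2, 0, 2, 0, 0, 0, 0, 0, 1, 2, 2, 2, 0, 0, 0, 0, 0, 0, 1, 2, 0, 0, 0, 0, 0, 0], [0, 0, 1, 1, 1, 3], 1, false),
    ([0, 0, 0, 0, 0, 0, 1, 2, 2, 0, 2, 0, 0, 0, 0, 0, 1, 2, 2, 2, 0, 0, 0, 0, 0, 0, 1, 2, 0, 0, 0, 0, 0, 0, 0], [0, 1, 1, 1, 3], 1, false),
    ([0, 0, 0, 0, 0, 0, 1, 2, 2, 0, 2, 0, 0, 0, 0, 0, 1, 2, 2, 2, 0, 0, 0, 0, 0, 0, 1, 2, 0, 0, 0, 0, 0, 0, 0, 0], [1, 1, 1, 3], 1, false),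
    ([0, 0, 0, 0, 0, 0, 1, 2, 2, 0, 2, 0, 0, 0, 0, 0, 1, 2, 2, 2, 0, 0, 0, 0, 0, 0, 1, 2, 0, 0], [1, 1, 1, 1, 3], 0, false),
    ([0, 0, 0, 0, 0, 0, 1, 2, 2, 0, 2, 0, 0, 0, 0, 0, 1, 2, 2, 2, 0, 0, 0, 0, 0, 0, 1], [0, 1, 1, 1, 1, 3], 3, false),
    ([0, 0, 0, 0, 0, 0, 1, 2, 2, 0, 2, 0, 0, 0, 0, 0, 1, 2, 2, 2, 0, 0, 0, 0, 0, 0, 1, 0], [1, 1, 1, 1, 3], 3, false),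
    ([0, 0, 0, 0, 0, 0, 1, 2, 2, 0, 2, 0, 0, 0, 0, 0, 1, 2, 2, 2, 0, 0, 0, 0, 0, 0, 1, 0, 0], [1, 1, 1, 3], 4, false),
    ([0, 0, 0, 0, 0, 0, 1, 2, 2, 0, 2, 0, 0, 0, 0, 0, 1, 2, 2, 2, 0, 0, 0, 0, 0, 0, 1, 0, 0, 0, 0, 0, 0, 1], [1, 1, 3], 4, false),
    ([0, 0, 0, 0, 0, 0, 1, 2, 2, 0, 2, 0, 0, 0, 0, 0, 1, 2, 2, 2, 0, 0, 0, 0, 0, 0, 1, 0, 0, 0, 0, 0, 0, 1, 0, 0, 0, 0, 1], [1, 3], 4, false),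
    ([0, 0, 0, 0, 0, 0, 1, 2, 2, 0, 2, 0, 0, 0, 0, 0, 1, 2, 2, 2, 0, 0, 0, 0, 0, 0, 1, 0, 0, 0, 0, 0, 0, 1, 0, 0, 0, 0, 1, 0, 0, 0, 0, 1], [3], 4, false),
    ([0, 0, 0, 0, 0, 0, 1, 2, 2, 0, 2, 0, 0, 0, 0, 0, 1, 2, 2, 2, 0, 0, 0, 0, 0, 0, 1, 0, 0, 0, 0, 0, 0, 1, 0, 0, 0, 0, 1, 0, 0, 0, 0], [0, 0, 0, 1, 2, 3], 1, false),
    ([0, 0, 0, 0, 0, 0, 1, 2, 2, 0, 2, 0, 0, 0, 0, 0, 1, 2, 2, 2, 0, 0, 0, 0, 0, 0, 1, 0, 0, 0, 0, 0, 0, 1, 0, 0, 0, 0, 1, 0, 0, 0, 0, 0], [0, 0, 1, 2, 3], 1, false),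
    ([0, 0, 0, 0, 0, 0, 1, 2, 2, 0, 2, 0, 0, 0, 0, 0, 1, 2, 2, 2, 0, 0, 0, 0, 0, 0, 1, 0, 0, 0, 0, 0, 0, 1, 0, 0, 0, 0, 1, 0, 0, 0, 0, 0, 0], [0, 1, 2, 3], 1, false),
    ([0, 0, 0, 0, 0, 0, 1, 2, 2, 0, 2, 0, 0, 0, 0, 0, 1, 2, 2, 2, 0, 0, 0, 0, 0, 0, 1, 0, 0, 0, 0, 0, 0, 1, 0, 0, 0, 0, 1, 0, 0, 0, 0, 0, 0, 0], [1, 2, 3], 1, false),
    ([0, 0, 0, 0, 0, 0, 1, 2, 2, 0, 2, 0, 0, 0, 0, 0, 1, 2, 2, 2, 0, 0, 0, 0, 0, 0, 1, 0, 0, 0, 0, 0, 0, 1, 0, 0, 0, 0, 1, 0], [1, 1, 2, 3], 0, false),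
    ([0, 0, 0, 0, 0, 0, 1, 2, 2, 0, 2, 0, 0, 0, 0, 0, 1, 2, 2, 2, 0, 0, 0, 0, 0, 0, 1, 0, 0, 0, 0, 0, 0, 1, 0, 0, 0, 0], [1, 1, 2, 3], 1, false),
    ([0, 0, 0, 0, 0, 0, 1, 2, 2, 0, 2, 0, 0, 0, 0, 0, 1, 2, 2, 2, 0, 0, 0, 0, 0, 0, 1, 0, 0, 0, 0, 0, 0], [0, 0, 0, 0, 1, 1, 1, 2, 3], 1, false),
    ([0, 0, 0, 0, 0, 0, 1, 2, 2, 0, 2, 0, 0, 0, 0, 0, 1, 2, 2, 2, 0, 0, 0, 0, 0, 0, 1, 0, 0, 0, 0, 0, 0, 0], [0, 0, 0, 1, 1, 1, 2, 3], 1, false),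
    ([0, 0, 0, 0, 0, 0, 1, 2, 2, 0, 2, 0, 0, 0, 0, 0, 1, 2, 2, 2, 0, 0, 0, 0, 0, 0, 1, 0, 0, 0, 0, 0, 0, 0, 0], [0, 0, 1, 1, 1, 2, 3], 1, false),
    ([0, 0, 0, 0, 0, 0, 1, 2, 2, 0, 2, 0, 0, 0, 0, 0, 1, 2, 2, 2, 0, 0, 0, 0, 0, 0, 1, 0, 0, 0, 0, 0, 0, 0, 0, 0], [0, 1, 1, 1, 2, 3], 1, false),
    ([0, 0, 0, 0, 0, 0, 1, 2, 2, 0, 2, 0, 0, 0, 0, 0, 1, 2, 2, 2, 0, 0, 0, 0, 0, 0, 1, 0, 0, 0, 0, 0, 0, 0, 0, 0, 0], [1, 1, 1, 2, 3], 1, false),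
    ([0, 0, 0, 0, 0, 0, 1, 2, 2, 0, 2, 0, 0, 0, 0, 0, 1, 2, 2, 2, 0, 0, 0, 0, 0, 0, 1, 0, 0, 0, 0], [1, 1, 1, 1, 2, 3], 0, false),
    ([0, 0, 0, 0, 0, 0, 1, 2, 2, 0, 2, 0, 0, 0, 0, 0, 1, 2, 2, 2, 0, 0, 0, 0, 0, 0], [0, 0, 0, 1, 1, 1, 1, 2, 3], 1, false),
    ([0, 0, 0, 0, 0, 0, 1, 2, 2, 0, 2, 0, 0, 0, 0, 0, 1, 2, 2, 2, 0, 0, 0, 0, 0, 0, 0], [0, 0, 1, 1, 1, 1, 2, 3], 1, false),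
    ([0, 0, 0, 0, 0, 0, 1, 2, 2, 0, 2, 0, 0, 0, 0, 0, 1, 2, 2, 2, 0, 0, 0, 0, 0, 0, 0, 0], [0, 1, 1, 1, 1, 2, 3], 1, false),
    ([0, 0, 0, 0, 0, 0, 1, 2, 2, 0, 2, 0, 0, 0, 0, 0, 1, 2, 2, 2, 0, 0, 0, 0, 0, 0, 0, 0, 0], [1, 1, 1, 1, 2, 3], 1, false),
    ([0, 0, 0, 0, 0, 0, 1, 2, 2, 0, 2, 0, 0, 0, 0, 0, 1, 2, 2, 2, 0, 0, 0], [1, 1, 1, 1, 1, 2, 3], 0, false),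
    ([0, 0, 0, 0, 0, 0, 1, 2, 2, 0, 2, 0, 0, 0, 0, 0, 1, 2, 2], [0, 0, 1, 1, 1, 1, 1, 2, 3], 3, false),
    ([0, 0, 0, 0, 0, 0, 1, 2, 2, 0, 2, 0, 0, 0, 0, 0, 1, 2, 2, 0], [0, 1, 1, 1, 1, 1, 2, 3], 3, false),
    ([0, 0, 0, 0, 0, 0, 1, 2, 2, 0, 2, 0, 0, 0, 0, 0, 1, 2, 2, 0, 0], [1, 1, 1, 1, 1, 2, 3], 3, false),
    ([0, 0, 0, 0, 0, 0, 1, 2, 2, 0, 2, 0, 0, 0, 0, 0, 1, 2, 2, 0, 0, 0], [1, 1, 1, 1, 2, 3], 4, false),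
    ([0, 0, 0, 0, 0, 0, 1, 2, 2, 0, 2, 0, 0, 0, 0, 0, 1, 2, 2, 0, 0, 0, 0, 0, 0, 0, 1], [1, 1, 1, 2, 3], 4, false)]

/-- Part of a closed path for the prime 7. -/
def path7_4_3 : List SchurPath.Step :=
  [([0, 0, 0, 0, 0, 0, 1, 2, 2, 0, 2, 0, 0, 0, 0, 0, 1, 2, 2, 0, 0, 0, 0, 0, 0, 0, 1, 0, 0, 0, 0, 1], [1, 1, 2, 3], 4, false),
    ([0, 0, 0, 0, 0, 0, 1, 2, 2, 0, 2, 0, 0, 0, 0, 0, 1, 2, 2, 0, 0, 0, 0, 0, 0, 0, 1, 0, 0, 0, 0, 1, 0, 0, 0, 0, 1], [1, 2, 3], 4, false),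
    ([0, 0, 0, 0, 0, 0, 1, 2, 2, 0, 2, 0, 0, 0, 0, 0, 1, 2, 2, 0, 0, 0, 0, 0, 0, 0, 1, 0, 0, 0, 0, 1, 0, 0, 0, 0, 1, 0, 0, 0, 0, 1], [2, 3], 4, false),
    ([0, 0, 0, 0, 0, 0, 1, 2, 2, 0, 2, 0, 0, 0, 0, 0, 1, 2, 2, 0, 0, 0, 0, 0, 0, 0, 1, 0, 0, 0, 0, 1, 0, 0, 0, 0, 1, 0, 0, 0, 0], [0, 0, 0, 1, 2, 2, 3], 1, false),
    ([0, 0, 0, 0, 0, 0, 1, 2, 2, 0, 2, 0, 0, 0, 0, 0, 1, 2, 2, 0, 0, 0, 0, 0, 0, 0, 1, 0, 0, 0, 0, 1, 0, 0, 0, 0, 1, 0, 0, 0, 0, 0], [0, 0, 1, 2, 2, 3], 1, false),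
    ([0, 0, 0, 0, 0, 0, 1, 2, 2, 0, 2, 0, 0, 0, 0, 0, 1, 2, 2, 0, 0, 0, 0, 0, 0, 0, 1, 0, 0, 0, 0, 1, 0, 0, 0, 0, 1, 0, 0, 0, 0, 0, 0], [0, 1, 2, 2, 3], 1, false),
    ([0, 0, 0, 0, 0, 0, 1, 2, 2, 0, 2, 0, 0, 0, 0, 0, 1, 2, 2, 0, 0, 0, 0, 0, 0, 0, 1, 0, 0, 0, 0, 1, 0, 0, 0, 0, 1, 0, 0, 0, 0, 0, 0, 0], [1, 2, 2, 3], 1, false),
    ([0, 0, 0, 0, 0, 0, 1, 2, 2, 0, 2, 0, 0, 0, 0, 0, 1, 2, 2, 0, 0, 0, 0, 0, 0, 0, 1, 0, 0, 0, 0, 1, 0, 0, 0, 0, 1, 0], [1, 1, 2, 2, 3], 0, false),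
    ([0, 0, 0, 0, 0, 0, 1, 2, 2, 0, 2, 0, 0, 0, 0, 0, 1, 2, 2, 0, 0, 0, 0, 0, 0, 0, 1, 0, 0, 0, 0, 1, 0, 0, 0, 0], [1, 1, 2, 2, 3], 1, false),
    ([0, 0, 0, 0, 0, 0, 1, 2, 2, 0, 2, 0, 0, 0, 0, 0, 1, 2, 2, 0, 0, 0, 0, 0, 0, 0, 1, 0, 0, 0, 0], [0, 0, 0, 0, 1, 1, 1, 2, 2, 3], 1, false),
    ([0, 0, 0, 0, 0, 0, 1, 2, 2, 0, 2, 0, 0, 0, 0, 0, 1, 2, 2, 0, 0, 0, 0, 0, 0, 0, 1, 0, 0, 0, 0, 0], [0, 0, 0, 1, 1, 1, 2, 2, 3], 1, false),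
    ([0, 0, 0, 0, 0, 0, 1, 2, 2, 0, 2, 0, 0, 0, 0, 0, 1, 2, 2, 0, 0, 0, 0, 0, 0, 0, 1, 0, 0, 0, 0, 0, 0], [0, 0, 1, 1, 1, 2, 2, 3], 1, false),
    ([0, 0, 0, 0, 0, 0, 1, 2, 2, 0, 2, 0, 0, 0, 0, 0, 1, 2, 2, 0, 0, 0, 0, 0, 0, 0, 1, 0, 0, 0, 0, 0, 0, 0], [0, 1, 1, 1, 2, 2, 3], 1, false),
    ([0, 0, 0, 0, 0, 0, 1, 2, 2, 0, 2, 0, 0, 0, 0, 0, 1, 2, 2, 0, 0, 0, 0, 0, 0, 0, 1, 0, 0, 0, 0, 0, 0, 0, 0], [1, 1, 1, 2, 2, 3], 1, false),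
    ([0, 0, 0, 0, 0, 0, 1, 2, 2, 0, 2, 0, 0, 0, 0, 0, 1, 2, 2, 0, 0, 0, 0, 0, 0, 0, 1, 0, 0], [1, 1, 1, 1, 2, 2, 3], 0, false),
    ([0, 0, 0, 0, 0, 0, 1, 2, 2, 0, 2, 0, 0, 0, 0, 0, 1, 2, 2, 0, 0, 0, 0, 0, 0, 0], [0, 1, 1, 1, 1, 2, 2, 3], 1, false),
    ([0, 0, 0, 0, 0, 0, 1, 2, 2, 0, 2, 0, 0, 0, 0, 0, 1, 2, 2, 0, 0, 0, 0, 0, 0, 0, 0], [1, 1, 1, 1, 2, 2, 3], 1, false),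
    ([0, 0, 0, 0, 0, 0, 1, 2, 2, 0, 2, 0, 0, 0, 0, 0, 1, 2, 2, 0, 0], [1, 1, 1, 1, 1, 2, 2, 3], 0, false),
    ([0, 0, 0, 0, 0, 0, 1, 2, 2, 0, 2, 0, 0, 0, 0, 0, 1, 2], [0, 1, 1, 1, 1, 1, 2, 2, 3], 3, false),
    ([0, 0, 0, 0, 0, 0, 1, 2, 2, 0, 2, 0, 0, 0, 0, 0, 1, 2, 0], [1, 1, 1, 1, 1, 2, 2, 3], 3, false),
    ([0, 0, 0, 0, 0, 0, 1, 2, 2, 0, 2, 0, 0, 0, 0, 0, 1, 2, 0, 0], [1, 1, 1, 1, 2, 2, 3], 4, false),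
    ([0, 0, 0, 0, 0, 0, 1, 2, 2, 0, 2, 0, 0, 0, 0, 0, 1, 2, 0, 0, 0, 0, 0, 0, 1], [1, 1, 1, 2, 2, 3], 4, false),
    ([0, 0, 0, 0, 0, 0, 1, 2, 2, 0, 2, 0, 0, 0, 0, 0, 1, 2, 0, 0, 0, 0, 0, 0, 1, 0, 0, 0, 0, 1], [1, 1, 2, 2, 3], 4, false),
    ([0, 0, 0, 0, 0, 0, 1, 2, 2, 0, 2, 0, 0, 0, 0, 0, 1, 2, 0, 0, 0, 0, 0, 0, 1, 0, 0, 0, 0, 1, 0, 0, 0, 0, 1], [1, 2, 2, 3], 4, false),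
    ([0, 0, 0, 0, 0, 0, 1, 2, 2, 0, 2, 0, 0, 0, 0, 0, 1, 2, 0, 0, 0, 0, 0, 0, 1, 0, 0, 0, 0, 1, 0, 0, 0, 0, 1, 0, 0, 0, 0, 1], [2, 2, 3], 4, false),
    ([0, 0, 0, 0, 0, 0, 1, 2, 2, 0, 2, 0, 0, 0, 0, 0, 1, 2, 0, 0, 0, 0, 0, 0, 1, 0, 0, 0, 0, 1, 0, 0, 0, 0, 1, 0, 0, 0, 0], [0, 0, 0, 1, 2, 2, 2, 3], 1, false),
    ([0, 0, 0, 0, 0, 0, 1, 2, 2, 0, 2, 0, 0, 0, 0, 0, 1, 2, 0, 0, 0, 0, 0, 0, 1, 0, 0, 0, 0, 1, 0, 0, 0, 0, 1, 0, 0, 0, 0, 0], [0, 0, 1, 2, 2, 2, 3], 1, false),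
    ([0, 0, 0, 0, 0, 0, 1, 2, 2, 0, 2, 0, 0, 0, 0, 0, 1, 2, 0, 0, 0, 0, 0, 0, 1, 0, 0, 0, 0, 1, 0, 0, 0, 0, 1, 0, 0, 0, 0, 0, 0], [0, 1, 2, 2, 2, 3], 1, false),
    ([0, 0, 0, 0, 0, 0, 1, 2, 2, 0, 2, 0, 0, 0, 0, 0, 1, 2, 0, 0, 0, 0, 0, 0, 1, 0, 0, 0, 0, 1, 0, 0, 0, 0, 1, 0, 0, 0, 0, 0, 0, 0], [1, 2, 2, 2, 3], 1, false),
    ([0, 0, 0, 0, 0, 0, 1, 2, 2, 0, 2, 0, 0, 0, 0, 0, 1, 2, 0, 0, 0, 0, 0, 0, 1, 0, 0, 0, 0, 1, 0, 0, 0, 0, 1, 0], [1, 1, 2, 2, 2, 3], 0, false),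
    ([0, 0, 0, 0, 0, 0, 1, 2, 2, 0, 2, 0, 0, 0, 0, 0, 1, 2, 0, 0, 0, 0, 0, 0, 1, 0, 0, 0, 0, 1, 0, 0, 0, 0], [1, 1, 2, 2, 2, 3], 1, false),
    ([0, 0, 0, 0, 0, 0, 1, 2, 2, 0, 2, 0, 0, 0, 0, 0, 1, 2, 0, 0, 0, 0, 0, 0, 1, 0, 0, 0, 0], [0, 0, 0, 0, 1, 1, 1, 2, 2, 2, 3], 1, false),
    ([0, 0, 0, 0, 0, 0, 1, 2, 2, 0, 2, 0, 0, 0, 0, 0, 1, 2, 0, 0, 0, 0, 0, 0, 1, 0, 0, 0, 0, 0], [0, 0, 0, 1, 1, 1, 2, 2, 2, 3], 1, false),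
    ([0, 0, 0, 0, 0, 0, 1, 2, 2, 0, 2, 0, 0, 0, 0, 0, 1, 2, 0, 0, 0, 0, 0, 0, 1, 0, 0, 0, 0, 0, 0], [0, 0, 1, 1, 1, 2, 2, 2, 3], 1, false),
    ([0, 0, 0, 0, 0, 0, 1, 2, 2, 0, 2, 0, 0, 0, 0, 0, 1, 2, 0, 0, 0, 0, 0, 0, 1, 0, 0, 0, 0, 0, 0, 0], [0, 1, 1, 1, 2, 2, 2, 3], 1, false),
    ([0, 0, 0, 0, 0, 0, 1, 2, 2, 0, 2, 0, 0, 0, 0, 0, 1, 2, 0, 0, 0, 0, 0, 0, 1, 0, 0, 0, 0, 0, 0, 0, 0], [1, 1, 1, 2, 2, 2, 3], 1, false),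
    ([0, 0, 0, 0, 0, 0, 1, 2, 2, 0, 2, 0, 0, 0, 0, 0, 1, 2, 0, 0, 0, 0, 0, 0, 1, 0, 0], [1, 1, 1, 1, 2, 2, 2, 3], 0, false),
    ([0, 0, 0, 0, 0, 0, 1, 2, 2, 0, 2, 0, 0, 0, 0, 0, 1, 2, 0, 0, 0, 0, 0, 0], [0, 1, 1, 1, 1, 2, 2, 2, 3], 1, false),
    ([0, 0, 0, 0, 0, 0, 1, 2, 2, 0, 2, 0, 0, 0, 0, 0, 1, 2, 0, 0, 0, 0, 0, 0, 0], [1, 1, 1, 1, 2, 2, 2, 3], 1, false),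
    ([0, 0, 0, 0, 0, 0, 1, 2, 2, 0, 2, 0, 0, 0, 0, 0, 1, 2, 0], [1, 1, 1, 1, 1, 2, 2, 2, 3], 0, false),
    ([0, 0, 0, 0, 0, 0, 1, 2, 2, 0, 2, 0, 0, 0, 0, 0, 1], [1, 1, 1, 1, 1, 2, 2, 2, 3], 3, false),
    ([0, 0, 0, 0, 0, 0, 1, 2, 2, 0, 2, 0, 0, 0, 0, 0, 1, 0], [1, 1, 1, 1, 2, 2, 2, 3], 4, false),
    ([0, 0, 0, 0, 0, 0, 1, 2, 2, 0, 2, 0, 0, 0, 0, 0, 1, 0, 0, 0, 0, 0, 1], [1, 1, 1, 2, 2, 2, 3], 4, false),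
    ([0, 0, 0, 0, 0, 0, 1, 2, 2, 0, 2, 0, 0, 0, 0, 0, 1, 0, 0, 0, 0, 0, 1, 0, 0, 0, 0, 1], [1, 1, 2, 2, 2, 3], 4, false),
    ([0, 0, 0, 0, 0, 0, 1, 2, 2, 0, 2, 0, 0, 0, 0, 0, 1, 0, 0, 0, 0, 0, 1, 0, 0, 0, 0, 1, 0, 0, 0, 0, 1], [1, 2, 2, 2, 3], 4, false),
    ([0, 0, 0, 0, 0, 0, 1, 2, 2, 0, 2, 0, 0, 0, 0, 0, 1, 0, 0, 0, 0, 0, 1, 0, 0, 0, 0, 1, 0, 0, 0, 0, 1, 0, 0, 0, 0, 1], [2, 2, 2, 3], 4, false),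
    ([0, 0, 0, 0, 0, 0, 1, 2, 2, 0, 2, 0, 0, 0, 0, 0, 1, 0, 0, 0, 0, 0, 1, 0, 0, 0, 0, 1, 0, 0, 0, 0, 1, 0, 0, 0, 0], [0, 0, 0, 1, 2, 2, 2, 2, 3], 1, false),
    ([0, 0, 0, 0, 0, 0, 1, 2, 2, 0, 2, 0, 0, 0, 0, 0, 1, 0, 0, 0, 0, 0, 1, 0, 0, 0, 0, 1, 0, 0, 0, 0, 1, 0, 0, 0, 0, 0], [0, 0, 1, 2, 2, 2, 2, 3], 1, false),
    ([0, 0, 0, 0, 0, 0, 1, 2, 2, 0, 2, 0, 0, 0, 0, 0, 1, 0, 0, 0, 0, 0, 1, 0, 0, 0, 0, 1, 0, 0, 0, 0, 1, 0, 0, 0, 0, 0, 0], [0, 1, 2, 2, 2, 2, 3], 1, false),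
    ([0, 0, 0, 0, 0, 0, 1, 2, 2, 0, 2, 0, 0, 0, 0, 0, 1, 0, 0, 0, 0, 0, 1, 0, 0, 0, 0, 1, 0, 0, 0, 0, 1, 0, 0, 0, 0, 0, 0, 0], [1, 2, 2, 2, 2, 3], 1, false),
    ([0, 0, 0, 0, 0, 0, 1, 2, 2, 0, 2, 0, 0, 0, 0, 0, 1, 0, 0, 0, 0, 0, 1, 0, 0, 0, 0, 1, 0, 0, 0, 0, 1, 0], [1, 1, 2, 2, 2, 2, 3], 0, false),
    ([0, 0, 0, 0, 0, 0, 1, 2, 2, 0, 2, 0, 0, 0, 0, 0, 1, 0, 0, 0, 0, 0, 1, 0, 0, 0, 0, 1, 0, 0, 0, 0], [1, 1, 2, 2, 2, 2, 3], 1, false),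
    ([0, 0, 0, 0, 0, 0, 1, 2, 2, 0, 2, 0, 0, 0, 0, 0, 1, 0, 0, 0, 0, 0, 1, 0, 0, 0, 0], [0, 0, 0, 0, 1, 1, 1, 2, 2, 2, 2, 3], 1, false),
    ([0, 0, 0, 0, 0, 0, 1, 2, 2, 0, 2, 0, 0, 0, 0, 0, 1, 0, 0, 0, 0, 0, 1, 0, 0, 0, 0, 0], [0, 0, 0, 1, 1, 1, 2, 2, 2, 2, 3], 1, false),
    ([0, 0, 0, 0, 0, 0, 1, 2, 2, 0, 2, 0, 0, 0, 0, 0, 1, 0, 0, 0, 0, 0, 1, 0, 0, 0, 0, 0, 0], [0, 0, 1, 1, 1, 2, 2, 2, 2, 3], 1, false),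
    ([0, 0, 0, 0, 0, 0, 1, 2, 2, 0, 2, 0, 0, 0, 0, 0, 1, 0, 0, 0, 0, 0, 1, 0, 0, 0, 0, 0, 0, 0], [0, 1, 1, 1, 2, 2, 2, 2, 3], 1, false),
    ([0, 0, 0, 0, 0, 0, 1, 2, 2, 0, 2, 0, 0, 0, 0, 0, 1, 0, 0, 0, 0, 0, 1, 0, 0, 0, 0, 0, 0, 0, 0], [1, 1, 1, 2, 2, 2, 2, 3], 1, false),
    ([0, 0, 0, 0, 0, 0, 1, 2, 2, 0, 2, 0, 0, 0, 0, 0, 1, 0, 0, 0, 0, 0, 1, 0, 0], [1, 1, 1, 1, 2, 2, 2, 2, 3], 0, false),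
    ([0, 0, 0, 0, 0, 0, 1, 2, 2, 0, 2, 0, 0, 0, 0, 0, 1, 0, 0, 0, 0, 0], [0, 1, 1, 1, 1, 2, 2, 2, 2, 3], 1, false),
    ([0, 0, 0, 0, 0, 0, 1, 2, 2, 0, 2, 0, 0, 0, 0, 0, 1, 0, 0, 0, 0, 0, 0], [1, 1, 1, 1, 2, 2, 2, 2, 3], 1, false)]

/-- Part of a closed path for the prime 7. -/
def path7_4_4 : List SchurPath.Step :=
  [([0, 0, 0, 0, 0, 0, 1, 2, 2, 0, 2, 0, 0, 0, 0, 0, 1], [1, 1, 1, 1, 1, 2, 2, 2, 2, 3], 0, false),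
    ([0, 0, 0, 0, 0, 0, 1, 2, 2, 0], [0, 0, 0, 0, 1, 1, 1, 1, 1, 1, 2, 2, 2, 2, 3], 3, false),
    ([0, 0, 0, 0, 0, 0, 1, 2, 2, 0, 0], [0, 0, 0, 1, 1, 1, 1, 1, 1, 2, 2, 2, 2, 3], 3, false),
    ([0, 0, 0, 0, 0, 0, 1, 2, 2, 0, 0, 0], [0, 0, 1, 1, 1, 1, 1, 1, 2, 2, 2, 2, 3], 3, false),
    ([0, 0, 0, 0, 0, 0, 1, 2, 2, 0, 0, 0, 0], [0, 1, 1, 1, 1, 1, 1, 2, 2, 2, 2, 3], 3, false),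
    ([0, 0, 0, 0, 0, 0, 1, 2, 2, 0, 0, 0, 0, 0], [1, 1, 1, 1, 1, 1, 2, 2, 2, 2, 3], 3, false),
    ([0, 0, 0, 0, 0, 0, 1, 2, 2, 0, 0, 0, 0, 0, 0], [1, 1, 1, 1, 1, 2, 2, 2, 2, 3], 4, false),
    ([0, 0, 0, 0, 0, 0, 1, 2, 2, 0, 0, 0, 0, 0, 0, 0, 0, 0, 0, 1], [1, 1, 1, 1, 2, 2, 2, 2, 3], 4, false),
    ([0, 0, 0, 0, 0, 0, 1, 2, 2, 0, 0, 0, 0, 0, 0, 0, 0, 0, 0, 1, 0, 0, 0, 0, 1], [1, 1, 1, 2, 2, 2, 2, 3], 4, false),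
    ([0, 0, 0, 0, 0, 0, 1, 2, 2, 0, 0, 0, 0, 0, 0, 0, 0, 0, 0, 1, 0, 0, 0, 0, 1, 0, 0, 0, 0, 1], [1, 1, 2, 2, 2, 2, 3], 4, false),
    ([0, 0, 0, 0, 0, 0, 1, 2, 2, 0, 0, 0, 0, 0, 0, 0, 0, 0, 0, 1, 0, 0, 0, 0, 1, 0, 0, 0, 0, 1, 0, 0, 0, 0, 1], [1, 2, 2, 2, 2, 3], 4, false),
    ([0, 0, 0, 0, 0, 0, 1, 2, 2, 0, 0, 0, 0, 0, 0, 0, 0, 0, 0, 1, 0, 0, 0, 0, 1, 0, 0, 0, 0, 1, 0, 0, 0, 0, 1, 0, 0, 0, 0, 1], [2, 2, 2, 2, 3], 4, false),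
    ([0, 0, 0, 0, 0, 0, 1, 2, 2, 0, 0, 0, 0, 0, 0, 0, 0, 0, 0, 1, 0, 0, 0, 0, 1, 0, 0, 0, 0, 1, 0, 0, 0, 0, 1, 0, 0, 0, 0], [0, 0, 0, 1, 2, 2, 2, 2, 2, 3], 1, false),
    ([0, 0, 0, 0, 0, 0, 1, 2, 2, 0, 0, 0, 0, 0, 0, 0, 0, 0, 0, 1, 0, 0, 0, 0, 1, 0, 0, 0, 0, 1, 0, 0, 0, 0, 1, 0, 0, 0, 0, 0], [0, 0, 1, 2, 2, 2, 2, 2, 3], 1, false),
    ([0, 0, 0, 0, 0, 0, 1, 2, 2, 0, 0, 0, 0, 0, 0, 0, 0, 0, 0, 1, 0, 0, 0, 0, 1, 0, 0, 0, 0, 1, 0, 0, 0, 0, 1, 0, 0, 0, 0, 0, 0], [0, 1, 2, 2, 2, 2, 2, 3], 1, false),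
    ([0, 0, 0, 0, 0, 0, 1, 2, 2, 0, 0, 0, 0, 0, 0, 0, 0, 0, 0, 1, 0, 0, 0, 0, 1, 0, 0, 0, 0, 1, 0, 0, 0, 0, 1, 0, 0, 0, 0, 0, 0, 0], [1, 2, 2, 2, 2, 2, 3], 1, false),
    ([0, 0, 0, 0, 0, 0, 1, 2, 2, 0, 0, 0, 0, 0, 0, 0, 0, 0, 0, 1, 0, 0, 0, 0, 1, 0, 0, 0, 0, 1, 0, 0, 0, 0, 1, 0], [1, 1, 2, 2, 2, 2, 2, 3], 0, false),
    ([0, 0, 0, 0, 0, 0, 1, 2, 2, 0, 0, 0, 0, 0, 0, 0, 0, 0, 0, 1, 0, 0, 0, 0, 1, 0, 0, 0, 0, 1, 0, 0, 0, 0], [1, 1, 2, 2, 2, 2, 2, 3], 1, false),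
    ([0, 0, 0, 0, 0, 0, 1, 2, 2, 0, 0, 0, 0, 0, 0, 0, 0, 0, 0, 1, 0, 0, 0, 0, 1, 0, 0, 0, 0], [0, 0, 0, 0, 1, 1, 1, 2, 2, 2, 2, 2, 3], 1, false),
    ([0, 0, 0, 0, 0, 0, 1, 2, 2, 0, 0, 0, 0, 0, 0, 0, 0, 0, 0, 1, 0, 0, 0, 0, 1, 0, 0, 0, 0, 0], [0, 0, 0, 1, 1, 1, 2, 2, 2, 2, 2, 3], 1, false),
    ([0, 0, 0, 0, 0, 0, 1, 2, 2, 0, 0, 0, 0, 0, 0, 0, 0, 0, 0, 1, 0, 0, 0, 0, 1, 0, 0, 0, 0, 0, 0], [0, 0, 1, 1, 1, 2, 2, 2, 2, 2, 3], 1, false),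
    ([0, 0, 0, 0, 0, 0, 1, 2, 2, 0, 0, 0, 0, 0, 0, 0, 0, 0, 0, 1, 0, 0, 0, 0, 1, 0, 0, 0, 0, 0, 0, 0], [0, 1, 1, 1, 2, 2, 2, 2, 2, 3], 1, false),
    ([0, 0, 0, 0, 0, 0, 1, 2, 2, 0, 0, 0, 0, 0, 0, 0, 0, 0, 0, 1, 0, 0, 0, 0, 1, 0, 0, 0, 0, 0, 0, 0, 0], [1, 1, 1, 2, 2, 2, 2, 2, 3], 1, false),
    ([0, 0, 0, 0, 0, 0, 1, 2, 2, 0, 0, 0, 0, 0, 0, 0, 0, 0, 0, 1, 0, 0, 0, 0, 1, 0, 0], [1, 1, 1, 1, 2, 2, 2, 2, 2, 3], 0, false),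
    ([0, 0, 0, 0, 0, 0, 1, 2, 2, 0, 0, 0, 0, 0, 0, 0, 0, 0, 0, 1, 0, 0, 0, 0], [0, 1, 1, 1, 1, 2, 2, 2, 2, 2, 3], 1, false),
    ([0, 0, 0, 0, 0, 0, 1, 2, 2, 0, 0, 0, 0, 0, 0, 0, 0, 0, 0, 1, 0, 0, 0, 0, 0], [1, 1, 1, 1, 2, 2, 2, 2, 2, 3], 1, false),
    ([0, 0, 0, 0, 0, 0, 1, 2, 2, 0, 0, 0, 0, 0, 0, 0, 0, 0, 0], [0, 0, 0, 0, 0, 1, 1, 1, 1, 1, 2, 2, 2, 2, 2, 3], 1, false),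
    ([0, 0, 0, 0, 0, 0, 1, 2, 2, 0, 0, 0, 0, 0, 0, 0, 0, 0, 0, 0], [0, 0, 0, 0, 1, 1, 1, 1, 1, 2, 2, 2, 2, 2, 3], 1, false),
    ([0, 0, 0, 0, 0, 0, 1, 2, 2, 0, 0, 0, 0, 0, 0, 0, 0, 0, 0, 0, 0], [0, 0, 0, 1, 1, 1, 1, 1, 2, 2, 2, 2, 2, 3], 1, false),
    ([0, 0, 0, 0, 0, 0, 1, 2, 2, 0, 0, 0, 0, 0, 0, 0, 0, 0, 0, 0, 0, 0], [0, 0, 1, 1, 1, 1, 1, 2, 2, 2, 2, 2, 3], 1, false),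
    ([0, 0, 0, 0, 0, 0, 1, 2, 2, 0, 0, 0, 0, 0, 0, 0, 0, 0, 0, 0, 0, 0, 0], [0, 1, 1, 1, 1, 1, 2, 2, 2, 2, 2, 3], 1, false),
    ([0, 0, 0, 0, 0, 0, 1, 2, 2, 0, 0, 0, 0, 0, 0, 0, 0, 0, 0, 0, 0, 0, 0, 0], [1, 1, 1, 1, 1, 2, 2, 2, 2, 2, 3], 1, false),
    ([0, 0, 0, 0, 0, 0, 1, 2, 2, 0, 0, 0, 0, 0, 0, 0, 0, 0], [1, 1, 1, 1, 1, 1, 2, 2, 2, 2, 2, 3], 0, false),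
    ([0, 0, 0, 0, 0, 0, 1, 2, 2, 0, 0], [1, 1, 1, 1, 1, 1, 2, 2, 2, 2, 2, 3], 0, false),
    ([0, 0, 0, 0, 0, 0, 1, 2], [0, 1, 1, 1, 1, 1, 1, 2, 2, 2, 2, 2, 3], 3, false),
    ([0, 0, 0, 0, 0, 0, 1, 2, 0], [1, 1, 1, 1, 1, 1, 2, 2, 2, 2, 2, 3], 3, false),
    ([0, 0, 0, 0, 0, 0, 1, 2, 0, 0], [1, 1, 1, 1, 1, 2, 2, 2, 2, 2, 3], 4, false),
    ([0, 0, 0, 0, 0, 0, 1, 2, 0, 0, 0, 0, 0, 0, 1], [1, 1, 1, 1, 2, 2, 2, 2, 2, 3], 4, false),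
    ([0, 0, 0, 0, 0, 0, 1, 2, 0, 0, 0, 0, 0, 0, 1, 0, 0, 0, 0, 1], [1, 1, 1, 2, 2, 2, 2, 2, 3], 4, false),
    ([0, 0, 0, 0, 0, 0, 1, 2, 0, 0, 0, 0, 0, 0, 1, 0, 0, 0, 0, 1, 0, 0, 0, 0, 1], [1, 1, 2, 2, 2, 2, 2, 3], 4, false),
    ([0, 0, 0, 0, 0, 0, 1, 2, 0, 0, 0, 0, 0, 0, 1, 0, 0, 0, 0, 1, 0, 0, 0, 0, 1, 0, 0, 0, 0, 1], [1, 2, 2, 2, 2, 2, 3], 4, false),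
    ([0, 0, 0, 0, 0, 0, 1, 2, 0, 0, 0, 0, 0, 0, 1, 0, 0, 0, 0, 1, 0, 0, 0, 0, 1, 0, 0, 0, 0, 1, 0, 0, 0, 0, 1], [2, 2, 2, 2, 2, 3], 4, false),
    ([0, 0, 0, 0, 0, 0, 1, 2, 0, 0, 0, 0, 0, 0, 1, 0, 0, 0, 0, 1, 0, 0, 0, 0, 1, 0, 0, 0, 0, 1, 0, 0, 0, 0], [0, 0, 0, 1, 2, 2, 2, 2, 2, 2, 3], 1, false),
    ([0, 0, 0, 0, 0, 0, 1, 2, 0, 0, 0, 0, 0, 0, 1, 0, 0, 0, 0, 1, 0, 0, 0, 0, 1, 0, 0, 0, 0, 1, 0, 0, 0, 0, 0], [0, 0, 1, 2, 2, 2, 2, 2, 2, 3], 1, false),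
    ([0, 0, 0, 0, 0, 0, 1, 2, 0, 0, 0, 0, 0, 0, 1, 0, 0, 0, 0, 1, 0, 0, 0, 0, 1, 0, 0, 0, 0, 1, 0, 0, 0, 0, 0, 0], [0, 1, 2, 2, 2, 2, 2, 2, 3], 1, false),
    ([0, 0, 0, 0, 0, 0, 1, 2, 0, 0, 0, 0, 0, 0, 1, 0, 0, 0, 0, 1, 0, 0, 0, 0, 1, 0, 0, 0, 0, 1, 0, 0, 0, 0, 0, 0, 0], [1, 2, 2, 2, 2, 2, 2, 3], 1, false),
    ([0, 0, 0, 0, 0, 0, 1, 2, 0, 0, 0, 0, 0, 0, 1, 0, 0, 0, 0, 1, 0, 0, 0, 0, 1, 0, 0, 0, 0, 1, 0], [1, 1, 2, 2, 2, 2, 2, 2, 3], 0, false),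
    ([0, 0, 0, 0, 0, 0, 1, 2, 0, 0, 0, 0, 0, 0, 1, 0, 0, 0, 0, 1, 0, 0, 0, 0, 1, 0, 0, 0, 0], [1, 1, 2, 2, 2, 2, 2, 2, 3], 1, false),
    ([0, 0, 0, 0, 0, 0, 1, 2, 0, 0, 0, 0, 0, 0, 1, 0, 0, 0, 0, 1, 0, 0, 0, 0], [0, 0, 0, 0, 1, 1, 1, 2, 2, 2, 2, 2, 2, 3], 1, false),
    ([0, 0, 0, 0, 0, 0, 1, 2, 0, 0, 0, 0, 0, 0, 1, 0, 0, 0, 0, 1, 0, 0, 0, 0, 0], [0, 0, 0, 1, 1, 1, 2, 2, 2, 2, 2, 2, 3], 1, false),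
    ([0, 0, 0, 0, 0, 0, 1, 2, 0, 0, 0, 0, 0, 0, 1, 0, 0, 0, 0, 1, 0, 0, 0, 0, 0, 0], [0, 0, 1, 1, 1, 2, 2, 2, 2, 2, 2, 3], 1, false),
    ([0, 0, 0, 0, 0, 0, 1, 2, 0, 0, 0, 0, 0, 0, 1, 0, 0, 0, 0, 1, 0, 0, 0, 0, 0, 0, 0], [0, 1, 1, 1, 2, 2, 2, 2, 2, 2, 3], 1, false),
    ([0, 0, 0, 0, 0, 0, 1, 2, 0, 0, 0, 0, 0, 0, 1, 0, 0, 0, 0, 1, 0, 0, 0, 0, 0, 0, 0, 0], [1, 1, 1, 2, 2, 2, 2, 2, 2, 3], 1, false),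
    ([0, 0, 0, 0, 0, 0, 1, 2, 0, 0, 0, 0, 0, 0, 1, 0, 0, 0, 0, 1, 0, 0], [1, 1, 1, 1, 2, 2, 2, 2, 2, 2, 3], 0, false),
    ([0, 0, 0, 0, 0, 0, 1, 2, 0, 0, 0, 0, 0, 0, 1, 0, 0, 0, 0], [0, 1, 1, 1, 1, 2, 2, 2, 2, 2, 2, 3], 1, false),
    ([0, 0, 0, 0, 0, 0, 1, 2, 0, 0, 0, 0, 0, 0, 1, 0, 0, 0, 0, 0], [1, 1, 1, 1, 2, 2, 2, 2, 2, 2, 3], 1, false),
    ([0, 0, 0, 0, 0, 0, 1, 2, 0, 0, 0, 0, 0, 0], [0, 0, 0, 0, 0, 1, 1, 1, 1, 1, 2, 2, 2, 2, 2, 2, 3], 1, false),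
    ([0, 0, 0, 0, 0, 0, 1, 2, 0, 0, 0, 0, 0, 0, 0], [0, 0, 0, 0, 1, 1, 1, 1, 1, 2, 2, 2, 2, 2, 2, 3], 1, false),
    ([0, 0, 0, 0, 0, 0, 1, 2, 0, 0, 0, 0, 0, 0, 0, 0], [0, 0, 0, 1, 1, 1, 1, 1, 2, 2, 2, 2, 2, 2, 3], 1, false),
    ([0, 0, 0, 0, 0, 0, 1, 2, 0, 0, 0, 0, 0, 0, 0, 0, 0], [0, 0, 1, 1, 1, 1, 1, 2, 2, 2, 2, 2, 2, 3], 1, false)]

/-- Part of a closed path for the prime 7. -/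
def path7_4_5 : List SchurPath.Step :=
  [([0, 0, 0, 0, 0, 0, 1, 2, 0, 0, 0, 0, 0, 0, 0, 0, 0, 0], [0, 1, 1, 1, 1, 1, 2, 2, 2, 2, 2, 2, 3], 1, false),
    ([0, 0, 0, 0, 0, 0, 1, 2, 0, 0, 0, 0, 0, 0, 0, 0, 0, 0, 0], [1, 1, 1, 1, 1, 2, 2, 2, 2, 2, 2, 3], 1, false),
    ([0, 0, 0, 0, 0, 0, 1, 2, 0, 0, 0, 0, 0], [1, 1, 1, 1, 1, 1, 2, 2, 2, 2, 2, 2, 3], 0, false),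
    ([0, 0, 0, 0, 0, 0, 1], [0, 0, 0, 0, 1, 1, 1, 1, 1, 1, 2, 2, 2, 2, 2, 2, 3], 3, false),
    ([0, 0, 0, 0, 0, 0, 1, 0], [0, 0, 0, 1, 1, 1, 1, 1, 1, 2, 2, 2, 2, 2, 2, 3], 3, false),
    ([0, 0, 0, 0, 0, 0, 1, 0, 0], [0, 0, 1, 1, 1, 1, 1, 1, 2, 2, 2, 2, 2, 2, 3], 3, false),
    ([0, 0, 0, 0, 0, 0, 1, 0, 0, 0], [0, 1, 1, 1, 1, 1, 1, 2, 2, 2, 2, 2, 2, 3], 3, false),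
    ([0, 0, 0, 0, 0, 0, 1, 0, 0, 0, 0], [1, 1, 1, 1, 1, 1, 2, 2, 2, 2, 2, 2, 3], 3, false),
    ([0, 0, 0, 0, 0, 0, 1, 0, 0, 0, 0, 0], [1, 1, 1, 1, 1, 2, 2, 2, 2, 2, 2, 3], 4, false),
    ([0, 0, 0, 0, 0, 0, 1, 0, 0, 0, 0, 0, 0, 0, 0, 0, 1], [1, 1, 1, 1, 2, 2, 2, 2, 2, 2, 3], 4, false),
    ([0, 0, 0, 0, 0, 0, 1, 0, 0, 0, 0, 0, 0, 0, 0, 0, 1, 0, 0, 0, 0, 1], [1, 1, 1, 2, 2, 2, 2, 2, 2, 3], 4, false),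
    ([0, 0, 0, 0, 0, 0, 1, 0, 0, 0, 0, 0, 0, 0, 0, 0, 1, 0, 0, 0, 0, 1, 0, 0, 0, 0, 1], [1, 1, 2, 2, 2, 2, 2, 2, 3], 4, false),
    ([0, 0, 0, 0, 0, 0, 1, 0, 0, 0, 0, 0, 0, 0, 0, 0, 1, 0, 0, 0, 0, 1, 0, 0, 0, 0, 1, 0, 0, 0, 0, 1], [1, 2, 2, 2, 2, 2, 2, 3], 4, false),
    ([0, 0, 0, 0, 0, 0, 1, 0, 0, 0, 0, 0, 0, 0, 0, 0, 1, 0, 0, 0, 0, 1, 0, 0, 0, 0, 1, 0, 0, 0, 0, 1, 0, 0, 0, 0, 1], [2, 2, 2, 2, 2, 2, 3], 4, false),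
    ([0, 0, 0, 0, 0, 0, 1, 0, 0, 0, 0, 0, 0, 0, 0, 0, 1, 0, 0, 0, 0, 1, 0, 0, 0, 0, 1, 0, 0, 0, 0, 1, 0, 0, 0, 0, 1, 0, 0, 0, 0, 1], [3], 5, false),
    ([0, 0, 0, 0, 0, 0, 1, 0, 0, 0, 0, 0, 0, 0, 0, 0, 1, 0, 0, 0, 0, 1, 0, 0, 0, 0, 1, 0, 0, 0, 0, 1, 0, 0, 0, 0], [0, 0, 0, 1, 3], 1, false),
    ([0, 0, 0, 0, 0, 0, 1, 0, 0, 0, 0, 0, 0, 0, 0, 0, 1, 0, 0, 0, 0, 1, 0, 0, 0, 0, 1, 0, 0, 0, 0, 1, 0, 0, 0, 0, 0], [0, 0, 1, 3], 1, false),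
    ([0, 0, 0, 0, 0, 0, 1, 0, 0, 0, 0, 0, 0, 0, 0, 0, 1, 0, 0, 0, 0, 1, 0, 0, 0, 0, 1, 0, 0, 0, 0, 1, 0, 0, 0, 0, 0, 0], [0, 1, 3], 1, false),
    ([0, 0, 0, 0, 0, 0, 1, 0, 0, 0, 0, 0, 0, 0, 0, 0, 1, 0, 0, 0, 0, 1, 0, 0, 0, 0, 1, 0, 0, 0, 0, 1, 0, 0, 0, 0, 0, 0, 0], [1, 3], 1, false),
    ([0, 0, 0, 0, 0, 0, 1, 0, 0, 0, 0, 0, 0, 0, 0, 0, 1, 0, 0, 0, 0, 1, 0, 0, 0, 0, 1, 0, 0, 0, 0, 1, 0], [1, 1, 3], 0, false),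
    ([0, 0, 0, 0, 0, 0, 1, 0, 0, 0, 0, 0, 0, 0, 0, 0, 1, 0, 0, 0, 0, 1, 0, 0, 0, 0, 1, 0, 0, 0, 0], [1, 1, 3], 1, false),
    ([0, 0, 0, 0, 0, 0, 1, 0, 0, 0, 0, 0, 0, 0, 0, 0, 1, 0, 0, 0, 0, 1, 0, 0, 0, 0], [0, 0, 0, 0, 1, 1, 1, 3], 1, false),
    ([0, 0, 0, 0, 0, 0, 1, 0, 0, 0, 0, 0, 0, 0, 0, 0, 1, 0, 0, 0, 0, 1, 0, 0, 0, 0, 0], [0, 0, 0, 1, 1, 1, 3], 1, false),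
    ([0, 0, 0, 0, 0, 0, 1, 0, 0, 0, 0, 0, 0, 0, 0, 0, 1, 0, 0, 0, 0, 1, 0, 0, 0, 0, 0, 0], [0, 0, 1, 1, 1, 3], 1, false),
    ([0, 0, 0, 0, 0, 0, 1, 0, 0, 0, 0, 0, 0, 0, 0, 0, 1, 0, 0, 0, 0, 1, 0, 0, 0, 0, 0, 0, 0], [0, 1, 1, 1, 3], 1, false),
    ([0, 0, 0, 0, 0, 0, 1, 0, 0, 0, 0, 0, 0, 0, 0, 0, 1, 0, 0, 0, 0, 1, 0, 0, 0, 0, 0, 0, 0, 0], [1, 1, 1, 3], 1, false),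
    ([0, 0, 0, 0, 0, 0, 1, 0, 0, 0, 0, 0, 0, 0, 0, 0, 1, 0, 0, 0, 0, 1, 0, 0], [1, 1, 1, 1, 3], 0, false),
    ([0, 0, 0, 0, 0, 0, 1, 0, 0, 0, 0, 0, 0, 0, 0, 0, 1, 0, 0, 0, 0], [0, 1, 1, 1, 1, 3], 1, false),
    ([0, 0, 0, 0, 0, 0, 1, 0, 0, 0, 0, 0, 0, 0, 0, 0, 1, 0, 0, 0, 0, 0], [1, 1, 1, 1, 3], 1, false),
    ([0, 0, 0, 0, 0, 0, 1, 0, 0, 0, 0, 0, 0, 0, 0, 0], [0, 0, 0, 0, 0, 1, 1, 1, 1, 1, 3], 1, false),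
    ([0, 0, 0, 0, 0, 0, 1, 0, 0, 0, 0, 0, 0, 0, 0, 0, 0], [0, 0, 0, 0, 1, 1, 1, 1, 1, 3], 1, false),
    ([0, 0, 0, 0, 0, 0, 1, 0, 0, 0, 0, 0, 0, 0, 0, 0, 0, 0], [0, 0, 0, 1, 1, 1, 1, 1, 3], 1, false),
    ([0, 0, 0, 0, 0, 0, 1, 0, 0, 0, 0, 0, 0, 0, 0, 0, 0, 0, 0], [0, 0, 1, 1, 1, 1, 1, 3], 1, false),
    ([0, 0, 0, 0, 0, 0, 1, 0, 0, 0, 0, 0, 0, 0, 0, 0, 0, 0, 0, 0], [0, 1, 1, 1, 1, 1, 3], 1, false),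
    ([0, 0, 0, 0, 0, 0, 1, 0, 0, 0, 0, 0, 0, 0, 0, 0, 0, 0, 0, 0, 0], [1, 1, 1, 1, 1, 3], 1, false),
    ([0, 0, 0, 0, 0, 0, 1, 0, 0, 0, 0, 0, 0, 0, 0], [1, 1, 1, 1, 1, 1, 3], 0, false),
    ([0, 0, 0, 0, 0, 0, 1, 0], [1, 1, 1, 1, 1, 1, 3], 0, false),
    ([0, 0, 0, 0, 0, 0], [1, 1, 1, 1, 1, 1, 3], 1, false),
    ([0, 0, 0, 0, 0, 0, 0], [3], 2, false),
    ([], [3], 0, false),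
    ([3], [], 5, true)]

/-- Words of elements. -/
def elts7_0 : List (List ℕ) :=
  [[0, 0, 1, 1, 1, 1, 1, 1, 2, 2, 2, 2], [0, 1, 1, 2, 2, 2, 2], [], [0, 0, 0, 1, 1, 1, 1, 2, 2, 2], [0, 0, 0, 0, 0, 1, 1, 1, 1, 1, 2, 2, 2, 2, 2, 2], [2, 2, 2, 2, 2, 2], [0, 1, 1, 1, 1, 1], [0, 0, 1, 1, 2, 2, 2, 2, 2], [0, 0, 0, 1, 1, 1, 2, 2, 2, 2, 2, 2], [0, 0, 0, 0, 0, 0, 1, 2, 2, 2, 2, 2, 2], [0, 0, 0, 1, 2, 2, 2], [2, 2, 2], [0, 0, 0, 0, 0, 0, 1, 1, 1, 1, 2, 2, 2, 2], [0, 0, 2, 2, 2, 2, 2], [0, 0, 0, 1, 1, 1, 1, 1, 1, 2, 2, 2], [1, 1, 1], [0, 0, 0, 0, 0, 1, 1, 1, 1, 1, 1, 2, 2, 2, 2], [0, 0, 0, 0, 1, 1, 1, 2], [0, 0, 1, 1, 1, 2, 2], [0, 1, 1, 1, 1, 2, 2, 2, 2, 2], [0, 0, 0, 0, 0, 1, 1, 2, 2, 2, 2, 2], [2, 2, 2, 2, 2],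 [0, 0, 0, 0, 0, 0, 1, 1, 1, 1, 1, 1], [0, 0, 0, 0, 0, 0, 1, 1, 1, 1, 1, 2, 2, 2, 2, 2], [0, 0, 0, 0, 1, 1], [0, 0, 0, 0, 0, 1, 2, 2, 2, 2, 2], [0, 0, 0, 0, 0, 0, 1, 1, 2, 2], [1, 1, 1, 1, 2, 2], [1, 1, 1, 1, 1, 1, 2, 2, 2, 2, 2, 2], [1, 2, 2, 2], [1, 1, 1, 1, 1, 2, 2, 2, 2], [2, 2], [0, 0, 0, 0, 1, 1, 1, 2, 2, 2, 2, 2, 2], [0, 0, 0, 0, 0, 0, 1, 1, 1], [0, 0, 0, 0, 0, 1, 1, 1, 1, 1, 2, 2, 2, 2], [0, 0, 0, 0, 1, 1, 1, 1, 2, 2, 2], [1, 1, 2, 2, 2], [0, 0, 0, 0, 1, 1, 1, 1, 1], [0, 0, 1, 1, 1, 1, 1, 2, 2], [0, 0, 0, 1, 1, 1, 1, 2], [2], [0, 0, 0, 0, 0, 1, 1, 2], [0, 0, 0, 0, 0, 1, 1, 1, 1, 1, 2, 2, 2, 2, 2], [0, 0, 0, 0, 0, 0, 1, 1, 2, 2, 2, 2, 2], [0, 0, 1, 2, 2, 2, 2, 2, 2], [1, 1, 1, 1, 2, 2, 2], [0, 0, 0,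 0, 0, 0, 1, 1, 1, 1, 2, 2], [0, 0, 0, 0, 0, 1, 1, 1, 1], [0, 0, 0, 1, 1, 1, 1, 1, 1, 2, 2, 2, 2, 2, 2], [0, 0, 1, 1, 1, 1, 1, 1, 2, 2, 2, 2, 2, 2], [0, 0, 0, 0, 0, 1, 1, 1, 2, 2, 2, 2], [0, 0, 0, 0, 0, 2, 2, 2, 2, 2], [0, 1, 1, 1, 1, 1, 2, 2, 2], [0, 0, 1, 2, 2], [0, 0, 0, 0, 0, 0, 2, 2, 2], [2, 2, 2, 2], [0, 1, 1, 1, 2, 2, 2, 2, 2, 2], [0, 0, 0, 1, 1, 1, 2, 2, 2, 2, 2], [0, 0, 0, 0, 0, 0, 1, 1, 1, 1, 1, 1, 2, 2, 2, 2, 2, 2], [0, 1, 1, 1, 1, 2, 2, 2, 2, 2, 2], [0, 0, 0, 0, 0, 0, 1, 1, 1, 1, 1], [0, 0, 0, 1, 1, 1, 1, 2, 2], [1, 1, 2, 2, 2, 2, 2], [0, 0, 0, 0, 1, 1, 1, 1], [0, 0, 0, 0, 0, 0, 1, 1, 1, 2, 2, 2, 2], [1, 2, 2, 2, 2, 2], [0, 1, 1, 1, 1, 1, 2, 2, 2, 2, 2, 2], [0, 0, 1, 2, 2, 2, 2, 2], [0, 0, 0,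 0, 1, 1, 1], [1, 1, 1, 2, 2, 2, 2, 2], [1, 1, 1, 2], [1, 1, 2, 2, 2, 2, 2, 2], [1, 2, 2, 2, 2], [0, 0, 0, 1, 1, 1], [0, 2, 2, 2], [0, 0, 0, 0, 0, 0, 1, 1, 1, 1, 2, 2, 2], [0, 0, 1, 1, 2, 2, 2], [0, 1, 1, 2, 2], [0, 0, 0, 1], [0, 1, 1, 1, 1, 1, 2, 2], [0, 0, 0, 0, 1, 2, 2], [0, 0, 0, 1, 1, 1, 1, 1, 2, 2], [0, 2, 2, 2, 2, 2], [0, 0, 0, 1, 1, 1, 1, 2, 2, 2, 2, 2, 2], [0, 0, 0, 0, 1, 1, 1, 1, 1, 2, 2, 2, 2], [0, 0, 0, 1, 1, 1, 1, 1, 2], [0, 0, 0, 0, 0, 1, 1, 1, 2], [0, 0, 0, 0, 0, 0, 1, 2, 2, 2, 2, 2], [1, 1, 1, 1, 1], [1, 1, 1, 2, 2, 2, 2], [0, 0, 0, 0, 1, 1, 1, 1, 1, 2, 2], [0, 0, 0, 0, 0, 0, 1, 1, 1, 2, 2], [0, 1, 1, 1, 1, 1, 1, 2, 2, 2, 2, 2], [0, 0, 0, 0, 0, 1, 2, 2, 2], [0, 0, 0, 0, 1, 2, 2, 2, 2], [0,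 0, 0, 1, 1, 1, 1, 1, 1], [0, 0, 1, 1], [0, 0, 0, 1, 2, 2, 2, 2, 2], [0, 0, 0, 0, 0, 0, 1, 2], [0, 0, 0, 0, 1, 1, 1, 2, 2], [0, 0, 0, 0, 1, 1, 1, 2, 2, 2, 2], [0, 0, 0, 0, 0, 1, 1], [0, 0, 1, 1, 1, 2, 2, 2], [0, 0, 0, 0, 1, 1, 1, 1, 1, 1, 2, 2, 2, 2, 2], [0, 0, 0, 0, 0, 1, 1, 2, 2, 2, 2], [0, 1, 1, 2, 2, 2], [0, 0, 0, 0, 1], [0, 0, 0, 0, 0, 1, 1, 2, 2], [0, 0, 0, 0, 0, 1, 1, 2, 2, 2, 2, 2, 2], [0, 0, 0, 1, 1], [0, 1, 1, 2], [0, 0, 0, 0, 0, 0, 1, 1, 1, 1, 1, 1, 2, 2, 2, 2, 2], [0, 1, 2, 2, 2, 2, 2, 2], [0, 0, 0, 2, 2], [0, 0, 0, 0, 0, 1, 1, 1, 1, 1, 1, 2, 2], [0, 0, 0, 0, 1, 1, 1, 1, 1, 2, 2, 2, 2, 2], [0, 0, 0, 1, 1, 1, 1, 1, 2, 2, 2, 2], [0, 0, 1, 2, 2, 2], [0, 0, 0, 0, 0, 0, 1, 1, 1, 1, 1, 2], [0, 0, 1,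 1, 1, 1, 1, 2, 2, 2, 2, 2], [0, 0, 0, 0, 0, 0, 1, 1, 1, 1, 1, 1, 2, 2, 2], [1, 2], [1, 1, 1, 2, 2], [0, 0, 0, 0, 1, 1, 1, 1, 1, 1, 2, 2], [0, 0, 1, 1, 1, 1, 2, 2], [0, 0, 0, 0, 1, 1, 1, 1, 1, 1, 2, 2, 2, 2, 2, 2], [0, 0, 0, 0, 0, 0, 2], [0, 0, 0, 1, 1, 2, 2, 2, 2, 2, 2], [0, 1, 1, 1, 1, 1, 2, 2, 2, 2], [0, 0, 0, 0, 0, 0, 1, 1, 1, 1, 1, 2, 2], [1, 1, 1, 1, 2], [1, 1, 2, 2, 2, 2], [0, 0, 1, 1, 1, 1, 1, 1, 2], [0, 1, 1, 1, 2, 2, 2, 2], [0, 0, 0, 0, 0, 1, 1, 1, 1, 2, 2, 2, 2], [0, 0, 0, 0, 1, 1, 1, 1, 1, 1, 2, 2, 2, 2], [0, 0, 1, 1, 1, 2], [0, 0, 0, 1, 1, 1, 1, 1, 2, 2, 2, 2, 2], [1], [0, 0, 0, 0, 0, 0, 1, 2, 2], [0, 0, 0, 0, 1, 1, 1, 1, 1, 2, 2, 2, 2, 2, 2], [0, 0, 2, 2, 2, 2, 2, 2], [0, 1, 1, 1, 1, 1, 1, 2,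 2], [0, 0, 0, 0, 1, 1, 1, 1, 2], [0, 0, 0, 0, 1, 1, 1, 1, 1, 1, 2, 2, 2], [0, 0, 0, 0, 2, 2, 2, 2], [1, 1, 1, 2, 2, 2], [0, 0, 1, 1, 2, 2], [0, 0, 1, 1, 2, 2, 2, 2, 2, 2], [0, 0, 0, 1, 1, 1, 2, 2, 2], [0, 1, 2, 2, 2], [0, 0, 2], [0, 0, 0, 0, 0, 1, 1, 1, 1, 2, 2, 2, 2, 2, 2], [0, 0, 0, 0, 0, 1, 1, 1, 1, 1, 1, 2], [0, 0, 0, 0, 0, 1, 1, 1, 1, 2, 2], [0, 0, 0, 0, 0, 0, 1, 1, 1, 1, 1, 2, 2, 2, 2, 2, 2], [0, 0, 0, 0], [0, 1, 1, 1, 1, 1, 2], [0, 0, 0, 1, 1, 1, 1, 1, 2, 2, 2, 2, 2, 2], [0, 0, 0, 0, 2], [0, 0, 1, 1, 1, 1, 1, 1, 2, 2, 2], [0, 1, 1, 1, 2, 2, 2], [0, 0, 1, 1, 1, 1, 2, 2, 2, 2, 2, 2], [0, 0, 0, 1, 2, 2, 2, 2], [0, 0, 1, 1, 1, 1, 1, 1], [1, 1, 1, 2, 2, 2, 2, 2, 2], [0, 0, 0, 0, 0, 0, 1, 1, 1, 1, 2, 2,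 2, 2, 2], [0, 0, 0, 1, 1, 1, 1], [1, 1, 2, 2], [0, 0, 1, 1, 1, 2, 2, 2, 2, 2], [0, 0, 0, 0, 0, 1, 2, 2, 2, 2, 2, 2], [0, 0, 0, 0, 0, 0], [0, 0, 0, 0, 0, 0, 1, 1, 1, 1, 2, 2, 2, 2, 2, 2], [0, 0, 0, 1, 2, 2], [0, 1, 2], [1, 2, 2], [0, 0, 1, 1, 1, 2, 2, 2, 2, 2, 2], [0, 0, 0, 0, 0, 2, 2], [0, 1, 2, 2, 2, 2], [0, 0, 1, 2], [1, 1, 1, 1, 2, 2, 2, 2, 2, 2], [1, 1], [0, 0, 0, 1, 1, 2, 2, 2, 2], [0, 0, 0, 0, 0, 1, 1, 1, 1, 1, 1, 2, 2, 2, 2, 2], [0, 1, 1, 1, 1, 1, 1, 2], [1, 1, 1, 1, 1, 1, 2], [0, 0, 0, 0, 1, 1, 2, 2, 2, 2], [0, 1, 1, 1, 1, 1, 1, 2, 2, 2], [0, 0, 0, 0, 0, 0, 1, 1, 1, 1], [0, 0, 0, 0, 0, 1, 1, 1, 1, 1, 2, 2, 2], [0, 0, 0, 0, 0, 0, 2, 2, 2, 2, 2], [0, 1, 1, 2, 2, 2, 2, 2], [0, 1, 1, 1, 1, 2, 2], [0,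 0, 0, 0, 0, 0, 1, 2, 2, 2, 2], [0, 0, 1, 1, 1, 1, 1, 2, 2, 2, 2, 2, 2], [0, 0, 1, 1, 1], [1, 1, 1, 1, 1, 1, 2, 2, 2], [0, 0, 0, 0, 0, 1, 1, 1, 1, 2, 2, 2], [0, 2], [0, 0, 0, 0, 0, 0, 1, 1, 1, 2, 2, 2, 2, 2]]

/-- Words of elements. -/
def elts7_1 : List (List ℕ) :=
  [[1, 1, 1, 1, 1, 2], [0, 0, 0, 1, 1, 1, 1, 1, 1, 2, 2, 2, 2], [0, 0, 0, 1, 2], [0, 0, 0, 0, 1, 1, 2], [0, 0, 0, 0, 1, 1, 2, 2, 2], [0, 0, 1, 1, 1, 1, 2, 2, 2, 2, 2], [0, 1, 1, 2, 2, 2, 2, 2, 2], [1, 1, 1, 1, 1, 2, 2], [0, 0, 0, 0, 0, 0, 1, 1, 1, 1, 1, 1, 2, 2], [0, 0, 0, 1, 1, 1, 1, 1, 2, 2, 2], [0, 0, 0, 1, 1, 2, 2], [0, 0, 0, 0, 1, 1, 2, 2], [0, 0, 0, 0, 2, 2, 2, 2, 2, 2], [0, 0, 1, 1, 1, 1, 1, 1, 2, 2], [0, 0, 0, 0, 0, 0, 1, 1, 1, 1, 2],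 [0, 1, 1, 1, 2], [0, 2, 2, 2, 2, 2, 2], [0, 0, 0, 1, 1, 1, 1, 1, 1, 2], [0, 0, 0, 1, 1, 1, 1, 2, 2, 2, 2], [0, 0, 0, 0, 0, 1, 1, 1, 1, 2, 2, 2, 2, 2], [0, 0, 0, 0, 1, 1, 1, 1, 2, 2, 2, 2], [0, 0, 0, 0, 0, 1, 1, 1, 2, 2, 2, 2, 2], [0, 1, 1, 1, 1, 2, 2, 2, 2], [0, 0, 0, 0, 1, 1, 1, 1, 1, 1], [0, 0, 0, 0, 0, 0, 1, 1, 1, 1, 1, 2, 2, 2, 2], [0, 0, 0, 0, 1, 1, 1, 1, 2, 2], [0, 0, 0, 1, 1, 1, 2], [0, 0, 0, 0, 0, 0, 1, 1], [0, 0, 0, 0, 0, 0, 1, 1, 2], [0, 0, 2, 2, 2], [0, 0, 0, 0, 1, 1, 2, 2, 2, 2, 2], [0, 1, 2, 2], [0, 0, 0, 2, 2, 2, 2], [0, 0, 0, 0, 0, 0, 1, 1, 1, 2, 2, 2], [0, 0, 0, 0, 1, 2, 2, 2, 2, 2, 2], [0, 1, 1, 1, 1], [0, 0, 0, 0, 0, 0, 2, 2, 2, 2], [0, 0, 1, 1, 1, 2, 2, 2, 2], [1, 1, 2], [0, 0, 0, 1, 1,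 1, 1, 2, 2, 2, 2, 2], [0, 0, 0, 2], [0, 0, 0, 0, 1, 1, 1, 1, 1, 2], [0, 0, 1], [0, 0, 1, 1, 1, 1, 1], [0, 0, 0, 1, 1, 2], [1, 1, 1, 1], [0, 0, 1, 2, 2, 2, 2], [0, 0, 0, 1, 1, 1, 2, 2, 2, 2], [0, 0, 0, 0, 0, 2, 2, 2], [0, 0, 0, 0, 0, 1, 1, 1], [0, 0, 1, 1, 1, 1, 1, 2], [0, 0, 0, 0, 0, 1, 1, 1, 1, 1], [0, 0, 1, 1, 2], [0, 0, 0, 0, 1, 1, 1, 1, 1, 1, 2], [0, 1, 1], [0, 0, 0, 0, 0, 2, 2, 2, 2, 2, 2], [0, 0, 0, 0, 0, 0, 1, 1, 1, 1, 1, 1, 2], [0, 2, 2], [0, 0, 0, 0, 0, 1, 1, 1, 2, 2, 2, 2, 2, 2], [1, 1, 1, 1, 1, 1, 2, 2, 2, 2], [0, 1, 1, 1, 1, 1, 2, 2, 2, 2, 2], [0, 0, 0, 2, 2, 2, 2, 2], [0, 0, 0, 2, 2, 2], [0, 1, 1, 1, 1, 1, 1, 2, 2, 2, 2], [0, 0, 0, 0, 0, 1, 1, 1, 1, 1, 2], [0, 0, 0, 0, 0, 2, 2, 2, 2], [0, 0,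 1, 1, 1, 1, 2], [0, 0, 1, 1, 1, 1, 2, 2, 2], [0, 0, 0, 0, 2, 2, 2, 2, 2], [1, 1, 1, 1, 1, 2, 2, 2, 2, 2], [1, 1, 1, 1, 1, 2, 2, 2, 2, 2, 2], [1, 2, 2, 2, 2, 2, 2], [0, 0, 1, 1, 1, 1, 1, 1, 2, 2, 2, 2, 2], [0, 0, 0, 0, 1, 1, 1, 2, 2, 2, 2, 2], [0, 0, 0, 0, 0, 1, 1, 2, 2, 2], [0, 0, 0, 0, 1, 2, 2, 2], [0, 0, 0, 0, 0, 0, 1, 1, 2, 2, 2, 2], [0, 0, 0, 0, 0, 1, 2, 2], [0, 0, 0, 0, 0, 1, 1, 1, 1, 1, 1, 2, 2, 2, 2, 2, 2], [0, 0, 0, 0, 2, 2, 2], [0, 0, 0, 0, 0, 1, 2, 2, 2, 2], [0, 1, 1, 1, 1, 1, 1, 2, 2, 2, 2, 2, 2], [1, 1, 1, 1, 2, 2, 2, 2, 2], [0, 0, 0, 0, 0, 1, 1, 1, 1, 1, 1, 2, 2, 2], [0, 0, 1, 1, 1, 1, 1, 2, 2, 2], [0, 0, 0, 0, 0, 1, 2], [0, 0, 0, 0, 0, 0, 1, 1, 1, 1, 1, 2, 2, 2], [0, 0, 0, 0, 0, 0, 2, 2], [0,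 1], [0, 0, 0, 1, 1, 2, 2, 2], [0, 0, 2, 2], [0, 0, 0, 0, 0, 1], [0, 1, 1, 1, 1, 1, 1], [0, 1, 1, 1, 1, 2, 2, 2], [0, 0, 0, 0, 0, 1, 1, 1, 1, 1, 2, 2], [0, 0, 0, 0, 0, 1, 1, 1, 1, 2], [0, 0, 1, 1, 2, 2, 2, 2], [0, 0, 0, 0, 0, 0, 1, 1, 2, 2, 2, 2, 2, 2], [0, 1, 1, 1, 2, 2], [1, 1, 1, 1, 1, 1, 2, 2], [0, 0, 0, 0, 0, 1, 1, 1, 2, 2], [0, 0, 0, 1, 1, 1, 2, 2], [0, 0, 0, 2, 2, 2, 2, 2, 2], [0, 0, 0], [0, 0, 0, 1, 1, 1, 1, 1, 1, 2, 2, 2, 2, 2], [0, 0, 0, 0, 0, 0, 1], [1, 1, 1, 1, 1, 2, 2, 2], [1, 1, 1, 1, 2, 2, 2, 2], [0, 0, 0, 0, 0, 0, 1, 2, 2, 2], [0, 0, 0, 0, 0, 1, 1, 1, 1, 1, 1], [0, 0, 0, 1, 1, 2, 2, 2, 2, 2], [0], [0, 0, 0, 0, 1, 1, 1, 2, 2, 2], [0, 0, 0, 0, 0, 2], [0, 0, 0, 0, 0, 1, 1, 1, 2, 2, 2], [0, 0,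 0, 0, 1, 1, 1, 1, 1, 2, 2, 2], [0, 0, 0, 0, 0, 0, 1, 1, 2, 2, 2], [0, 0, 0, 0, 0], [0, 2, 2, 2, 2], [0, 0, 0, 0, 1, 2], [0, 0, 0, 0, 0, 0, 1, 1, 1, 2, 2, 2, 2, 2, 2], [0, 0, 0, 0, 1, 1, 1, 1, 2, 2, 2, 2, 2, 2], [0, 1, 2, 2, 2, 2, 2], [0, 0, 0, 0, 0, 0, 1, 1, 1, 1, 1, 1, 2, 2, 2, 2], [0, 0], [1, 1, 1, 1, 1, 1], [0, 0, 0, 0, 0, 0, 1, 1, 1, 2], [0, 0, 0, 0, 0, 0, 2, 2, 2, 2, 2, 2], [0, 0, 1, 1, 1, 1, 2, 2, 2, 2], [0, 0, 1, 1, 1, 1], [0, 0, 0, 1, 1, 1, 1, 1, 1, 2, 2], [0, 0, 0, 0, 1, 1, 2, 2, 2, 2, 2, 2], [0, 1, 1, 1, 2, 2, 2, 2, 2], [0, 0, 0, 0, 1, 1, 1, 1, 2, 2, 2, 2, 2], [0, 1, 1, 1], [1, 1, 1, 1, 1, 1, 2, 2, 2, 2, 2], [0, 0, 0, 1, 2, 2, 2, 2, 2, 2], [0, 0, 0, 0, 1, 2, 2, 2, 2, 2], [0, 0, 1, 1, 1, 1, 1, 2,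 2, 2, 2], [0, 0, 0, 0, 2, 2], [0, 0, 2, 2, 2, 2], [0, 0, 0, 1, 1, 1, 1, 1], [0, 1, 1, 1, 1, 2]]

/-- Words of the letters for the prime 7. -/
def letters7 : List (List ℕ) :=
  [[1, 7, 4, 2, 5, 4, 5, 2, 1, 0, 6, 5, 6, 0, 2, 0, 1, 7, 3, 6, 5, 2, 3, 6, 0, 3, 7, 2, 4, 0, 5, 4, 2, 3, 7, 4, 5, 1, 2, 7, 4],
    [7, 6, 5, 2, 7, 4, 6, 5, 4, 7, 5, 7, 2, 1, 2, 7, 3, 2, 1, 2, 4, 7, 6, 5, 7, 6, 2, 3, 0, 2, 3, 4, 5, 0, 4, 2, 0],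
    [1, 5, 6, 3, 4, 2, 3, 4, 5, 1],
    [1, 4, 1, 2, 0, 0],
    [4, 5, 6, 4, 5, 4, 2, 1]]

/-- Words of the elements of the Sylow 7-subgroup, by increasing keys. -/
def elts7 : List (List ℕ) :=
  elts7_0 ++ elts7_1

/-- The certificate for the prime 7. -/
def cert7 : SchurPath.Cert where
  m := 3
  rels := [([0, 0, 0, 0, 0, 0, 0], []),
    ([1, 0], [0, 1]),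
    ([1, 1, 1, 1, 1, 1, 1], []),
    ([2, 0], [0, 2]),
    ([2, 1], [0, 0, 0, 0, 1, 2]),
    ([2, 2, 2, 2, 2, 2, 2], []),
    ([3, 0], [0, 0, 0, 0, 0, 3]),
    ([3, 1], [1, 1, 1, 1, 3]),
    ([3, 2], [0, 0, 0, 0, 0, 0, 1, 2, 2, 2, 3]),
    ([4, 0], [0, 0, 0, 0, 0, 4]),
    ([4, 1], [1, 1, 1, 4]),
    ([4, 2], [0, 0, 0, 0, 0, 0, 1, 1, 1, 1, 1, 1, 2, 2, 2, 2, 4])]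
  paths := [([4, 1, 1, 1, 1, 1, 1, 1], [([], [1, 1, 1, 1, 1, 1], 10, false),
      ([1, 1, 1], [1, 1, 1, 1, 1], 10, false),
      ([1, 1, 1, 1, 1, 1], [1, 1, 1, 1], 10, false),
      ([1, 1, 1, 1, 1, 1, 1, 1, 1], [1, 1, 1], 10, false),
      ([1, 1, 1, 1, 1, 1, 1, 1, 1, 1, 1, 1], [1, 1], 10, false),
      ([1, 1, 1, 1, 1, 1, 1, 1, 1, 1, 1, 1, 1, 1, 1], [1], 10, false),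
      ([1, 1, 1, 1, 1, 1, 1, 1, 1, 1, 1, 1, 1, 1, 1, 1, 1, 1], [], 10, false),
      ([], [1, 1, 1, 1, 1, 1, 1, 1, 1, 1, 1, 1, 1, 1, 4], 2, false),
      ([1, 1, 1, 1, 1, 1, 1], [4], 2, false),
      ([], [4], 2, false),
      ([4], [], 2, true)]),
    ([3, 0, 0, 0, 0, 0, 0, 0], [([], [0, 0, 0, 0, 0, 0], 6, false),
      ([0, 0, 0, 0, 0], [0, 0, 0, 0, 0], 6, false),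
      ([0, 0, 0, 0, 0, 0, 0, 0, 0, 0], [0, 0, 0, 0], 6, false),
      ([0, 0, 0, 0, 0, 0, 0, 0, 0, 0, 0, 0, 0, 0, 0], [0, 0, 0], 6, false),
      ([0, 0, 0, 0, 0, 0, 0, 0, 0, 0, 0, 0, 0, 0, 0, 0, 0, 0, 0, 0], [0, 0], 6, false),
      ([0, 0, 0, 0, 0, 0, 0, 0, 0, 0, 0, 0, 0, 0, 0, 0, 0, 0, 0, 0, 0, 0, 0, 0, 0], [0], 6, false),
      ([0, 0, 0, 0, 0, 0, 0, 0, 0, 0, 0, 0, 0, 0, 0, 0, 0, 0, 0, 0, 0, 0, 0, 0, 0, 0, 0, 0, 0, 0], [], 6, false),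
      ([], [0, 0, 0, 0, 0, 0, 0, 0, 0, 0, 0, 0, 0, 0, 0, 0, 0, 0, 0, 0, 0, 0, 0, 0, 0, 0, 0, 0, 3], 0, false),
      ([0, 0, 0, 0, 0, 0, 0, 0, 0, 0, 0, 0, 0, 0, 0, 0, 0, 0, 0, 0, 0], [3], 0, false),
      ([0, 0, 0, 0, 0, 0, 0, 0, 0, 0, 0, 0, 0, 0], [3], 0, false),
      ([0, 0, 0, 0, 0, 0, 0], [3], 0, false),
      ([], [3], 0, false),
      ([3], [], 0, true)]),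
    ([3, 1, 0], [([], [0], 7, false),
      ([1, 1, 1, 1], [], 6, false),
      ([1, 1, 1], [0, 0, 0, 0, 3], 1, false),
      ([1, 1, 1, 0], [0, 0, 0, 3], 1, false),
      ([1, 1, 1, 0, 0], [0, 0, 3], 1, false),
      ([1, 1, 1, 0, 0, 0], [0, 3], 1, false),
      ([1, 1, 1, 0, 0, 0, 0], [3], 1, false),
      ([1, 1], [0, 0, 0, 0, 1, 3], 1, false),
      ([1, 1, 0], [0, 0, 0, 1, 3], 1, false),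
      ([1, 1, 0, 0], [0, 0, 1, 3], 1, false),
      ([1, 1, 0, 0, 0], [0, 1, 3], 1, false),
      ([1, 1, 0, 0, 0, 0], [1, 3], 1, false),
      ([1], [0, 0, 0, 0, 1, 1, 3], 1, false),
      ([1, 0], [0, 0, 0, 1, 1, 3], 1, false),
      ([1, 0, 0], [0, 0, 1, 1, 3], 1, false),
      ([1, 0, 0, 0], [0, 1, 1, 3], 1, false),
      ([1, 0, 0, 0, 0], [1, 1, 3], 1, false),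
      ([], [0, 0, 0, 0, 1, 1, 1, 3], 1, false),
      ([0], [0, 0, 0, 1, 1, 1, 3], 1, false),
      ([0, 0], [0, 0, 1, 1, 1, 3], 1, false),
      ([0, 0, 0], [0, 1, 1, 1, 3], 1, false),
      ([0, 0, 0, 0], [1, 1, 1, 3], 1, false),
      ([0, 0, 0, 0, 0], [], 7, true),
      ([], [1], 6, true),
      ([3], [], 1, true)]),
    ([4, 2, 0], [([], [0], 11, false),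
      ([0, 0, 0, 0, 0, 0, 1, 1, 1, 1, 1, 1, 2, 2, 2, 2], [], 9, false),
      ([0, 0, 0, 0, 0, 0, 1, 1, 1, 1, 1, 1, 2, 2, 2], [0, 0, 0, 0, 4], 3, false),
      ([0, 0, 0, 0, 0, 0, 1, 1, 1, 1, 1, 1, 2, 2, 2, 0], [0, 0, 0, 4], 3, false),
      ([0, 0, 0, 0, 0, 0, 1, 1, 1, 1, 1, 1, 2, 2, 2, 0, 0], [0, 0, 4], 3, false),
      ([0, 0, 0, 0, 0, 0, 1, 1, 1, 1, 1, 1, 2, 2, 2, 0, 0, 0], [0, 4], 3, false),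
      ([0, 0, 0, 0, 0, 0, 1, 1, 1, 1, 1, 1, 2, 2, 2, 0, 0, 0, 0], [4], 3, false),
      ([0, 0, 0, 0, 0, 0, 1, 1, 1, 1, 1, 1, 2, 2], [0, 0, 0, 0, 2, 4], 3, false),
      ([0, 0, 0, 0, 0, 0, 1, 1, 1, 1, 1, 1, 2, 2, 0], [0, 0, 0, 2, 4], 3, false),
      ([0, 0, 0, 0, 0, 0, 1, 1, 1, 1, 1, 1, 2, 2, 0, 0], [0, 0, 2, 4], 3, false),
      ([0, 0, 0, 0, 0, 0, 1, 1, 1, 1, 1, 1, 2, 2, 0, 0, 0], [0, 2, 4], 3, false),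
      ([0, 0, 0, 0, 0, 0, 1, 1, 1, 1, 1, 1, 2, 2, 0, 0, 0, 0], [2, 4], 3, false),
      ([0, 0, 0, 0, 0, 0, 1, 1, 1, 1, 1, 1, 2], [0, 0, 0, 0, 2, 2, 4], 3, false),
      ([0, 0, 0, 0, 0, 0, 1, 1, 1, 1, 1, 1, 2, 0], [0, 0, 0, 2, 2, 4], 3, false),
      ([0, 0, 0, 0, 0, 0, 1, 1, 1, 1, 1, 1, 2, 0, 0], [0, 0, 2, 2, 4], 3, false),
      ([0, 0, 0, 0, 0, 0, 1, 1, 1, 1, 1, 1, 2, 0, 0, 0], [0, 2, 2, 4], 3, false),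
      ([0, 0, 0, 0, 0, 0, 1, 1, 1, 1, 1, 1, 2, 0, 0, 0, 0], [2, 2, 4], 3, false),
      ([0, 0, 0, 0, 0, 0, 1, 1, 1, 1, 1, 1], [0, 0, 0, 0, 2, 2, 2, 4], 3, false),
      ([0, 0, 0, 0, 0, 0, 1, 1, 1, 1, 1, 1, 0], [0, 0, 0, 2, 2, 2, 4], 3, false),
      ([0, 0, 0, 0, 0, 0, 1, 1, 1, 1, 1, 1, 0, 0], [0, 0, 2, 2, 2, 4], 3, false),
      ([0, 0, 0, 0, 0, 0, 1, 1, 1, 1, 1, 1, 0, 0, 0], [0, 2, 2, 2, 4], 3, false),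
      ([0, 0, 0, 0, 0, 0, 1, 1, 1, 1, 1, 1, 0, 0, 0, 0], [2, 2, 2, 4], 3, false),
      ([0, 0, 0, 0, 0, 0, 1, 1, 1, 1, 1], [0, 0, 0, 0, 2, 2, 2, 2, 4], 1, false),
      ([0, 0, 0, 0, 0, 0, 1, 1, 1, 1, 1, 0], [0, 0, 0, 2, 2, 2, 2, 4], 1, false),
      ([0, 0, 0, 0, 0, 0, 1, 1, 1, 1, 1, 0, 0], [0, 0, 2, 2, 2, 2, 4], 1, false),
      ([0, 0, 0, 0, 0, 0, 1, 1, 1, 1, 1, 0, 0, 0], [0, 2, 2, 2, 2, 4], 1, false),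
      ([0, 0, 0, 0, 0, 0, 1, 1, 1, 1, 1, 0, 0, 0, 0], [2, 2, 2, 2, 4], 1, false),
      ([0, 0, 0, 0, 0, 0, 1, 1, 1, 1], [0, 0, 0, 0, 1, 2, 2, 2, 2, 4], 1, false),
      ([0, 0, 0, 0, 0, 0, 1, 1, 1, 1, 0], [0, 0, 0, 1, 2, 2, 2, 2, 4], 1, false),
      ([0, 0, 0, 0, 0, 0, 1, 1, 1, 1, 0, 0], [0, 0, 1, 2, 2, 2, 2, 4], 1, false),
      ([0, 0, 0, 0, 0, 0, 1, 1, 1, 1, 0, 0, 0], [0, 1, 2, 2, 2, 2, 4], 1, false),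
      ([0, 0, 0, 0, 0, 0, 1, 1, 1, 1, 0, 0, 0, 0], [1, 2, 2, 2, 2, 4], 1, false),
      ([0, 0, 0, 0, 0, 0, 1, 1, 1], [0, 0, 0, 0, 1, 1, 2, 2, 2, 2, 4], 1, false),
      ([0, 0, 0, 0, 0, 0, 1, 1, 1, 0], [0, 0, 0, 1, 1, 2, 2, 2, 2, 4], 1, false),
      ([0, 0, 0, 0, 0, 0, 1, 1, 1, 0, 0], [0, 0, 1, 1, 2, 2, 2, 2, 4], 1, false),
      ([0, 0, 0, 0, 0, 0, 1, 1, 1, 0, 0, 0], [0, 1, 1, 2, 2, 2, 2, 4], 1, false),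
      ([0, 0, 0, 0, 0, 0, 1, 1, 1, 0, 0, 0, 0], [1, 1, 2, 2, 2, 2, 4], 1, false),
      ([0, 0, 0, 0, 0, 0, 1, 1], [0, 0, 0, 0, 1, 1, 1, 2, 2, 2, 2, 4], 1, false),
      ([0, 0, 0, 0, 0, 0, 1, 1, 0], [0, 0, 0, 1, 1, 1, 2, 2, 2, 2, 4], 1, false),
      ([0, 0, 0, 0, 0, 0, 1, 1, 0, 0], [0, 0, 1, 1, 1, 2, 2, 2, 2, 4], 1, false),
      ([0, 0, 0, 0, 0, 0, 1, 1, 0, 0, 0], [0, 1, 1, 1, 2, 2, 2, 2, 4], 1, false),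
      ([0, 0, 0, 0, 0, 0, 1, 1, 0, 0, 0, 0], [1, 1, 1, 2, 2, 2, 2, 4], 1, false),
      ([0, 0, 0, 0, 0, 0, 1], [0, 0, 0, 0, 1, 1, 1, 1, 2, 2, 2, 2, 4], 1, false),
      ([0, 0, 0, 0, 0, 0, 1, 0], [0, 0, 0, 1, 1, 1, 1, 2, 2, 2, 2, 4], 1, false),
      ([0, 0, 0, 0, 0, 0, 1, 0, 0], [0, 0, 1, 1, 1, 1, 2, 2, 2, 2, 4], 1, false),
      ([0, 0, 0, 0, 0, 0, 1, 0, 0, 0], [0, 1, 1, 1, 1, 2, 2, 2, 2, 4], 1, false),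
      ([0, 0, 0, 0, 0, 0, 1, 0, 0, 0, 0], [1, 1, 1, 1, 2, 2, 2, 2, 4], 1, false),
      ([0, 0, 0, 0, 0, 0], [0, 0, 0, 0, 1, 1, 1, 1, 1, 2, 2, 2, 2, 4], 1, false),
      ([0, 0, 0, 0, 0, 0, 0], [0, 0, 0, 1, 1, 1, 1, 1, 2, 2, 2, 2, 4], 1, false),
      ([0, 0, 0, 0, 0, 0, 0, 0], [0, 0, 1, 1, 1, 1, 1, 2, 2, 2, 2, 4], 1, false),
      ([0, 0, 0, 0, 0, 0, 0, 0, 0], [0, 1, 1, 1, 1, 1, 2, 2, 2, 2, 4], 1, false),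
      ([0, 0, 0, 0, 0, 0, 0, 0, 0, 0], [1, 1, 1, 1, 1, 2, 2, 2, 2, 4], 1, false),
      ([0, 0, 0, 0], [1, 1, 1, 1, 1, 1, 2, 2, 2, 2, 4], 0, false),
      ([], [0, 0, 0, 0, 1, 1, 1, 1, 1, 1, 2, 2, 2, 2, 4], 0, true),
      ([0, 0, 0, 0, 0], [], 11, true),
      ([], [2], 9, true),
      ([4], [], 3, true)]),
    ([3, 2, 2, 2, 2, 2, 2, 2], path7_4_0 ++ path7_4_1 ++ path7_4_2 ++ path7_4_3 ++ path7_4_4 ++ path7_4_5)]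
  rows := [[0, 0, 2, 0, 0, 0, 0, 0, 0, 0, 0, 0],
    [4, 0, 0, 0, 0, 0, 0, 0, 0, 0, 0, 0],
    [0, 5, 0, 0, 0, 0, 0, 0, 0, 0, 0, 0],
    [0, 2, 0, 5, 0, 0, 0, 0, 0, 0, 0, 0],
    [0, 0, 1, 0, 0, 2, 0, 0, 0, 0, 0, 0]]
  mu := [[0, 0, 0, 0, 2, 0, 0, 0, 0, 0, 0, 0],
    [0, 0, 0, 0, 0, 0, 0, 0, 0, 0, 0, 0],
    [0, 0, 0, 0, 0, 0, 0, 0, 0, 0, 0, 0]]
  comb := [[0, 2, 0, 0, 0],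
    [0, 0, 3, 0, 0],
    [4, 0, 0, 0, 0],
    [0, 0, 3, 3, 0],
    [0, 0, 0, 0, 0],
    [5, 0, 0, 0, 4]]

/-- Part of a closed path for the prime 2. -/
def path2_35_0 : List SchurPath.Step :=
  [([], [7], 44, false),
    ([], [], 30, true),
    ([], [7, 2], 2, true),
    ([], [1, 1, 7, 2], 0, true),
    ([0], [1, 7, 2], 1, true),
    ([0, 1], [2], 29, true),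
    ([0, 1, 7], [], 44, true),
    ([], [7, 8, 8], 20, true),
    ([], [5, 5, 7, 8, 8], 2, true),
    ([], [1, 1, 5, 5, 7, 8, 8], 0, true),
    ([0], [1, 5, 5, 7, 8, 8], 1, true),
    ([0, 1], [5, 5, 7, 8, 8], 9, true),
    ([0, 1, 3], [5, 7, 8, 8], 18, true),
    ([], [3, 5, 3, 5, 7, 8, 8], 1, true),
    ([1], [5, 3, 5, 7, 8, 8], 6, true),
    ([1, 3], [3, 5, 7, 8, 8], 15, true),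
    ([1, 3, 5], [7, 8, 8], 27, true),
    ([1, 3], [5, 6, 6, 7, 8, 8], 14, true),
    ([], [4, 4, 5, 6, 6, 7, 8, 8], 7, true),
    ([3], [4, 5, 6, 6, 7, 8, 8], 11, true),
    ([3, 4], [6, 6, 7, 8, 8], 19, true),
    ([], [3, 4, 5, 4, 6, 6, 7, 8, 8], 0, true),
    ([0], [3, 4, 5, 4, 6, 6, 7, 8, 8], 5, true),
    ([0, 2], [4, 5, 4, 6, 6, 7, 8, 8], 8, true),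
    ([], [3, 2, 4, 5, 4, 6, 6, 7, 8, 8], 3, true),
    ([2], [2, 4, 5, 4, 6, 6, 7, 8, 8], 6, true),
    ([2, 3], [5, 4, 6, 6, 7, 8, 8], 12, true),
    ([2, 3, 4], [4, 6, 6, 7, 8, 8], 17, true),
    ([2, 3, 4, 5], [6, 7, 8, 8], 25, true),
    ([], [4, 5, 6, 4, 6, 7, 8, 8], 8, true),
    ([], [3, 2, 4, 5, 6, 4, 6, 7, 8, 8], 0, true),
    ([0], [2, 4, 5, 6, 4, 6, 7, 8, 8], 6, true),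
    ([0, 3], [5, 6, 4, 6, 7, 8, 8], 12, true),
    ([0, 3, 4], [6, 4, 6, 7, 8, 8], 17, true),
    ([0, 3, 4, 5], [4, 6, 7, 8, 8], 23, true),
    ([0], [3, 4, 5, 6, 2, 4, 6, 7, 8, 8], 2, true),
    ([0, 1], [4, 5, 6, 2, 4, 6, 7, 8, 8], 7, true),
    ([0, 1, 3], [5, 6, 2, 4, 6, 7, 8, 8], 11, true),
    ([0, 1, 3, 4], [6, 2, 4, 6, 7, 8, 8], 16, true),
    ([0, 1, 3, 4, 5], [2, 4, 6, 7, 8, 8], 22, true),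
    ([], [3, 4, 5, 6, 1, 2, 4, 6, 7, 8, 8], 1, true),
    ([1], [4, 5, 6, 1, 2, 4, 6, 7, 8, 8], 6, true),
    ([1, 3], [5, 6, 1, 2, 4, 6, 7, 8, 8], 10, true),
    ([1, 3, 4], [6, 1, 2, 4, 6, 7, 8, 8], 15, true),
    ([1, 3, 4, 5], [1, 2, 4, 6, 7, 8, 8], 21, true),
    ([1, 3, 4, 5, 6], [8], 43, true),
    ([], [1, 3, 4, 5, 6, 8, 7, 8], 0, true),
    ([0], [5, 6, 8, 7, 8], 13, true),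
    ([], [3, 5, 6, 8, 7, 8], 10, true),
    ([4], [7, 8], 42, true),
    ([], [4, 8, 6, 7, 8], 0, true),
    ([0], [4, 8, 6, 7, 8], 5, true),
    ([0], [2, 2, 4, 8, 6, 7, 8], 2, true),
    ([0, 1], [2, 4, 8, 6, 7, 8], 4, true),
    ([0, 1, 2], [6, 7, 8], 40, true),
    ([], [2, 8, 4, 6, 7, 8], 1, true),
    ([1], [4, 6, 7, 8], 38, true),
    ([], [1, 8, 2, 4, 6, 7, 8], 0, true),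
    ([0], [2, 4, 6, 7, 8], 37, true),
    ([], [1, 2, 4, 6, 7, 8], 36, true)]

/-- Part of a closed path for the prime 2. -/
def path2_35_1 : List SchurPath.Step :=
  [([8], [], 43, true)]

/-- Part of a closed path for the prime 2. -/
def path2_36_0 : List SchurPath.Step :=
  [([], [3, 5, 3, 5], 51, false),
    ([0, 2, 4], [3, 5], 54, false),
    ([0, 2, 4, 3, 4, 6, 8], [], 54, false),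
    ([0, 2], [4, 6, 8, 3, 4, 6, 8, 11], 13, false),
    ([0], [1, 3, 4, 4, 6, 8, 3, 4, 6, 8, 11], 3, false),
    ([], [2, 1, 3, 4, 4, 6, 8, 3, 4, 6, 8, 11], 0, false),
    ([], [3, 4, 4, 6, 8, 3, 4, 6, 8, 11], 4, false),
    ([1, 2, 3], [6, 8, 3, 4, 6, 8, 11], 14, false),
    ([1, 2, 3, 6], [4, 6, 8, 11], 39, false),
    ([1, 2, 3], [2, 3, 8, 4, 6, 8, 11], 21, false),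
    ([1, 2], [6, 2, 3, 8, 4, 6, 8, 11], 6, false),
    ([1], [3, 6, 2, 3, 8, 4, 6, 8, 11], 3, false),
    ([], [2, 3, 6, 2, 3, 8, 4, 6, 8, 11], 1, false),
    ([0, 1, 2, 3], [3, 8, 4, 6, 8, 11], 23, false),
    ([0, 1, 2], [6, 3, 8, 4, 6, 8, 11], 8, false),
    ([0, 1], [3, 6, 3, 8, 4, 6, 8, 11], 5, false),
    ([0], [3, 6, 3, 8, 4, 6, 8, 11], 1, false),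
    ([], [1, 3, 6, 3, 8, 4, 6, 8, 11], 0, false),
    ([1, 3], [8, 4, 6, 8, 11], 24, false),
    ([1], [6, 8, 4, 6, 8, 11], 9, false),
    ([], [1, 6, 8, 4, 6, 8, 11], 1, false),
    ([0], [6, 8, 4, 6, 8, 11], 2, false),
    ([0, 6], [6, 8, 11], 40, false),
    ([0], [2, 4, 8, 6, 8, 11], 22, false),
    ([0, 1], [4, 8, 6, 8, 11], 23, false),
    ([0, 1, 2], [8, 6, 8, 11], 25, false),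
    ([0, 1], [4, 6, 8, 6, 8, 11], 5, false),
    ([0], [4, 6, 8, 6, 8, 11], 1, false),
    ([], [1, 4, 6, 8, 6, 8, 11], 0, false),
    ([1, 4, 6], [8, 11], 42, false),
    ([1, 4], [3, 5, 6, 8, 8, 11], 21, false),
    ([1], [6, 3, 5, 6, 8, 8, 11], 10, false),
    ([], [4, 6, 3, 5, 6, 8, 8, 11], 1, false),
    ([0, 1, 4], [5, 6, 8, 8, 11], 24, false),
    ([0, 1], [6, 5, 6, 8, 8, 11], 13, false),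
    ([0], [1, 3, 4, 6, 5, 6, 8, 8, 11], 1, false),
    ([], [1, 1, 3, 4, 6, 5, 6, 8, 8, 11], 0, false),
    ([], [3, 4, 6, 5, 6, 8, 8, 11], 2, false),
    ([3, 4], [6, 8, 8, 11], 26, false),
    ([3, 4, 5], [8, 8, 11], 27, false),
    ([3, 4], [3, 5, 8, 8, 11], 15, false),
    ([3], [5, 3, 5, 8, 8, 11], 10, false),
    ([], [4, 5, 3, 5, 8, 8, 11], 6, false),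
    ([0, 3, 4], [5, 8, 8, 11], 18, false),
    ([0, 3], [5, 5, 8, 8, 11], 13, false),
    ([0], [1, 3, 4, 5, 5, 8, 8, 11], 6, false),
    ([], [3, 1, 3, 4, 5, 5, 8, 8, 11], 0, false),
    ([], [3, 4, 5, 5, 8, 8, 11], 7, false),
    ([1], [4, 5, 5, 8, 8, 11], 9, false),
    ([], [1, 4, 5, 5, 8, 8, 11], 1, false),
    ([0], [4, 5, 5, 8, 8, 11], 2, false),
    ([0, 4], [8, 8, 11], 20, false),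
    ([0], [1, 8, 8, 11], 10, false),
    ([], [4, 1, 8, 8, 11], 0, false),
    ([], [8, 8, 11], 11, false),
    ([1, 4], [11], 44, false),
    ([1], [2, 11], 11, false),
    ([], [4, 2, 11], 2, false),
    ([], [11], 12, false),
    ([], [], 51, true)]

/-- Part of a closed path for the prime 2. -/
def path2_36_1 : List SchurPath.Step :=
  [([11], [1], 0, true),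
    ([11, 0], [], 20, true),
    ([11, 0], [5, 5], 2, true),
    ([11], [1, 5, 5], 1, true),
    ([11, 1], [5, 5], 9, true),
    ([11, 1, 3], [5], 18, true)]

/-- Part of a closed path for the prime 2. -/
def path2_37_0 : List SchurPath.Step :=
  [([], [4], 53, false),
    ([0, 2, 4, 5, 6, 8], [], 53, false),
    ([0, 2, 4, 5, 6], [2, 4, 5, 6, 8, 11], 36, false),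
    ([0, 2, 4, 5], [8, 2, 4, 5, 6, 8, 11], 21, false),
    ([0, 2, 4], [6, 8, 2, 4, 5, 6, 8, 11], 15, false),
    ([0, 2], [5, 6, 8, 2, 4, 5, 6, 8, 11], 10, false),
    ([0], [4, 5, 6, 8, 2, 4, 5, 6, 8, 11], 3, false),
    ([], [2, 4, 5, 6, 8, 2, 4, 5, 6, 8, 11], 0, false),
    ([2, 4, 5, 6], [4, 5, 6, 8, 11], 38, false),
    ([2, 4, 5], [2, 8, 4, 5, 6, 8, 11], 21, false),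
    ([2, 4], [6, 2, 8, 4, 5, 6, 8, 11], 15, false),
    ([2], [5, 6, 2, 8, 4, 5, 6, 8, 11], 10, false),
    ([], [4, 5, 6, 2, 8, 4, 5, 6, 8, 11], 3, false),
    ([0, 2, 4, 5], [8, 4, 5, 6, 8, 11], 23, false),
    ([0, 2, 4], [6, 8, 4, 5, 6, 8, 11], 17, false),
    ([0, 2], [5, 6, 8, 4, 5, 6, 8, 11], 12, false),
    ([0], [2, 4, 5, 6, 8, 4, 5, 6, 8, 11], 3, false),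
    ([], [2, 2, 4, 5, 6, 8, 4, 5, 6, 8, 11], 0, false),
    ([], [4, 5, 6, 8, 4, 5, 6, 8, 11], 5, false),
    ([0, 4, 5, 6], [5, 6, 8, 11], 40, false),
    ([0, 4, 5], [2, 4, 8, 5, 6, 8, 11], 22, false),
    ([0, 4], [6, 2, 4, 8, 5, 6, 8, 11], 16, false),
    ([0], [5, 6, 2, 4, 8, 5, 6, 8, 11], 11, false),
    ([0, 1, 4, 5], [4, 8, 5, 6, 8, 11], 23, false),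
    ([0, 1, 4], [6, 4, 8, 5, 6, 8, 11], 17, false),
    ([0, 1], [5, 6, 4, 8, 5, 6, 8, 11], 12, false),
    ([0], [2, 4, 5, 6, 4, 8, 5, 6, 8, 11], 1, false),
    ([], [1, 2, 4, 5, 6, 4, 8, 5, 6, 8, 11], 0, false),
    ([1, 2, 4, 5], [8, 5, 6, 8, 11], 25, false),
    ([1, 2, 4], [4, 6, 8, 5, 6, 8, 11], 17, false),
    ([1, 2], [5, 4, 6, 8, 5, 6, 8, 11], 12, false),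
    ([1], [2, 4, 5, 4, 6, 8, 5, 6, 8, 11], 3, false),
    ([], [2, 2, 4, 5, 4, 6, 8, 5, 6, 8, 11], 1, false),
    ([0, 1], [4, 5, 4, 6, 8, 5, 6, 8, 11], 5, false),
    ([0], [4, 5, 4, 6, 8, 5, 6, 8, 11], 1, false),
    ([], [1, 4, 5, 4, 6, 8, 5, 6, 8, 11], 0, false),
    ([1, 4], [6, 8, 5, 6, 8, 11], 19, false),
    ([1], [4, 5, 6, 8, 5, 6, 8, 11], 11, false),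
    ([], [4, 4, 5, 6, 8, 5, 6, 8, 11], 2, false),
    ([], [5, 6, 8, 5, 6, 8, 11], 14, false),
    ([5, 6], [6, 8, 11], 41, false),
    ([5], [5, 8, 6, 8, 11], 23, false),
    ([], [6, 5, 8, 6, 8, 11], 17, false),
    ([2, 5], [8, 6, 8, 11], 26, false),
    ([2], [6, 8, 6, 8, 11], 20, false),
    ([], [1, 6, 8, 6, 8, 11], 3, false),
    ([0], [6, 8, 6, 8, 11], 4, false),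
    ([0, 1, 2, 6], [8, 11], 42, false),
    ([0, 1, 2], [3, 5, 6, 8, 8, 11], 21, false),
    ([0, 1], [6, 3, 5, 6, 8, 8, 11], 3, false),
    ([0], [2, 6, 3, 5, 6, 8, 8, 11], 1, false),
    ([], [1, 2, 6, 3, 5, 6, 8, 8, 11], 0, false),
    ([1, 2], [5, 6, 8, 8, 11], 24, false),
    ([1, 2, 3], [6, 8, 8, 11], 26, false),
    ([1, 2, 3, 5], [8, 8, 11], 27, false),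
    ([1, 2, 3], [3, 5, 8, 8, 11], 15, false),
    ([1, 2], [5, 3, 5, 8, 8, 11], 6, false),
    ([1], [3, 5, 3, 5, 8, 8, 11], 3, false),
    ([], [2, 3, 5, 3, 5, 8, 8, 11], 1, false),
    ([0, 1, 2, 3], [5, 8, 8, 11], 18, false)]

/-- Part of a closed path for the prime 2. -/
def path2_37_1 : List SchurPath.Step :=
  [([0, 1, 2], [5, 5, 8, 8, 11], 9, false),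
    ([0, 1], [1, 5, 5, 8, 8, 11], 3, false),
    ([0], [2, 1, 5, 5, 8, 8, 11], 1, false),
    ([], [1, 2, 1, 5, 5, 8, 8, 11], 0, false),
    ([1], [5, 5, 8, 8, 11], 4, false),
    ([], [2, 5, 5, 8, 8, 11], 2, false),
    ([2], [8, 8, 11], 20, false),
    ([], [1, 8, 8, 11], 3, false),
    ([0], [8, 8, 11], 4, false),
    ([0, 1, 2], [11], 44, false),
    ([0, 1], [2, 11], 4, false),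
    ([0], [2, 2, 11], 2, false),
    ([0], [11], 5, false),
    ([], [11], 0, false),
    ([11], [], 14, true)]

/-- Part of a closed path for the prime 2. -/
def path2_38_0 : List SchurPath.Step :=
  [([], [2, 7, 8], 58, false),
    ([3, 5], [], 58, false),
    ([3], [5, 12], 18, false),
    ([], [5, 5, 12], 9, false),
    ([0, 1], [12], 20, false),
    ([0], [1, 12], 1, false),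
    ([], [1, 1, 12], 0, false),
    ([], [12], 2, false),
    ([12], [], 0, true),
    ([12, 0], [], 5, true),
    ([12, 0], [2, 2], 2, true),
    ([12, 0, 1], [2], 4, true),
    ([12, 0, 1, 2], [], 44, true),
    ([12, 0], [8, 8], 4, true),
    ([12], [1, 8, 8], 3, true),
    ([12, 2], [8, 8], 20, true),
    ([12], [2, 5, 5, 8, 8], 2, true),
    ([12, 1], [5, 5, 8, 8], 4, true),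
    ([12], [1, 2, 1, 5, 5, 8, 8], 0, true),
    ([12, 0], [2, 1, 5, 5, 8, 8], 1, true),
    ([12, 0, 1], [1, 5, 5, 8, 8], 3, true),
    ([12, 0, 1, 2], [5, 5, 8, 8], 9, true),
    ([12, 0, 1, 2, 3], [5, 8, 8], 18, true),
    ([12], [2, 3, 5, 3, 5, 8, 8], 1, true),
    ([12, 1], [3, 5, 3, 5, 8, 8], 3, true),
    ([12, 1, 2], [5, 3, 5, 8, 8], 6, true),
    ([12, 1, 2, 3], [3, 5, 8, 8], 15, true),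
    ([12, 1, 2, 3, 5], [8, 8], 27, true),
    ([12, 1, 2, 3], [6, 8, 8], 26, true),
    ([12, 1, 2, 3], [6, 5, 6, 8, 8], 14, true),
    ([12, 1], [4, 4, 6, 5, 6, 8, 8], 8, true),
    ([12], [1, 3, 2, 4, 4, 6, 5, 6, 8, 8], 0, true),
    ([12, 0], [3, 2, 4, 4, 6, 5, 6, 8, 8], 1, true),
    ([12, 0, 1], [2, 4, 4, 6, 5, 6, 8, 8], 6, true),
    ([12, 0, 1, 3], [4, 6, 5, 6, 8, 8], 12, true),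
    ([12, 0, 1, 3, 4], [5, 6, 8, 8], 25, true),
    ([12], [6, 4, 5, 6, 8, 8], 13, true),
    ([12, 4], [4, 5, 6, 8, 8], 24, true),
    ([12], [4, 6, 3, 4, 5, 6, 8, 8], 0, true),
    ([12, 0], [4, 6, 3, 4, 5, 6, 8, 8], 5, true),
    ([12], [2, 4, 6, 3, 4, 5, 6, 8, 8], 3, true),
    ([12, 2], [6, 3, 4, 5, 6, 8, 8], 12, true),
    ([12, 2, 4], [3, 4, 5, 6, 8, 8], 23, true),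
    ([12], [2, 4, 6, 2, 3, 4, 5, 6, 8, 8], 2, true),
    ([12, 1], [4, 6, 2, 3, 4, 5, 6, 8, 8], 4, true),
    ([12, 1, 2], [6, 2, 3, 4, 5, 6, 8, 8], 11, true),
    ([12, 1, 2, 4], [2, 3, 4, 5, 6, 8, 8], 22, true),
    ([12, 1, 2, 4, 6], [8, 8], 35, true),
    ([12], [4, 6, 7, 7, 8, 8], 4, true),
    ([12], [2, 1, 4, 6, 7, 7, 8, 8], 0, true),
    ([12, 0], [1, 4, 6, 7, 7, 8, 8], 3, true),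
    ([12, 0, 2], [4, 6, 7, 7, 8, 8], 9, true),
    ([12, 0], [2, 3, 3, 4, 6, 7, 7, 8, 8], 2, true),
    ([12, 0, 1], [3, 3, 4, 6, 7, 7, 8, 8], 4, true),
    ([12, 0, 1, 2], [3, 4, 6, 7, 7, 8, 8], 7, true),
    ([12], [2, 3, 1, 3, 4, 6, 7, 7, 8, 8], 1, true),
    ([12, 1], [3, 1, 3, 4, 6, 7, 7, 8, 8], 3, true),
    ([12, 1, 2], [1, 3, 4, 6, 7, 7, 8, 8], 6, true),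
    ([12, 1, 2, 3], [6, 7, 7, 8, 8], 13, true),
    ([12, 1], [4, 3, 6, 7, 7, 8, 8], 8, true)]

/-- Part of a closed path for the prime 2. -/
def path2_38_1 : List SchurPath.Step :=
  [([12], [1, 3, 2, 4, 3, 6, 7, 7, 8, 8], 0, true),
    ([12, 0], [3, 2, 4, 3, 6, 7, 7, 8, 8], 1, true),
    ([12, 0, 1], [2, 4, 3, 6, 7, 7, 8, 8], 6, true),
    ([12, 0, 1, 3], [3, 6, 7, 7, 8, 8], 12, true),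
    ([12], [3, 4, 2, 3, 6, 7, 7, 8, 8], 1, true),
    ([12, 1], [4, 2, 3, 6, 7, 7, 8, 8], 6, true),
    ([12, 1, 3], [2, 3, 6, 7, 7, 8, 8], 10, true),
    ([12, 1, 3, 4], [7, 8, 8], 34, true),
    ([12], [1, 3, 4, 7, 6, 7, 8, 8], 0, true),
    ([12, 0], [3, 4, 7, 6, 7, 8, 8], 1, true),
    ([12, 0, 1], [3, 4, 7, 6, 7, 8, 8], 5, true),
    ([12], [2, 2, 3, 4, 7, 6, 7, 8, 8], 1, true),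
    ([12, 1], [2, 3, 4, 7, 6, 7, 8, 8], 3, true),
    ([12, 1, 2], [6, 7, 8, 8], 32, true),
    ([12], [4, 6, 7, 8, 8], 30, true),
    ([12], [7, 2, 4, 6, 7, 8, 8], 2, true),
    ([12], [1, 1, 7, 2, 4, 6, 7, 8, 8], 0, true),
    ([12, 0], [1, 7, 2, 4, 6, 7, 8, 8], 1, true),
    ([12, 0, 1], [2, 4, 6, 7, 8, 8], 29, true),
    ([12], [7, 1, 2, 4, 6, 7, 8, 8], 1, true),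
    ([12, 1], [1, 2, 4, 6, 7, 8, 8], 28, true),
    ([12, 1, 7], [8], 43, true),
    ([12], [1, 7, 8, 7, 8], 0, true),
    ([12, 0], [7, 8, 7, 8], 1, true),
    ([12, 0, 1], [7, 8, 7, 8], 5, true),
    ([12, 0], [2, 7, 8, 7, 8], 4, true),
    ([12, 0, 2], [8, 7, 8], 30, true),
    ([12], [7, 2, 8, 7, 8], 3, true),
    ([12, 2], [2, 8, 7, 8], 28, true),
    ([12, 2, 7], [7, 8], 38, true)]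

/-- Words of elements. -/
def elts2_0 : List (List ℕ) :=
  [[], [0, 1, 2, 3, 8], [0, 1, 4, 5, 7], [0, 1, 2, 3, 5, 8], [1, 3, 4, 8], [1, 3, 4, 5, 6, 7, 8], [0, 1, 2, 4, 6], [0, 1, 2, 3, 4], [1, 3, 4, 5, 6, 7], [0, 1, 6, 7, 8], [0, 2, 5, 6, 7], [0, 1, 2, 5, 6, 7, 8], [0, 4], [0, 1, 3, 4, 7], [0, 4, 5, 8], [1, 3, 4, 5, 7], [2, 3], [1, 5, 7], [2, 4, 6, 8], [1, 3, 5, 6, 7, 8], [1, 2, 3, 5, 7, 8], [3, 5, 7], [0, 2, 3, 4, 7, 8], [1, 4, 5, 6], [2, 3, 5, 6, 7], [2, 3, 4, 6], [2, 4, 5, 6], [7, 8], [4, 7, 8], [1, 2, 3, 4, 5, 6, 8], [1, 4, 5, 6, 7, 8], [1, 2, 3, 7, 8], [0, 6, 8], [6], [0, 1, 5, 6, 8], [0, 6, 7, 8], [0, 1, 3, 5, 6], [2, 4, 5, 6, 8], [0, 1, 2, 4], [1, 4], [1, 2, 4], [2, 3, 4, 5, 6, 8], [1, 3], [0, 2,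 4, 5], [1, 3, 4, 5, 8], [1, 3, 4, 5, 7, 8], [0, 1, 2, 4, 5, 6, 7], [0, 1, 2, 7], [0, 1, 3, 6, 8], [0, 5, 6], [0, 2, 4, 5, 6, 7], [0, 1, 2, 4, 6, 8], [1, 7, 8], [0, 1, 2, 3, 5, 6, 7, 8], [1, 2, 6, 8], [2, 5, 6, 8], [1, 2, 3, 5, 8], [0, 1, 4, 5, 7, 8], [1, 4, 5, 6, 7], [2, 4, 8], [0, 1, 2, 4, 6, 7], [0, 3, 4, 6], [0, 2, 5, 6, 8], [0, 5, 6, 8], [0, 2, 3, 6, 7], [0, 2, 3, 5, 6], [0, 3, 4, 8], [0, 3, 4, 5, 6, 7, 8], [0, 4, 6], [1, 2, 4, 5, 6, 8], [0, 2, 3, 6], [2, 6, 7], [2, 7], [0, 3, 7], [0, 1, 2, 5], [1, 5], [0, 2, 5, 7], [0, 3, 7, 8], [3, 4, 6, 7, 8], [0, 1, 5, 6, 7], [0, 1, 2, 4, 5, 6, 7, 8], [1, 3, 4, 5], [0, 1, 2, 5, 6, 8], [1, 4, 6], [0, 1, 3, 4, 5, 6], [0, 1, 2, 4, 7], [1, 2, 4, 6, 8], [1, 2, 6, 7],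 [0, 3, 6, 8], [4, 5, 6, 7], [3, 6, 7], [0, 3, 5, 6, 8], [0, 1, 2, 3, 6, 7, 8], [0, 3, 4, 6, 7], [3, 6, 8], [1, 2, 3, 4, 7, 8], [2, 3, 5, 6, 7, 8], [0, 2, 3, 4, 5], [0, 2, 4, 5, 6, 8], [2, 3, 7], [0, 5, 6, 7, 8], [1, 4, 7, 8], [2, 6, 7, 8], [0, 3, 5, 7], [0, 6, 7], [1, 2, 3, 4, 5, 7], [0, 7], [5, 6, 7], [2, 6, 8], [1, 3, 5], [0, 1, 2, 3, 4, 6, 7], [1, 2, 5, 7, 8], [1, 2, 4, 8], [2, 3, 5, 7, 8], [1, 2, 7], [0, 1, 3, 5, 7, 8], [0, 1, 2, 4, 5, 7], [2, 5, 7], [2], [0, 4, 5, 6, 7, 8], [0, 3, 4, 7, 8], [0, 4, 6, 8], [1, 2, 4, 7, 8], [0, 2, 3, 4, 7], [0, 1, 3], [0, 3, 4, 5, 8], [1, 2, 3, 4, 5, 6, 7], [2, 4, 6, 7, 8], [0, 1, 2, 4, 5], [0, 4, 5, 7], [0, 1, 3, 4, 5, 6, 8], [1, 3, 5, 6, 7], [1, 2, 3, 4, 6], [1], [0,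 1, 2, 3, 7], [1, 2, 3, 4, 6, 7], [0, 2, 3, 4, 8], [2, 4, 5, 7, 8], [1, 2, 3, 5, 6, 7], [0, 4, 5], [0, 1, 4, 5, 6, 8], [2, 3, 4, 7], [0, 1, 2, 4, 5, 6, 8], [1, 2, 4, 5, 7, 8], [0, 1, 4, 5, 6, 7, 8], [0, 3, 5, 6], [1, 3, 7], [0, 4, 7], [0, 2, 3, 4, 6, 7], [1, 2, 4, 7], [0, 3, 5, 6, 7, 8], [0, 6], [1, 2, 3, 8], [0, 2, 4, 7], [4, 5, 6, 7, 8], [1, 2, 3, 6, 8], [0, 3, 4, 5, 6], [0, 1, 4, 5, 6], [2, 5, 8], [0, 1, 2, 3, 4, 5, 6, 8], [0, 2, 4, 5, 7, 8], [0, 1, 4, 7, 8], [0, 2], [1, 2, 3, 4, 6, 7, 8], [1, 2, 3, 4, 5, 6], [0, 1, 3, 5, 7], [0, 1, 4, 6, 7, 8], [0, 2, 3, 4, 5, 7], [1, 2, 3], [3, 5, 8], [3, 4, 6, 7], [5], [0, 2, 3, 5, 6, 8], [0, 2, 3, 4, 5, 8], [4, 5, 6, 8], [1, 6, 7], [0, 1, 5, 6], [2, 3, 7, 8], [4, 6],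 [0, 2, 3, 4, 5, 6, 7, 8], [4, 6, 7], [5, 7], [0, 1, 2, 3, 4, 8], [0, 1, 2, 3, 4, 5, 6, 7, 8], [1, 5, 6, 7, 8], [0, 4, 5, 6, 7], [0, 1, 2, 4, 5, 6], [4, 5, 8], [1, 3, 4], [0, 1, 5], [0, 1, 3, 8], [0, 3, 6], [0, 2, 4, 6, 8], [0, 1, 2, 3, 6, 7], [2, 4, 5], [0, 1, 2, 8], [0, 1, 4, 6, 7], [0, 1, 2, 3, 4, 6], [1, 7], [0, 1, 3, 4, 6, 7, 8]]

/-- Words of elements. -/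
def elts2_1 : List (List ℕ) :=
  [[2, 3, 4, 5, 6, 7], [0, 5], [1, 2, 3, 4, 8], [0, 1, 4, 6, 8], [0, 2, 5, 7, 8], [1, 4, 6, 8], [0, 1], [0, 1, 6], [3, 4, 5, 6, 7, 8], [0, 1, 4, 6], [1, 3, 4, 6], [2, 3, 8], [0, 1, 3, 6], [0, 2, 3], [0, 1, 3, 5, 6, 7, 8], [1, 3, 5, 7], [0, 3, 6, 7], [1, 5, 8], [3, 4, 5, 7], [0, 3, 4, 5, 7], [2, 3, 5, 6], [1, 3, 6, 8], [0, 2, 4, 6, 7], [0, 1, 2, 3, 5, 6], [0, 1, 2, 3, 4, 5, 7], [3, 6, 7, 8], [0, 2, 3, 5, 7, 8], [2, 4, 6], [1, 2, 3, 6, 7], [3, 5], [0, 2, 3, 4, 5, 6, 7], [0, 2, 3, 8], [1, 2, 3, 5, 6, 8], [0, 1, 2, 3, 5, 7], [1, 6], [0, 2, 3, 7, 8], [3, 6], [0, 2, 4, 5, 6, 7, 8], [3, 7, 8], [0, 2, 3, 6, 7, 8], [2, 3, 4, 5], [2, 3, 5], [4, 5, 6], [0, 2, 6, 7, 8], [0, 1, 2, 7, 8],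 [0, 1, 3, 4, 7, 8], [2, 4, 5, 7], [0, 1, 2, 3, 5, 6, 8], [0, 2, 4, 5, 7], [0, 1, 2, 3, 4, 5], [2, 3, 4, 6, 7, 8], [0, 1, 3, 7], [3, 5, 6, 7], [1, 3, 5, 8], [0, 1, 2, 3, 5, 7, 8], [3, 5, 7, 8], [1, 4, 7], [1, 2, 4, 6], [1, 2, 4, 6, 7, 8], [1, 2, 4, 5, 7], [4, 6, 7, 8], [2, 4, 6, 7], [0, 1, 5, 7, 8], [0, 1, 4, 8], [0, 1, 2, 5, 7], [0, 1, 2, 3, 4, 7], [0, 1, 2, 3, 5], [5, 6, 8], [1, 3, 5, 6, 8], [0, 2, 3, 7], [6, 8], [1, 2, 3, 4, 5], [2, 4], [3, 7], [1, 3, 7, 8], [0, 3, 8], [0, 2, 5, 6], [0, 2, 4, 6, 7, 8], [0, 4, 5, 6], [1, 5, 6, 8], [0, 2, 3, 4, 6], [1, 4, 5], [0, 2, 3, 4, 5, 7, 8], [0, 1, 3, 4, 6, 7], [0, 2, 7], [2, 3, 5, 6, 8], [1, 2, 5, 6, 7, 8], [0, 1, 4, 5, 6, 7], [3, 4, 6, 8], [1, 3, 4, 7], [1, 3, 6],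 [1, 2, 8], [0, 2, 3, 5, 7], [0, 3, 4, 7], [6, 7, 8], [0, 1, 4, 5, 8], [1, 2, 3, 4, 5, 8], [0, 5, 7, 8], [0, 1, 2, 5, 7, 8], [0, 2, 4, 5, 6], [0, 2, 6, 8], [4, 5, 7, 8], [4], [1, 2, 4, 5], [3, 4, 6], [0, 1, 3, 6, 7, 8], [1, 2, 5], [0, 1, 2, 4, 5, 7, 8], [1, 4, 6, 7, 8], [3, 5, 6, 7, 8], [1, 4, 5, 7], [1, 5, 6, 7], [0, 5, 6, 7], [0, 3, 4, 6, 8], [1, 3, 6, 7, 8], [1, 3, 5, 6], [2, 5, 6, 7], [0, 1, 4, 7], [0, 3, 4, 5, 6, 8], [1, 6, 8], [2, 3, 4, 5, 6, 7, 8], [0, 3, 4, 5], [1, 5, 6], [0, 1, 2, 3, 4, 6, 8], [0, 2, 4, 6], [1, 4, 6, 7], [0, 4, 7, 8], [0, 5, 8], [1, 2, 4, 5, 6], [0, 1, 2, 4, 5, 8], [0, 1, 2, 4, 6, 7, 8], [2, 4, 5, 6, 7], [1, 2, 5, 6, 8], [0, 3, 4], [0, 2, 3, 4, 6, 7, 8], [2, 3, 4, 5, 7, 8], [0, 2,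 8], [3, 4, 5, 7, 8], [2, 6], [1, 2, 3, 6], [0, 1, 2, 6], [0, 1, 2, 5, 6], [0, 1, 2, 5, 6, 7], [0, 8], [1, 2, 6, 7, 8], [2, 5, 6, 7, 8], [0, 1, 2, 4, 7, 8], [0, 2, 3, 5], [0, 1, 2, 3, 5, 6, 7], [0, 3, 6, 7, 8], [0, 5, 7], [1, 2, 3, 4, 5, 6, 7, 8], [1, 2, 7, 8], [0, 1, 2], [0, 3], [0, 1, 2, 3, 4, 5, 8], [2, 3, 5, 8], [1, 2, 4, 6, 7], [0, 2, 3, 4], [0, 3, 5], [5, 6, 7, 8], [2, 3, 4, 7, 8], [0, 2, 5, 6, 7, 8], [0, 1, 2, 6, 7, 8], [0, 1, 2, 3, 7, 8], [3, 4, 7, 8], [0, 2, 3, 6, 8], [4, 7], [3, 4, 5, 8], [0, 1, 2, 3], [1, 4, 8], [0, 1, 4], [0, 3, 4, 6, 7, 8], [1, 3, 6, 7], [1, 5, 7, 8], [0, 1, 7, 8], [3], [0, 1, 3, 5, 6, 8], [0, 4, 5, 7, 8], [0], [4, 5, 7], [0, 2, 5, 8], [2, 5, 7, 8], [1, 2, 6], [0, 1, 3, 4, 5,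 6, 7], [2, 7, 8], [0, 2, 3, 5, 6, 7, 8], [1, 2, 5, 8], [0, 3, 5, 7, 8], [2, 3, 4, 6, 7], [2, 3, 4], [0, 2, 6, 7], [0, 7, 8], [1, 3, 4, 6, 7, 8], [8], [2, 3, 4, 5, 7], [1, 4, 5, 7, 8], [0, 1, 2, 3, 4, 7, 8], [0, 1, 3, 4, 5, 7, 8], [1, 6, 7, 8]]

/-- Words of elements. -/
def elts2_2 : List (List ℕ) :=
  [[3, 4, 5, 6], [0, 1, 2, 3, 4, 6, 7, 8], [3, 8], [0, 2, 3, 4, 5, 6, 8], [0, 1, 4, 5], [0, 1, 5, 6, 7, 8], [0, 1, 3, 4, 5, 7], [0, 2, 4, 8], [5, 8], [1, 2, 3, 4, 6, 8], [1, 2, 5, 6], [0, 4, 6, 7, 8], [2, 4, 5, 6, 7, 8], [1, 2, 3, 4, 7], [0, 1, 3, 4], [5, 6], [0, 1, 2, 3, 6], [2, 3, 6, 7, 8], [0, 1, 3, 5, 6, 7], [4, 6, 8], [0, 1, 5, 8], [2, 3, 4, 5, 8], [1, 8], [0, 1, 2, 3, 4, 5, 6], [0, 4, 5, 6, 8], [0, 1,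 3, 7, 8], [0, 2, 3, 5, 6, 7], [0, 1, 3, 4, 8], [0, 3, 4, 5, 6, 7], [0, 2, 4, 7, 8], [0, 3, 5, 8], [0, 1, 3, 4, 6], [1, 2, 3, 5, 6, 7, 8], [3, 4], [0, 1, 6, 8], [1, 3, 4, 7, 8], [6, 7], [4, 8], [0, 4, 8], [0, 1, 3, 5, 8], [0, 1, 2, 5, 8], [0, 1, 8], [0, 1, 2, 3, 6, 8], [1, 2, 3, 5, 6], [0, 2, 3, 5, 8], [0, 1, 3, 5], [1, 2, 5, 6, 7], [0, 1, 3, 4, 5, 6, 7, 8], [1, 2, 4, 5, 8], [0, 1, 7], [2, 8], [0, 1, 2, 4, 8], [0, 1, 2, 6, 7], [0, 3, 4, 5, 7, 8], [2, 3, 4, 6, 8], [1, 2, 5, 7], [3, 5, 6], [3, 4, 5, 6, 7], [0, 1, 2, 3, 4, 5, 6, 7], [1, 2], [0, 3, 5, 6, 7], [0, 2, 6], [1, 2, 3, 6, 7, 8], [2, 3, 5, 7], [1, 3, 5, 7, 8], [2, 4, 7], [0, 2, 3, 4, 6, 8], [2, 4, 7, 8], [2, 5], [1, 4, 5, 6, 8], [3, 4, 7], [0, 1, 5,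 7], [0, 1, 2, 3, 4, 5, 7, 8], [3, 5, 6, 8], [1, 3, 4, 5, 6], [0, 2, 5], [1, 2, 3, 5, 7], [1, 3, 4, 6, 8], [1, 3, 8], [2, 3, 4, 5, 6], [7], [2, 3, 6, 7], [1, 3, 4, 5, 6, 8], [0, 1, 2, 6, 8], [1, 2, 3, 5], [1, 2, 3, 4], [1, 3, 4, 6, 7], [0, 1, 6, 7], [3, 4, 5], [3, 4, 8], [2, 3, 6], [4, 5], [1, 2, 3, 4, 5, 7, 8], [2, 3, 6, 8], [0, 1, 3, 4, 6, 8], [5, 7, 8], [0, 1, 3, 6, 7], [1, 4, 5, 8], [3, 4, 5, 6, 8], [0, 2, 4], [0, 2, 4, 5, 8], [2, 4, 5, 8], [0, 1, 3, 4, 5], [0, 2, 3, 4, 5, 6], [0, 4, 6, 7], [1, 2, 3, 7], [2, 3, 4, 8], [1, 2, 4, 5, 6, 7, 8], [1, 2, 4, 5, 6, 7], [0, 2, 7, 8], [0, 1, 3, 4, 5, 8], [2, 5, 6]]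

/-- Words of the letters for the prime 2. -/
def letters2 : List (List ℕ) :=
  [[1, 6, 5, 0, 0, 0, 3, 4, 3, 2, 3, 2, 7, 4, 7, 3, 7, 5, 7, 3, 0, 4, 3, 2, 0, 4, 0, 4, 5, 3, 0, 6, 3, 7, 7, 2, 3, 4, 6, 1, 7, 2, 4, 5, 0, 0, 4, 5, 3, 0, 2, 3, 4, 3, 7, 5, 6],
    [0, 0, 0, 0, 0, 6, 3, 6, 0, 4, 6, 4, 6, 7, 2, 7, 1, 4, 0, 2, 7, 5, 3, 2, 1, 7, 3, 6, 4, 0, 3, 1, 7, 4, 5, 0, 5, 3, 0, 3, 7, 2, 5, 1, 4, 5, 4, 1, 3, 2, 5, 7, 4, 5, 4, 2, 3, 2, 0, 4, 5, 2],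
    [0, 4, 1, 0, 2, 7, 2, 3, 7, 2, 4, 3, 2, 4, 2, 5, 7, 4, 2, 7, 3, 1, 4, 1, 4, 5, 2, 7, 7, 2, 7, 5, 4, 0, 5, 3, 4, 2, 0, 3, 4, 5, 1],
    [7, 7, 4, 0, 1, 4, 2, 0, 3, 7, 6, 1, 3, 0, 3, 4, 5, 6, 3, 2, 1, 0, 6, 4, 0, 0, 5, 3, 6, 4, 3, 7, 2, 3, 4, 0, 4, 2, 0, 3, 1, 3, 7, 2, 6, 7, 3, 7, 5, 7, 2, 4, 5, 6, 7, 2, 3, 4, 5, 3, 4, 0, 3, 2, 7, 5],
    [7, 3, 4, 1, 3, 4, 3, 4, 5, 7, 7, 7, 4, 2, 0, 3, 7, 5, 4, 5, 7, 3, 2, 3, 4, 6, 5, 7, 3, 5, 4, 2, 0, 4, 5, 4, 0, 4, 2, 1, 6, 0, 3, 0, 4, 3, 5, 2, 3, 2, 7, 5, 4, 2, 3, 4, 5, 4, 3, 4, 3, 2],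
    [6, 2, 4, 5, 3, 7, 3, 7, 4, 7, 7, 1, 7, 5, 7, 2, 3, 4, 0, 0, 4, 6, 1, 4, 0, 0, 5, 3, 5, 7, 3, 5, 4, 0, 4, 0, 6, 5, 3, 5, 2, 1, 0, 0, 1, 0, 2, 4, 3, 4, 1, 5, 4, 2, 3, 4, 7, 2, 3, 2, 7, 5, 0],
    [0, 4, 3, 0, 3, 0, 1, 7, 7, 7, 5, 7, 1, 0, 6, 4, 7, 4, 3, 4, 2, 5, 3, 1, 7, 2, 3, 5, 3, 6, 3, 7, 2, 7, 3, 4, 7, 1, 3, 0, 4, 0, 4, 1, 2, 5, 6, 5, 4, 7, 5, 3, 2, 7, 4, 5, 3, 0],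
    [4, 0, 3, 6, 1, 7, 7, 7, 3, 4, 0, 0, 2, 3, 6, 4, 5, 0, 4, 1, 5, 7, 3, 7, 4, 3, 1, 2, 4, 7, 6, 1, 2, 1, 6, 0, 4, 7, 4, 7, 7, 5, 4, 0, 3, 7, 7, 7, 3, 0, 0, 3, 4, 0, 5, 1, 2, 3, 0, 4, 3, 0, 5, 4, 2, 7],
    [5, 3, 7, 3, 7, 2, 4, 2, 4, 7, 5, 2, 4, 3, 4, 2, 7, 4, 3, 4, 7, 3, 0, 6, 7, 7, 5, 2, 4, 7, 5, 6, 4, 7, 2, 5, 4, 7, 2, 0, 4, 5, 2, 3, 4, 2, 0, 5, 3, 4, 0, 0, 2, 3],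
    [0, 0, 0, 5, 3, 0, 0, 0, 6, 4, 0, 2, 1, 7, 3, 5, 0, 2, 6, 3, 4, 2, 6, 2, 3, 0, 5, 7, 4, 7, 4, 1, 0, 2, 3, 6, 1, 7, 6, 3, 5, 6, 4, 5, 3, 4, 1, 2, 3, 7, 5, 0],
    [4, 1, 0, 3, 6, 2, 7, 3, 7, 5, 2, 0, 6, 2, 6, 7, 7, 4, 5, 0, 2, 1, 0, 0, 4, 7, 4, 3, 4, 7, 3, 0, 2, 3, 6, 5, 7, 4, 0, 3, 0, 0, 4, 5, 0, 5, 4, 2, 3, 4, 5, 7, 2, 7, 3, 2],
    [5, 6, 4, 1, 7, 3, 5, 2, 0, 3, 7, 3, 4, 0, 0, 0, 3, 6, 4, 5, 7, 4, 5, 0, 3, 6, 4, 3, 7, 2, 0, 3, 0, 0, 4, 7, 1, 5, 4, 6, 2, 3, 4, 2, 0, 3, 4, 5, 2, 3, 4, 3, 7],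
    [3, 0, 0, 2, 7, 3, 4, 5, 7, 7, 7, 3, 6, 4, 0, 4, 5, 2, 0, 4, 5, 7, 2, 7, 7, 6, 2, 3, 7, 3, 4, 3, 5, 1, 3, 0, 3, 5, 4, 5, 1, 0, 0, 0, 4, 0, 2, 6, 7, 4, 1, 4, 3, 2, 7, 4, 5, 3, 0, 4, 2, 7, 3, 2]]

/-- Words of the elements of the Sylow 2-subgroup, by increasing keys. -/
def elts2 : List (List ℕ) :=
  elts2_0 ++ elts2_1 ++ elts2_2

/-- The certificate for the prime 2. -/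
def cert2 : SchurPath.Cert where
  m := 9
  rels := [([0, 0], []),
    ([1, 0], [0, 1]),
    ([1, 1], []),
    ([2, 0], [0, 2]),
    ([2, 1], [1, 2]),
    ([2, 2], [0]),
    ([3, 0], [0, 3]),
    ([3, 1], [1, 3]),
    ([3, 2], [2, 3]),
    ([3, 3], [0, 1]),
    ([4, 0], [0, 4]),
    ([4, 1], [1, 4]),
    ([4, 2], [0, 2, 4]),
    ([4, 3], [0, 1, 3, 4]),
    ([4, 4], []),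
    ([5, 0], [0, 5]),
    ([5, 1], [1, 5]),
    ([5, 2], [2, 5]),
    ([5, 3], [3, 5]),
    ([5, 4], [1, 4, 5]),
    ([5, 5], [0, 1]),
    ([6, 0], [0, 6]),
    ([6, 1], [1, 6]),
    ([6, 2], [2, 6]),
    ([6, 3], [3, 6]),
    ([6, 4], [2, 4, 6]),
    ([6, 5], [5, 6]),
    ([6, 6], [0, 3, 5]),
    ([7, 0], [0, 7]),
    ([7, 1], [0, 1, 7]),
    ([7, 2], [1, 2, 7]),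
    ([7, 3], [0, 2, 3, 7]),
    ([7, 4], [0, 2, 3, 4, 7]),
    ([7, 5], [1, 2, 5, 7]),
    ([7, 6], [0, 2, 3, 6, 7]),
    ([7, 7], [1, 2, 3, 4, 5, 6]),
    ([8, 0], [0, 8]),
    ([8, 1], [0, 1, 8]),
    ([8, 2], [0, 2, 8]),
    ([8, 3], [0, 2, 3, 8]),
    ([8, 4], [1, 2, 4, 8]),
    ([8, 5], [2, 5, 8]),
    ([8, 6], [0, 3, 5, 6, 8]),
    ([8, 7], [0, 1, 2, 4, 6, 7, 8]),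
    ([8, 8], [1, 2]),
    ([9, 1, 4], [1, 4, 9]),
    ([9, 5, 6, 8], [0, 1, 4, 5, 6, 8, 9]),
    ([9, 1, 2, 3, 5], [0, 1, 2, 3, 5, 9]),
    ([10, 4, 8], [1, 3, 6, 8, 10]),
    ([10, 1, 3, 4], [1, 2, 3, 4, 6, 8, 10]),
    ([10, 2, 4, 5], [0, 4, 5, 6, 8, 10]),
    ([11, 1], [0, 2, 4, 11]),
    ([11, 2], [1, 5, 6, 8, 11]),
    ([11, 4], [0, 2, 4, 5, 6, 8, 11]),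
    ([11, 3, 5], [3, 4, 6, 8, 11]),
    ([11, 3, 6, 8], [0, 2, 3, 4, 5, 11]),
    ([12, 2, 3], [2, 3, 12]),
    ([12, 3, 5], [1, 2, 7, 8, 12]),
    ([12, 2, 7, 8], [3, 5, 12])]
  paths := [([2, 2, 2], [([], [2], 5, false),
      ([], [], 3, true),
      ([2], [], 5, true)]),
    ([3, 3, 3], [([], [3], 9, false),
      ([0], [], 7, true),
      ([], [1], 6, true),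
      ([3], [], 9, true)]),
    ([5, 5, 5], [([], [5], 20, false),
      ([0], [], 16, true),
      ([], [1], 15, true),
      ([5], [], 20, true)]),
    ([2, 2, 1], [([], [1], 5, false),
      ([], [], 1, true),
      ([1], [], 5, true),
      ([], [2], 4, true),
      ([2], [], 4, true)]),
    ([3, 2, 2], [([], [2], 8, false),
      ([2], [], 8, false),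
      ([], [3], 5, false),
      ([], [], 6, true),
      ([3], [], 5, true)]),
    ([5, 2, 2], [([], [2], 17, false),
      ([2], [], 17, false),
      ([], [5], 5, false),
      ([], [], 15, true),
      ([5], [], 5, true)]),
    ([6, 2, 2], [([], [2], 23, false),
      ([2], [], 23, false),
      ([], [6], 5, false),
      ([], [], 21, true),
      ([6], [], 5, true)]),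
    ([6, 6, 6], [([], [6], 27, false),
      ([0, 3], [], 26, true),
      ([0], [5], 24, true),
      ([], [3, 5], 21, true),
      ([6], [], 27, true)]),
    ([3, 3, 2], [([], [2], 9, false),
      ([0], [], 4, true),
      ([], [1], 3, true),
      ([2], [], 9, true),
      ([], [3], 8, true),
      ([3], [], 8, true)]),
    ([4, 4, 2], [([], [2], 14, false),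
      ([2], [], 14, true),
      ([], [2, 4, 4], 0, true),
      ([0], [4], 12, true),
      ([], [2, 4], 10, true),
      ([4], [], 12, true)]),
    ([5, 4, 4], [([], [4], 19, false),
      ([1, 4], [], 19, false),
      ([1], [4, 5], 11, false),
      ([], [4, 4, 5], 2, false),
      ([], [5], 14, false),
      ([5], [], 14, true)]),
    ([6, 3, 3], [([], [3], 24, false),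
      ([3], [], 24, false),
      ([], [6], 9, false),
      ([0], [], 22, true),
      ([], [1], 21, true),
      ([6], [], 9, true)]),
    ([7, 1, 1], [([], [1], 29, false),
      ([0, 1], [], 29, false),
      ([0], [1, 7], 1, false),
      ([], [1, 1, 7], 0, false),
      ([], [7], 2, false),
      ([7], [], 2, true)]),
    ([8, 8, 8], [([], [8], 44, false),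
      ([], [1, 2, 8], 0, true),
      ([0], [2, 8], 1, true),
      ([0, 1], [], 38, true),
      ([], [2], 37, true),
      ([8], [], 44, true)]),
    ([6, 6, 2], [([], [2], 27, false),
      ([0, 3], [], 17, false),
      ([0], [5], 8, false),
      ([], [3, 5], 3, true),
      ([2], [], 27, true),
      ([], [6], 23, true),
      ([6], [], 23, true)]),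
    ([7, 2, 2], [([], [2], 30, false),
      ([1, 2], [], 30, false),
      ([1], [2, 7], 4, false),
      ([], [2, 2, 7], 2, false),
      ([], [7], 5, false),
      ([], [], 28, true),
      ([7], [], 5, true)]),
    ([8, 2, 2], [([], [2], 38, false),
      ([0, 2], [], 38, false),
      ([0], [2, 8], 3, false),
      ([], [2, 2, 8], 0, false),
      ([], [8], 5, false),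
      ([], [], 36, true),
      ([8], [], 5, true)]),
    ([6, 4, 4], [([], [4], 25, false),
      ([2, 4], [], 25, false),
      ([2], [4, 6], 12, false),
      ([], [2, 4, 4, 6], 3, false),
      ([0], [4, 4, 6], 5, false),
      ([], [4, 4, 6], 0, false),
      ([], [6], 14, false),
      ([6], [], 14, true)]),
    ([6, 5, 4], [([], [4], 26, false),
      ([5], [], 25, false),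
      ([], [4, 6], 17, false),
      ([2], [6], 19, false),
      ([], [4, 5, 6], 4, false),
      ([1, 2, 4], [], 26, true),
      ([1], [5], 25, true),
      ([], [4, 5], 22, true),
      ([6], [], 19, true)]),
    ([8, 8, 5], [([], [5], 44, false),
      ([1], [], 17, true),
      ([], [2], 16, true),
      ([5], [], 44, true),
      ([], [5, 8, 8], 0, true),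
      ([0], [5, 8, 8], 5, true),
      ([0, 2], [8], 41, true),
      ([], [5, 8], 38, true),
      ([8], [], 41, true)]),
    ([6, 6, 3], [([], [3], 27, false),
      ([0, 3], [], 18, false),
      ([0], [5], 9, false),
      ([], [1, 5], 0, false),
      ([], [1, 5], 0, true),
      ([0], [5], 9, true),
      ([], [3, 5], 6, true),
      ([3], [], 27, true),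
      ([], [6], 24, true),
      ([6], [], 24, true)]),
    ([6, 6, 4], [([], [4], 27, false),
      ([0, 3], [], 19, false),
      ([0], [4, 5], 7, false),
      ([], [5], 13, true),
      ([], [4, 3, 5], 0, true),
      ([0], [3, 5], 10, true),
      ([0, 4], [], 27, true),
      ([], [4, 6, 6], 5, true),
      ([2], [6], 25, true),
      ([], [4, 6], 23, true),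
      ([6], [], 25, true)]),
    ([11, 1, 1], [([], [1], 51, false),
      ([0, 2, 4], [], 51, false),
      ([0, 2], [2, 4, 11], 10, false),
      ([0], [4, 2, 4, 11], 3, false),
      ([], [2, 4, 2, 4, 11], 0, false),
      ([2], [4, 11], 12, false),
      ([], [2, 4, 4, 11], 3, false),
      ([0], [4, 4, 11], 5, false),
      ([], [4, 4, 11], 0, false),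
      ([], [11], 14, false),
      ([11], [], 2, true)]),
    ([7, 3, 3], [([], [3], 31, false),
      ([0, 2, 3], [], 31, false),
      ([0, 2], [2, 3, 7], 6, false),
      ([0], [3, 2, 3, 7], 3, false),
      ([], [2, 3, 2, 3, 7], 0, false),
      ([2], [3, 7], 8, false),
      ([], [3, 3, 7], 5, false),
      ([0], [7], 9, false),
      ([], [1, 7], 0, false),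
      ([], [1, 7], 0, true),
      ([0], [], 29, true),
      ([], [1], 28, true),
      ([7], [], 9, true)]),
    ([7, 5, 5], [([], [5], 33, false),
      ([1, 2, 5], [], 33, false),
      ([1, 2], [2, 5, 7], 16, false),
      ([1], [5, 2, 5, 7], 4, false),
      ([], [2, 5, 2, 5, 7], 2, false),
      ([2], [5, 7], 17, false),
      ([], [5, 5, 7], 5, false),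
      ([0], [7], 20, false),
      ([], [1, 7], 0, false),
      ([], [1, 7], 0, true),
      ([0], [], 29, true),
      ([], [1], 28, true),
      ([7], [], 20, true)]),
    ([7, 7, 2], [([], [2], 35, false),
      ([1, 2, 3, 4, 5], [], 23, false),
      ([1, 2, 3, 4], [6], 17, false),
      ([1, 2, 3], [5, 6], 12, false),
      ([1, 2], [2, 4, 5, 6], 6, false),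
      ([1], [3, 2, 4, 5, 6], 3, false),
      ([], [2, 3, 2, 4, 5, 6], 1, false),
      ([0, 1, 2], [4, 5, 6], 8, false),
      ([0, 1], [3, 4, 5, 6], 5, false),
      ([0], [3, 4, 5, 6], 1, false),
      ([], [1, 3, 4, 5, 6], 0, false),
      ([], [1, 3, 4, 5, 6], 0, true),
      ([0], [3, 4, 5, 6], 1, true),
      ([0, 1], [3, 4, 5, 6], 5, true),
      ([0], [2, 3, 4, 5, 6], 4, true),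
      ([0, 2], [], 35, true),
      ([0], [2, 7, 7], 2, true),
      ([0, 1], [7], 30, true),
      ([], [2, 7], 29, true),
      ([7], [], 30, true)]),
    ([7, 4, 4], [([], [4], 32, false),
      ([0, 2, 3, 4], [], 32, false),
      ([0, 2, 3], [2, 3, 4, 7], 10, false),
      ([0, 2], [4, 2, 3, 4, 7], 6, false),
      ([0], [3, 4, 2, 3, 4, 7], 3, false),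
      ([], [2, 3, 4, 2, 3, 4, 7], 0, false),
      ([2, 3], [3, 4, 7], 12, false),
      ([2], [2, 4, 3, 4, 7], 6, false),
      ([], [3, 2, 4, 3, 4, 7], 3, false),
      ([0, 2], [4, 3, 4, 7], 8, false),
      ([0], [3, 4, 3, 4, 7], 5, false),
      ([], [3, 4, 3, 4, 7], 0, false),
      ([3], [4, 7], 13, false),
      ([], [1, 3, 4, 4, 7], 6, false),
      ([0], [3, 4, 4, 7], 7, false),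
      ([0, 1], [4, 4, 7], 9, false),
      ([0], [1, 4, 4, 7], 1, false),
      ([], [1, 1, 4, 4, 7], 0, false),
      ([], [4, 4, 7], 2, false),
      ([], [7], 14, false),
      ([7], [], 14, true)]),
    ([8, 8, 6], [([], [6], 44, false),
      ([1], [], 23, true),
      ([], [2], 22, true),
      ([6], [], 44, true),
      ([], [6, 8, 8], 2, true),
      ([], [1, 1, 6, 8, 8], 0, true),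
      ([0], [1, 6, 8, 8], 1, true),
      ([0, 1], [6, 8, 8], 20, true),
      ([], [5, 5, 6, 8, 8], 9, true),
      ([3], [5, 6, 8, 8], 18, true),
      ([], [3, 5, 3, 5, 6, 8, 8], 0, true),
      ([0], [5, 3, 5, 6, 8, 8], 6, true),
      ([0, 3], [3, 5, 6, 8, 8], 15, true),
      ([0, 3, 5], [8], 42, true),
      ([], [3, 5, 8, 6, 8], 5, true),
      ([2], [5, 8, 6, 8], 8, true),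
      ([2, 3], [6, 8], 41, true),
      ([], [2, 3, 8, 5, 6, 8], 0, true),
      ([0], [5, 6, 8], 39, true),
      ([], [3, 5, 6, 8], 36, true),
      ([8], [], 42, true)]),
    ([7, 6, 6], [([], [6], 34, false),
      ([0, 2, 3, 6], [], 34, false),
      ([0, 2, 3], [2, 3, 6, 7], 21, false),
      ([0, 2], [6, 2, 3, 6, 7], 6, false),
      ([0], [3, 6, 2, 3, 6, 7], 3, false),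
      ([], [2, 3, 6, 2, 3, 6, 7], 0, false),
      ([2, 3], [3, 6, 7], 23, false),
      ([2], [6, 3, 6, 7], 8, false),
      ([], [3, 6, 3, 6, 7], 5, false),
      ([0, 3], [6, 7], 24, false),
      ([0], [6, 6, 7], 9, false),
      ([], [1, 6, 6, 7], 0, false),
      ([1], [7], 27, false),
      ([], [3, 5, 7], 1, false),
      ([], [3, 5, 7], 1, true),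
      ([1], [3, 5, 7], 5, true),
      ([1, 2], [5, 7], 8, true),
      ([], [3, 2, 5, 7], 4, true),
      ([2], [2, 5, 7], 7, true),
      ([2, 3], [], 33, true),
      ([], [2, 3, 7, 5], 0, true),
      ([0], [5], 31, true),
      ([], [3, 5], 28, true),
      ([7], [], 27, true)]),
    ([11, 2, 1], [([], [1], 52, false),
      ([1, 5, 6, 8], [], 51, false),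
      ([1, 5, 6], [2, 4, 11], 36, false),
      ([1, 5], [8, 2, 4, 11], 21, false),
      ([1], [6, 8, 2, 4, 11], 15, false),
      ([], [5, 6, 8, 2, 4, 11], 1, false),
      ([0, 1, 5, 6], [4, 11], 38, false),
      ([0, 1, 5], [2, 8, 4, 11], 21, false),
      ([0, 1], [6, 2, 8, 4, 11], 15, false),
      ([0], [5, 6, 2, 8, 4, 11], 1, false),
      ([], [1, 5, 6, 2, 8, 4, 11], 0, false),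
      ([1, 5], [8, 4, 11], 23, false),
      ([1], [6, 8, 4, 11], 17, false),
      ([1, 2, 5, 6], [11], 40, false),
      ([1, 2, 5], [2, 4, 8, 11], 22, false),
      ([1, 2], [6, 2, 4, 8, 11], 16, false),
      ([1], [5, 6, 2, 4, 8, 11], 4, false),
      ([], [2, 5, 6, 2, 4, 8, 11], 2, false),
      ([2, 5], [4, 8, 11], 23, false),
      ([2], [6, 4, 8, 11], 17, false),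
      ([], [5, 6, 4, 8, 11], 5, false),
      ([0, 5], [8, 11], 25, false),
      ([0], [4, 6, 8, 11], 17, false),
      ([0, 2], [6, 8, 11], 19, false),
      ([0], [4, 5, 6, 8, 11], 4, false),
      ([0], [4, 5, 6, 8, 11], 4, true),
      ([0, 2], [5, 6, 8, 11], 11, true),
      ([0, 2, 4], [], 52, true),
      ([], [2], 51, true),
      ([11], [], 4, true)]),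
    ([7, 7, 3], [([], [3], 35, false),
      ([1, 2, 3, 4, 5], [], 24, false),
      ([1, 2, 3, 4], [6], 18, false),
      ([1, 2, 3], [5, 6], 13, false),
      ([1, 2], [1, 3, 4, 5, 6], 6, false),
      ([1], [3, 1, 3, 4, 5, 6], 3, false),
      ([], [2, 3, 1, 3, 4, 5, 6], 1, false),
      ([0, 1, 2], [3, 4, 5, 6], 7, false),
      ([0, 1], [3, 3, 4, 5, 6], 4, false),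
      ([0], [2, 3, 3, 4, 5, 6], 2, false),
      ([0, 2], [4, 5, 6], 9, false),
      ([0], [1, 4, 5, 6], 3, false),
      ([], [2, 1, 4, 5, 6], 0, false),
      ([], [4, 5, 6], 4, false),
      ([], [4, 5, 6], 4, true),
      ([], [2, 1, 4, 5, 6], 0, true),
      ([0], [1, 4, 5, 6], 3, true),
      ([0, 2], [4, 5, 6], 9, true),
      ([0], [3, 4, 5, 6], 8, true),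
      ([0], [3, 2, 3, 4, 5, 6], 2, true),
      ([0, 1], [2, 3, 4, 5, 6], 7, true),
      ([0, 1, 3], [], 35, true),
      ([], [3, 7, 7], 1, true),
      ([1], [3, 7, 7], 5, true),
      ([], [1, 2, 2, 3, 7, 7], 0, true),
      ([0], [2, 2, 3, 7, 7], 1, true),
      ([0, 1], [2, 3, 7, 7], 3, true),
      ([0, 1, 2], [7], 31, true),
      ([0], [3, 7], 30, true),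
      ([], [2, 3, 7], 28, true),
      ([7], [], 31, true)]),
    ([12, 2, 7, 8, 2, 3], [([], [2, 3], 58, false),
      ([3, 5], [], 56, false),
      ([3], [3, 12], 17, false),
      ([], [5, 3, 12], 8, false),
      ([2, 3], [12], 18, false),
      ([2], [5, 12], 9, false),
      ([], [1, 5, 12], 3, false),
      ([0], [5, 12], 4, false),
      ([0], [5, 12], 4, true),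
      ([], [1, 5, 12], 3, true),
      ([2], [5, 12], 9, true),
      ([2, 3], [], 58, true),
      ([], [2, 7, 8], 56, true),
      ([12, 2], [7, 8], 8, false),
      ([12], [3, 7, 8], 5, false),
      ([12], [3, 7, 8], 5, true),
      ([12], [2, 2, 3, 7, 8], 0, true),
      ([12, 0], [2, 3, 7, 8], 3, true),
      ([12, 0, 2], [8], 31, true),
      ([12, 0], [2, 7, 3, 8], 2, true),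
      ([12, 0, 1], [3, 8], 30, true),
      ([12], [7, 2, 3, 8], 1, true),
      ([12, 1], [2, 3, 8], 28, true),
      ([12, 1, 7], [], 39, true),
      ([12], [1, 7, 8, 3], 0, true),
      ([12, 0], [7, 8, 3], 1, true),
      ([12, 0, 1], [7, 8, 3], 5, true),
      ([12, 0], [2, 7, 8, 3], 4, true),
      ([12, 0, 2], [8, 3], 30, true),
      ([12], [7, 2, 8, 3], 3, true),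
      ([12, 2], [2, 8, 3], 28, true),
      ([12, 2, 7], [3], 38, true)]),
    ([7, 7, 7], [([], [7], 35, false),
      ([], [3, 4, 5, 6, 7], 4, true),
      ([], [2, 1, 3, 4, 5, 6, 7], 0, true),
      ([0], [1, 3, 4, 5, 6, 7], 3, true),
      ([0, 2], [5, 6, 7], 13, true),
      ([0, 2, 4], [6, 7], 18, true),
      ([], [5, 3, 6, 7], 12, true),
      ([4], [3, 6, 7], 17, true),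
      ([], [4, 5, 2, 3, 6, 7], 0, true),
      ([0], [5, 2, 3, 6, 7], 10, true),
      ([0, 4], [2, 3, 6, 7], 15, true),
      ([0, 4, 5], [], 34, true),
      ([], [4, 5, 7, 6], 5, true),
      ([], [2, 2, 4, 5, 7, 6], 0, true),
      ([0], [2, 4, 5, 7, 6], 3, true),
      ([0, 2], [5, 7, 6], 12, true),
      ([0], [2, 4, 2, 5, 7, 6], 2, true),
      ([0, 1], [4, 2, 5, 7, 6], 4, true),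
      ([0, 1, 2], [2, 5, 7, 6], 11, true),
      ([0, 1, 2, 4], [6], 33, true),
      ([0], [4, 7, 5, 6], 4, true),
      ([], [1, 4, 7, 5, 6], 3, true),
      ([2], [4, 7, 5, 6], 9, true),
      ([], [3, 4, 7, 5, 6], 8, true),
      ([], [3, 2, 3, 4, 7, 5, 6], 0, true),
      ([0], [2, 3, 4, 7, 5, 6], 6, true),
      ([0, 3], [5, 6], 32, true),
      ([], [3, 7, 4, 5, 6], 5, true),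
      ([], [2, 2, 3, 7, 4, 5, 6], 0, true),
      ([0], [2, 3, 7, 4, 5, 6], 3, true),
      ([0, 2], [4, 5, 6], 31, true),
      ([0], [2, 7, 3, 4, 5, 6], 2, true),
      ([0, 1], [3, 4, 5, 6], 30, true),
      ([], [2, 3, 4, 5, 6], 29, true),
      ([7], [], 35, true)]),
    ([7, 7, 4], [([], [4], 35, false),
      ([1, 2, 3, 4, 5], [], 25, false),
      ([1, 2, 3, 4], [4, 6], 17, false),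
      ([1, 2, 3], [5, 4, 6], 12, false),
      ([1, 2], [2, 4, 5, 4, 6], 6, false),
      ([1], [3, 2, 4, 5, 4, 6], 3, false),
      ([], [2, 3, 2, 4, 5, 4, 6], 1, false),
      ([0, 1, 2], [4, 5, 4, 6], 8, false),
      ([0, 1], [3, 4, 5, 4, 6], 5, false),
      ([0], [3, 4, 5, 4, 6], 1, false),
      ([], [1, 3, 4, 5, 4, 6], 0, false),
      ([1, 3, 4], [6], 19, false),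
      ([1, 3], [4, 5, 6], 11, false),
      ([1], [4, 4, 5, 6], 7, false),
      ([], [3, 4, 4, 5, 6], 2, false),
      ([3], [5, 6], 14, false),
      ([3], [5, 6], 14, true),
      ([], [3, 4, 4, 5, 6], 2, true),
      ([], [1, 1, 3, 4, 4, 5, 6], 0, true),
      ([0], [1, 3, 4, 4, 5, 6], 1, true),
      ([0, 1], [4, 5, 6], 13, true),
      ([], [4, 3, 4, 5, 6], 1, true),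
      ([1], [4, 3, 4, 5, 6], 5, true),
      ([], [1, 2, 2, 4, 3, 4, 5, 6], 0, true),
      ([0], [2, 2, 4, 3, 4, 5, 6], 1, true),
      ([0, 1], [2, 4, 3, 4, 5, 6], 3, true),
      ([0, 1, 2], [3, 4, 5, 6], 12, true),
      ([0], [4, 2, 3, 4, 5, 6], 4, true),
      ([0, 2], [2, 3, 4, 5, 6], 11, true),
      ([0, 2, 4], [], 35, true),
      ([0], [2, 4, 7, 7], 2, true),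
      ([0, 1], [4, 7, 7], 4, true),
      ([], [2, 1, 4, 7, 7], 1, true),
      ([1], [1, 4, 7, 7], 3, true),
      ([1, 2], [4, 7, 7], 9, true),
      ([1], [3, 4, 7, 7], 8, true),
      ([], [1, 3, 2, 3, 4, 7, 7], 0, true),
      ([0], [3, 2, 3, 4, 7, 7], 1, true),
      ([0, 1], [2, 3, 4, 7, 7], 6, true),
      ([0, 1, 3], [7], 32, true),
      ([], [3, 7, 4, 7], 1, true),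
      ([1], [3, 7, 4, 7], 5, true),
      ([], [1, 2, 2, 3, 7, 4, 7], 0, true),
      ([0], [2, 2, 3, 7, 4, 7], 1, true),
      ([0, 1], [2, 3, 7, 4, 7], 3, true),
      ([0, 1, 2], [4, 7], 31, true),
      ([0], [3, 4, 7], 30, true),
      ([], [2, 3, 4, 7], 28, true),
      ([7], [], 32, true)]),
    ([10, 4, 8, 4, 8], [([], [4, 8], 48, false),
      ([1, 3, 6, 8], [], 48, false),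
      ([1, 3, 6], [3, 6, 8, 10], 37, false),
      ([1, 3], [1, 8, 3, 6, 8, 10], 21, false),
      ([1], [6, 1, 8, 3, 6, 8, 10], 6, false),
      ([], [3, 6, 1, 8, 3, 6, 8, 10], 1, false),
      ([0, 1, 3], [8, 3, 6, 8, 10], 22, false),
      ([0, 1], [6, 8, 3, 6, 8, 10], 7, false),
      ([0], [3, 6, 8, 3, 6, 8, 10], 2, false),
      ([0, 3, 6], [6, 8, 10], 39, false),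
      ([0, 3], [2, 3, 8, 6, 8, 10], 21, false),
      ([0], [6, 2, 3, 8, 6, 8, 10], 6, false),
      ([], [3, 6, 2, 3, 8, 6, 8, 10], 0, false),
      ([3], [3, 8, 6, 8, 10], 23, false),
      ([], [6, 3, 8, 6, 8, 10], 8, false),
      ([2, 3], [8, 6, 8, 10], 24, false),
      ([2], [6, 8, 6, 8, 10], 9, false),
      ([], [1, 6, 8, 6, 8, 10], 3, false),
      ([0], [6, 8, 6, 8, 10], 4, false),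
      ([0, 1, 2, 6], [8, 10], 42, false),
      ([0, 1, 2], [3, 5, 6, 8, 8, 10], 21, false),
      ([0, 1], [6, 3, 5, 6, 8, 8, 10], 3, false),
      ([0], [2, 6, 3, 5, 6, 8, 8, 10], 1, false),
      ([], [1, 2, 6, 3, 5, 6, 8, 8, 10], 0, false),
      ([1, 2], [5, 6, 8, 8, 10], 24, false),
      ([1, 2, 3], [6, 8, 8, 10], 26, false),
      ([1, 2, 3, 5], [8, 8, 10], 27, false),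
      ([1, 2, 3], [3, 5, 8, 8, 10], 15, false),
      ([1, 2], [5, 3, 5, 8, 8, 10], 6, false),
      ([1], [3, 5, 3, 5, 8, 8, 10], 3, false),
      ([], [2, 3, 5, 3, 5, 8, 8, 10], 1, false),
      ([0, 1, 2, 3], [5, 8, 8, 10], 18, false),
      ([0, 1, 2], [5, 5, 8, 8, 10], 9, false),
      ([0, 1], [1, 5, 5, 8, 8, 10], 3, false),
      ([0], [2, 1, 5, 5, 8, 8, 10], 1, false),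
      ([], [1, 2, 1, 5, 5, 8, 8, 10], 0, false),
      ([1], [5, 5, 8, 8, 10], 4, false),
      ([], [2, 5, 5, 8, 8, 10], 2, false),
      ([2], [8, 8, 10], 20, false),
      ([], [1, 8, 8, 10], 3, false),
      ([0], [8, 8, 10], 4, false),
      ([0, 1, 2], [10], 44, false),
      ([0, 1], [2, 10], 4, false),
      ([0], [2, 2, 10], 2, false),
      ([0], [10], 5, false),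
      ([], [10], 0, false),
      ([10], [], 0, true),
      ([10, 0], [], 5, true),
      ([10, 0], [2, 2], 2, true),
      ([10, 0, 1], [2], 4, true),
      ([10, 0, 1, 2], [], 44, true),
      ([10, 0, 1, 2], [8, 8], 14, true),
      ([10], [2, 4, 4, 8, 8], 1, true),
      ([10, 1], [4, 8, 8], 12, true),
      ([10], [2, 4, 8, 8], 11, true),
      ([10, 4], [8], 40, true)]),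
    ([8, 8, 7], path2_35_0 ++ path2_35_1),
    ([11, 1, 3, 5, 3, 5], path2_36_0 ++ path2_36_1),
    ([11, 4, 4], path2_37_0 ++ path2_37_1),
    ([12, 2, 7, 8, 2, 7, 8], path2_38_0 ++ path2_38_1)]
  rows := [[0, 0, 0, 1, 0, 0, 0, 0, 0, 0, 0, 0, 0, 0, 0, 0, 0, 0, 0, 0, 0, 0, 0, 0, 0, 0, 0, 0, 0, 0, 0, 0, 0, 0, 0, 0, 0, 0, 0, 0, 0, 0, 0, 0, 0, 0, 0, 0, 0, 0, 0, 0, 0, 0, 0, 0, 0, 0, 0],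
    [0, 0, 0, 0, 0, 0, 1, 1, 0, 0, 0, 0, 0, 0, 0, 0, 0, 0, 0, 0, 0, 0, 0, 0, 0, 0, 0, 0, 0, 0, 0, 0, 0, 0, 0, 0, 0, 0, 0, 0, 0, 0, 0, 0, 0, 0, 0, 0, 0, 0, 0, 0, 0, 0, 0, 0, 0, 0, 0],
    [0, 0, 0, 0, 0, 0, 0, 0, 0, 0, 0, 0, 0, 0, 0, 1, 1, 0, 0, 0, 0, 0, 0, 0, 0, 0, 0, 0, 0, 0, 0, 0, 0, 0, 0, 0, 0, 0, 0, 0, 0, 0, 0, 0, 0, 0, 0, 0, 0, 0, 0, 0, 0, 0, 0, 0, 0, 0, 0],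
    [0, 1, 0, 0, 0, 0, 0, 0, 0, 0, 0, 0, 0, 0, 0, 0, 0, 0, 0, 0, 0, 0, 0, 0, 0, 0, 0, 0, 0, 0, 0, 0, 0, 0, 0, 0, 0, 0, 0, 0, 0, 0, 0, 0, 0, 0, 0, 0, 0, 0, 0, 0, 0, 0, 0, 0, 0, 0, 0],
    [0, 0, 0, 0, 0, 0, 1, 0, 0, 0, 0, 0, 0, 0, 0, 0, 0, 0, 0, 0, 0, 0, 0, 0, 0, 0, 0, 0, 0, 0, 0, 0, 0, 0, 0, 0, 0, 0, 0, 0, 0, 0, 0, 0, 0, 0, 0, 0, 0, 0, 0, 0, 0, 0, 0, 0, 0, 0, 0],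
    [0, 0, 0, 0, 0, 0, 0, 0, 0, 0, 0, 0, 0, 0, 0, 1, 0, 0, 0, 0, 0, 0, 0, 0, 0, 0, 0, 0, 0, 0, 0, 0, 0, 0, 0, 0, 0, 0, 0, 0, 0, 0, 0, 0, 0, 0, 0, 0, 0, 0, 0, 0, 0, 0, 0, 0, 0, 0, 0],
    [0, 0, 0, 0, 0, 0, 0, 0, 0, 0, 0, 0, 0, 0, 0, 0, 0, 0, 0, 0, 0, 1, 0, 0, 0, 0, 0, 0, 0, 0, 0, 0, 0, 0, 0, 0, 0, 0, 0, 0, 0, 0, 0, 0, 0, 0, 0, 0, 0, 0, 0, 0, 0, 0, 0, 0, 0, 0, 0],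
    [0, 0, 0, 0, 0, 0, 0, 0, 0, 0, 0, 0, 0, 0, 0, 0, 0, 0, 0, 0, 0, 1, 0, 0, 1, 0, 1, 0, 0, 0, 0, 0, 0, 0, 0, 0, 0, 0, 0, 0, 0, 0, 0, 0, 0, 0, 0, 0, 0, 0, 0, 0, 0, 0, 0, 0, 0, 0, 0],
    [0, 0, 0, 1, 1, 0, 0, 0, 0, 0, 0, 0, 0, 0, 0, 0, 0, 0, 0, 0, 0, 0, 0, 0, 0, 0, 0, 0, 0, 0, 0, 0, 0, 0, 0, 0, 0, 0, 0, 0, 0, 0, 0, 0, 0, 0, 0, 0, 0, 0, 0, 0, 0, 0, 0, 0, 0, 0, 0],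
    [1, 0, 0, 0, 0, 0, 0, 0, 0, 0, 1, 0, 0, 0, 0, 0, 0, 0, 0, 0, 0, 0, 0, 0, 0, 0, 0, 0, 0, 0, 0, 0, 0, 0, 0, 0, 0, 0, 0, 0, 0, 0, 0, 0, 0, 0, 0, 0, 0, 0, 0, 0, 0, 0, 0, 0, 0, 0, 0],
    [0, 0, 1, 0, 0, 0, 0, 0, 0, 0, 0, 1, 0, 0, 0, 0, 0, 0, 0, 0, 0, 0, 0, 0, 0, 0, 0, 0, 0, 0, 0, 0, 0, 0, 0, 0, 0, 0, 0, 0, 0, 0, 0, 0, 0, 0, 0, 0, 0, 0, 0, 0, 0, 0, 0, 0, 0, 0, 0],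
    [0, 0, 0, 0, 0, 0, 0, 0, 0, 0, 0, 0, 0, 0, 0, 0, 0, 0, 0, 0, 0, 1, 1, 0, 0, 0, 0, 0, 0, 0, 0, 0, 0, 0, 0, 0, 0, 0, 0, 0, 0, 0, 0, 0, 0, 0, 0, 0, 0, 0, 0, 0, 0, 0, 0, 0, 0, 0, 0],
    [1, 1, 0, 0, 0, 0, 0, 0, 0, 0, 0, 0, 0, 0, 0, 0, 0, 0, 0, 0, 0, 0, 0, 0, 0, 0, 0, 0, 0, 0, 0, 0, 0, 0, 0, 0, 0, 0, 0, 0, 0, 0, 0, 0, 0, 0, 0, 0, 0, 0, 0, 0, 0, 0, 0, 0, 0, 0, 0],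
    [1, 1, 0, 0, 0, 0, 0, 0, 0, 0, 0, 0, 0, 0, 0, 0, 0, 0, 0, 0, 0, 0, 0, 0, 0, 0, 0, 0, 0, 0, 0, 0, 0, 0, 0, 0, 0, 1, 1, 0, 0, 0, 0, 0, 0, 0, 0, 0, 0, 0, 0, 0, 0, 0, 0, 0, 0, 0, 0],
    [0, 0, 0, 1, 0, 0, 0, 0, 1, 0, 0, 0, 0, 0, 0, 0, 0, 1, 0, 0, 0, 0, 0, 0, 0, 0, 0, 0, 0, 0, 0, 0, 0, 0, 0, 0, 0, 0, 0, 0, 0, 0, 0, 0, 0, 0, 0, 0, 0, 0, 0, 0, 0, 0, 0, 0, 0, 0, 0],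
    [0, 0, 1, 0, 1, 0, 0, 0, 0, 0, 0, 0, 0, 0, 0, 0, 0, 0, 0, 0, 0, 0, 0, 0, 0, 0, 0, 0, 1, 0, 0, 0, 0, 0, 0, 0, 0, 0, 0, 0, 0, 0, 0, 0, 0, 0, 0, 0, 0, 0, 0, 0, 0, 0, 0, 0, 0, 0, 0],
    [1, 0, 0, 1, 0, 0, 0, 0, 0, 0, 0, 0, 0, 0, 0, 0, 0, 0, 0, 0, 0, 0, 0, 0, 0, 0, 0, 0, 0, 0, 0, 0, 0, 0, 0, 0, 1, 0, 0, 0, 0, 0, 0, 0, 0, 0, 0, 0, 0, 0, 0, 0, 0, 0, 0, 0, 0, 0, 0],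
    [1, 0, 0, 1, 0, 1, 0, 0, 0, 0, 0, 0, 1, 0, 0, 0, 0, 0, 0, 0, 0, 0, 0, 0, 0, 0, 0, 0, 0, 0, 0, 0, 0, 0, 0, 0, 0, 0, 0, 0, 0, 0, 0, 0, 0, 0, 0, 0, 0, 0, 0, 0, 0, 0, 0, 0, 0, 0, 0],
    [0, 0, 0, 0, 1, 0, 0, 0, 0, 0, 0, 0, 0, 0, 0, 0, 0, 1, 0, 0, 0, 0, 1, 0, 0, 0, 0, 0, 0, 0, 0, 0, 0, 0, 0, 0, 0, 0, 0, 0, 0, 0, 0, 0, 0, 0, 0, 0, 0, 0, 0, 0, 0, 0, 0, 0, 0, 0, 0],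
    [1, 0, 0, 0, 0, 1, 0, 0, 0, 0, 0, 0, 0, 0, 0, 0, 1, 1, 0, 0, 0, 0, 0, 0, 0, 0, 0, 0, 0, 0, 0, 0, 0, 0, 0, 0, 0, 0, 1, 0, 0, 0, 0, 0, 0, 0, 0, 0, 0, 0, 0, 0, 0, 0, 0, 0, 0, 0, 0],
    [0, 0, 0, 0, 0, 0, 1, 0, 0, 0, 0, 0, 0, 0, 0, 0, 0, 0, 1, 0, 0, 0, 0, 0, 0, 0, 0, 0, 0, 0, 0, 0, 0, 0, 0, 0, 0, 0, 0, 0, 0, 0, 0, 0, 0, 0, 0, 0, 0, 0, 0, 0, 0, 0, 0, 0, 0, 0, 0],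
    [1, 0, 0, 0, 0, 1, 0, 1, 0, 0, 1, 0, 0, 1, 0, 0, 0, 0, 0, 1, 0, 0, 0, 1, 0, 0, 0, 0, 0, 0, 0, 0, 0, 0, 0, 0, 0, 0, 0, 0, 0, 0, 0, 0, 0, 0, 0, 0, 0, 0, 0, 0, 0, 0, 0, 0, 0, 0, 0],
    [0, 0, 1, 0, 0, 1, 0, 0, 0, 0, 1, 0, 1, 0, 1, 0, 0, 0, 0, 0, 0, 0, 0, 0, 0, 0, 0, 0, 0, 0, 0, 0, 0, 0, 0, 0, 0, 0, 0, 0, 0, 0, 0, 0, 0, 0, 0, 0, 0, 0, 0, 0, 0, 0, 0, 0, 0, 0, 0],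
    [1, 0, 0, 1, 0, 1, 1, 0, 1, 0, 0, 0, 0, 0, 0, 0, 0, 0, 0, 0, 0, 0, 0, 0, 0, 0, 0, 0, 1, 1, 0, 0, 0, 0, 0, 0, 0, 0, 0, 0, 0, 0, 0, 0, 0, 0, 0, 0, 0, 0, 0, 0, 0, 0, 0, 0, 0, 0, 0],
    [0, 0, 1, 0, 1, 1, 0, 0, 0, 0, 0, 0, 0, 0, 0, 0, 1, 1, 0, 0, 0, 0, 0, 0, 0, 0, 0, 0, 1, 1, 0, 0, 0, 0, 0, 0, 0, 0, 0, 0, 0, 0, 0, 0, 0, 0, 0, 0, 0, 0, 0, 0, 0, 0, 0, 0, 0, 0, 0],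
    [0, 1, 1, 1, 1, 0, 1, 0, 1, 0, 0, 0, 1, 0, 0, 0, 0, 1, 0, 0, 0, 0, 0, 1, 0, 0, 0, 0, 0, 1, 0, 0, 0, 0, 0, 0, 0, 0, 0, 0, 0, 0, 0, 0, 0, 0, 0, 0, 0, 0, 0, 0, 0, 0, 0, 0, 0, 0, 0],
    [1, 1, 1, 0, 0, 1, 1, 1, 1, 1, 1, 0, 1, 1, 0, 0, 0, 0, 0, 0, 0, 0, 0, 0, 0, 0, 0, 0, 0, 0, 0, 0, 0, 0, 0, 0, 0, 0, 0, 0, 0, 0, 0, 0, 0, 0, 0, 0, 0, 0, 0, 0, 0, 0, 0, 0, 0, 0, 0],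
    [1, 1, 1, 0, 0, 1, 1, 0, 1, 1, 0, 0, 0, 0, 0, 1, 0, 0, 1, 0, 1, 0, 1, 1, 0, 0, 0, 0, 0, 0, 0, 0, 0, 0, 0, 0, 1, 0, 0, 1, 0, 1, 0, 0, 0, 0, 0, 0, 0, 0, 0, 0, 0, 0, 0, 0, 0, 0, 0],
    [1, 0, 0, 1, 1, 0, 1, 1, 0, 1, 0, 0, 0, 0, 0, 0, 0, 0, 0, 0, 0, 1, 0, 1, 1, 0, 0, 0, 1, 0, 0, 1, 0, 1, 0, 0, 0, 0, 0, 0, 0, 0, 0, 0, 0, 0, 0, 0, 0, 0, 0, 0, 0, 0, 0, 0, 0, 0, 0],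
    [1, 0, 1, 0, 0, 1, 0, 0, 0, 0, 0, 1, 0, 0, 0, 0, 1, 1, 0, 1, 0, 0, 1, 0, 0, 1, 0, 0, 0, 0, 0, 0, 0, 0, 0, 0, 1, 0, 1, 0, 1, 0, 0, 0, 0, 0, 0, 0, 0, 0, 0, 0, 0, 0, 0, 0, 0, 0, 0],
    [1, 1, 0, 0, 1, 1, 1, 0, 1, 0, 0, 0, 0, 1, 0, 0, 0, 0, 1, 0, 0, 0, 0, 0, 1, 0, 0, 0, 1, 0, 1, 0, 0, 0, 0, 0, 0, 0, 0, 0, 0, 0, 0, 0, 0, 0, 0, 0, 0, 0, 0, 0, 0, 0, 0, 0, 0, 0, 0],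
    [0, 0, 1, 0, 1, 1, 0, 0, 0, 0, 0, 0, 0, 0, 0, 0, 0, 1, 1, 0, 0, 0, 0, 0, 0, 0, 0, 0, 0, 0, 0, 1, 0, 0, 0, 0, 0, 0, 1, 1, 0, 0, 0, 0, 0, 0, 0, 0, 0, 0, 0, 0, 0, 0, 0, 0, 0, 0, 0],
    [1, 0, 0, 0, 1, 0, 1, 0, 1, 1, 1, 1, 0, 1, 0, 1, 0, 1, 1, 0, 0, 0, 0, 0, 0, 0, 0, 0, 0, 1, 1, 1, 1, 1, 1, 0, 0, 0, 0, 0, 0, 0, 0, 0, 0, 0, 0, 0, 0, 0, 0, 0, 0, 0, 0, 0, 0, 0, 0],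
    [1, 1, 1, 0, 0, 1, 0, 1, 0, 1, 0, 0, 0, 1, 0, 0, 0, 1, 0, 1, 0, 0, 0, 0, 0, 1, 0, 0, 1, 0, 1, 1, 0, 0, 0, 0, 0, 0, 0, 0, 0, 0, 0, 0, 0, 0, 0, 0, 0, 0, 0, 0, 0, 0, 0, 0, 0, 0, 0],
    [1, 1, 0, 1, 1, 0, 1, 1, 1, 0, 0, 1, 1, 0, 1, 1, 0, 0, 1, 0, 1, 1, 1, 1, 0, 0, 1, 1, 0, 0, 0, 0, 0, 0, 0, 0, 0, 1, 0, 1, 1, 0, 1, 0, 0, 0, 0, 0, 0, 0, 0, 0, 0, 0, 0, 0, 0, 0, 0],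
    [1, 1, 0, 1, 1, 0, 0, 0, 0, 1, 0, 0, 0, 1, 1, 0, 1, 0, 1, 1, 1, 1, 1, 1, 0, 1, 0, 1, 0, 1, 1, 0, 0, 0, 0, 0, 1, 1, 1, 0, 1, 0, 1, 0, 0, 0, 0, 0, 0, 0, 0, 0, 0, 0, 0, 0, 0, 0, 0],
    [1, 0, 1, 0, 1, 0, 1, 1, 1, 1, 1, 0, 1, 1, 1, 1, 0, 0, 0, 0, 0, 0, 1, 0, 0, 1, 1, 1, 0, 0, 0, 0, 0, 0, 0, 0, 0, 0, 0, 1, 1, 0, 1, 0, 1, 0, 0, 0, 0, 0, 0, 0, 0, 0, 0, 0, 0, 0, 0],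
    [1, 0, 1, 1, 0, 1, 1, 0, 0, 1, 0, 0, 1, 0, 0, 1, 1, 0, 1, 1, 0, 1, 1, 1, 1, 1, 0, 1, 0, 0, 0, 0, 0, 0, 0, 0, 1, 0, 1, 0, 1, 1, 1, 0, 1, 0, 0, 0, 0, 0, 0, 0, 0, 0, 0, 0, 0, 0, 0],
    [0, 0, 0, 0, 1, 0, 1, 1, 0, 1, 1, 1, 1, 0, 1, 1, 0, 0, 0, 0, 0, 0, 1, 1, 1, 1, 1, 1, 0, 1, 0, 0, 1, 0, 1, 1, 0, 0, 1, 0, 0, 0, 0, 1, 1, 0, 0, 0, 0, 0, 0, 0, 0, 0, 0, 0, 0, 0, 0]]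
  mu := [[0, 0, 0, 0, 0, 0, 0, 0, 0, 0, 0, 0, 0, 0, 0, 0, 0, 0, 0, 0, 0, 0, 0, 0, 0, 0, 0, 0, 0, 0, 0, 0, 0, 0, 0, 0, 0, 0, 0, 1, 0, 1, 0, 0, 0, 0, 0, 0, 0, 0, 0, 0, 0, 0, 0, 0, 0, 0, 0],
    [0, 0, 0, 0, 0, 0, 0, 0, 0, 0, 0, 0, 0, 0, 0, 0, 0, 0, 0, 0, 0, 0, 0, 0, 0, 0, 0, 0, 0, 0, 0, 0, 0, 0, 0, 0, 0, 0, 0, 0, 0, 1, 0, 0, 1, 0, 0, 0, 0, 0, 0, 0, 0, 0, 0, 0, 0, 0, 0],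
    [0, 0, 0, 0, 0, 0, 0, 0, 0, 0, 0, 0, 0, 0, 0, 0, 0, 0, 0, 0, 0, 0, 0, 0, 0, 0, 0, 0, 0, 0, 0, 0, 0, 0, 0, 0, 0, 0, 0, 0, 0, 1, 0, 0, 0, 0, 0, 0, 0, 0, 0, 0, 0, 0, 0, 0, 0, 0, 0],
    [0, 0, 0, 0, 0, 0, 0, 0, 0, 0, 0, 0, 0, 0, 0, 0, 0, 0, 0, 0, 0, 0, 0, 0, 0, 0, 0, 0, 0, 0, 0, 0, 0, 0, 1, 0, 0, 0, 0, 1, 0, 0, 0, 0, 0, 0, 0, 0, 0, 0, 0, 0, 0, 0, 0, 0, 0, 0, 0],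
    [0, 0, 0, 0, 0, 0, 0, 0, 0, 0, 0, 0, 0, 0, 0, 0, 0, 0, 0, 0, 0, 0, 0, 0, 0, 0, 0, 0, 0, 0, 0, 0, 0, 0, 0, 0, 0, 0, 0, 1, 0, 1, 0, 1, 1, 0, 0, 0, 0, 0, 0, 0, 0, 0, 0, 0, 0, 0, 0],
    [0, 0, 0, 0, 0, 0, 0, 0, 0, 0, 0, 0, 0, 0, 0, 0, 0, 0, 0, 0, 0, 0, 0, 0, 0, 0, 0, 0, 0, 0, 0, 0, 0, 0, 1, 0, 0, 0, 0, 0, 0, 1, 1, 0, 0, 0, 0, 0, 0, 0, 0, 0, 0, 0, 0, 0, 0, 0, 0],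
    [0, 0, 0, 0, 0, 0, 0, 0, 0, 0, 0, 0, 0, 0, 0, 0, 0, 0, 0, 0, 0, 0, 0, 0, 0, 0, 0, 0, 0, 0, 0, 0, 0, 0, 0, 0, 0, 0, 0, 0, 0, 0, 0, 0, 0, 0, 0, 0, 0, 0, 0, 0, 0, 0, 0, 0, 0, 0, 0],
    [0, 0, 0, 0, 0, 0, 0, 0, 0, 0, 0, 0, 0, 0, 0, 0, 0, 0, 0, 0, 0, 0, 0, 0, 0, 0, 0, 0, 0, 0, 0, 0, 0, 0, 0, 0, 0, 0, 0, 0, 0, 0, 0, 0, 0, 0, 0, 0, 0, 0, 0, 0, 0, 0, 0, 0, 0, 0, 0],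
    [0, 0, 0, 0, 0, 0, 0, 0, 0, 0, 0, 0, 0, 0, 0, 0, 0, 0, 0, 0, 0, 0, 0, 0, 0, 0, 0, 0, 0, 0, 0, 0, 0, 0, 0, 0, 0, 0, 0, 0, 0, 0, 0, 0, 0, 0, 0, 0, 0, 0, 0, 0, 0, 0, 0, 0, 0, 0, 0]]
  comb := [[0, 0, 0, 1, 0, 0, 0, 0, 0, 0, 0, 0, 1, 0, 0, 0, 0, 0, 0, 0, 0, 0, 0, 0, 0, 0, 0, 0, 0, 0, 0, 0, 0, 0, 0, 0, 0, 0, 0],
    [0, 0, 0, 1, 0, 0, 0, 0, 0, 0, 0, 0, 0, 0, 0, 0, 0, 0, 0, 0, 0, 0, 0, 0, 0, 0, 0, 0, 0, 0, 0, 0, 0, 0, 0, 0, 0, 0, 0],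
    [1, 0, 1, 1, 1, 1, 0, 0, 1, 0, 0, 0, 1, 0, 1, 0, 0, 0, 0, 0, 0, 0, 0, 1, 1, 0, 0, 0, 0, 0, 0, 0, 0, 0, 0, 0, 0, 0, 0],
    [1, 0, 0, 0, 0, 0, 0, 0, 0, 0, 0, 0, 0, 0, 0, 0, 0, 0, 0, 0, 0, 0, 0, 0, 0, 0, 0, 0, 0, 0, 0, 0, 0, 0, 0, 0, 0, 0, 0],
    [1, 0, 0, 0, 0, 0, 0, 0, 1, 0, 0, 0, 0, 0, 0, 0, 0, 0, 0, 0, 0, 0, 0, 0, 0, 0, 0, 0, 0, 0, 0, 0, 0, 0, 0, 0, 0, 0, 0],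
    [0, 0, 1, 0, 0, 1, 0, 1, 0, 1, 0, 0, 0, 0, 0, 0, 1, 1, 0, 1, 1, 1, 1, 1, 1, 0, 0, 0, 0, 0, 0, 0, 0, 0, 0, 0, 1, 1, 0],
    [0, 0, 0, 0, 1, 0, 0, 0, 0, 0, 0, 0, 0, 0, 0, 0, 0, 0, 0, 0, 0, 0, 0, 0, 0, 0, 0, 0, 0, 0, 0, 0, 0, 0, 0, 0, 0, 0, 0],
    [0, 1, 0, 0, 1, 0, 0, 0, 0, 0, 0, 0, 0, 0, 0, 0, 0, 0, 0, 0, 0, 0, 0, 0, 0, 0, 0, 0, 0, 0, 0, 0, 0, 0, 0, 0, 0, 0, 0],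
    [0, 0, 0, 0, 0, 0, 1, 0, 1, 0, 0, 1, 0, 0, 1, 0, 0, 0, 1, 0, 0, 0, 0, 0, 0, 0, 0, 0, 0, 0, 0, 0, 0, 0, 0, 0, 0, 0, 0],
    [0, 0, 0, 1, 1, 0, 0, 0, 0, 1, 0, 0, 0, 1, 0, 1, 1, 1, 1, 1, 0, 0, 1, 1, 1, 1, 0, 1, 0, 0, 1, 0, 0, 0, 0, 1, 0, 1, 0],
    [0, 0, 0, 1, 0, 0, 0, 0, 0, 1, 0, 0, 1, 0, 0, 0, 0, 0, 0, 0, 0, 0, 0, 0, 0, 0, 0, 0, 0, 0, 0, 0, 0, 0, 0, 0, 0, 0, 0],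
    [1, 0, 1, 1, 1, 1, 0, 0, 1, 0, 1, 0, 1, 0, 1, 0, 0, 0, 0, 0, 0, 0, 0, 1, 1, 0, 0, 0, 0, 0, 0, 0, 0, 0, 0, 0, 0, 0, 0],
    [1, 0, 1, 1, 0, 1, 0, 1, 0, 1, 0, 0, 1, 0, 0, 0, 1, 0, 0, 1, 1, 1, 1, 1, 1, 0, 0, 0, 0, 0, 0, 0, 0, 0, 0, 0, 1, 1, 0],
    [0, 1, 1, 0, 0, 1, 1, 0, 0, 0, 0, 1, 0, 1, 0, 1, 1, 0, 0, 1, 0, 0, 1, 0, 0, 1, 1, 1, 0, 0, 1, 0, 0, 0, 0, 1, 0, 1, 0],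
    [0, 0, 1, 1, 1, 1, 0, 0, 1, 1, 0, 0, 1, 0, 1, 0, 0, 1, 0, 0, 0, 0, 1, 1, 1, 0, 0, 0, 0, 0, 0, 0, 0, 0, 0, 0, 0, 0, 0],
    [0, 0, 0, 0, 0, 1, 0, 0, 0, 0, 0, 0, 0, 0, 0, 0, 0, 0, 0, 0, 0, 0, 0, 0, 0, 0, 0, 0, 0, 0, 0, 0, 0, 0, 0, 0, 0, 0, 0],
    [0, 0, 1, 0, 0, 1, 0, 0, 0, 0, 0, 0, 0, 0, 0, 0, 0, 0, 0, 0, 0, 0, 0, 0, 0, 0, 0, 0, 0, 0, 0, 0, 0, 0, 0, 0, 0, 0, 0],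
    [1, 0, 0, 0, 0, 0, 1, 0, 1, 0, 0, 1, 0, 0, 0, 0, 0, 0, 1, 0, 0, 0, 0, 0, 0, 0, 0, 0, 0, 0, 0, 0, 0, 0, 0, 0, 0, 0, 0],
    [0, 0, 0, 0, 1, 0, 0, 0, 0, 0, 0, 0, 0, 0, 0, 0, 0, 0, 0, 0, 1, 0, 0, 0, 0, 0, 0, 0, 0, 0, 0, 0, 0, 0, 0, 0, 0, 0, 0],
    [0, 0, 0, 1, 1, 0, 0, 1, 1, 0, 0, 0, 0, 1, 0, 0, 0, 0, 1, 0, 1, 0, 0, 0, 1, 0, 1, 1, 0, 0, 1, 0, 0, 0, 0, 1, 1, 0, 0],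
    [0, 0, 0, 0, 0, 1, 1, 1, 1, 0, 0, 1, 1, 1, 0, 0, 1, 1, 1, 0, 0, 1, 0, 0, 1, 0, 0, 0, 0, 0, 1, 0, 0, 0, 0, 1, 1, 0, 0],
    [0, 0, 0, 0, 0, 0, 1, 0, 0, 0, 0, 0, 0, 0, 0, 0, 0, 0, 0, 0, 0, 0, 0, 0, 0, 0, 0, 0, 0, 0, 0, 0, 0, 0, 0, 0, 0, 0, 0],
    [0, 0, 0, 0, 0, 0, 1, 0, 0, 0, 0, 1, 0, 0, 0, 0, 0, 0, 0, 0, 0, 0, 0, 0, 0, 0, 0, 0, 0, 0, 0, 0, 0, 0, 0, 0, 0, 0, 0],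
    [0, 0, 0, 1, 0, 0, 1, 0, 1, 0, 0, 1, 0, 0, 0, 1, 0, 1, 1, 0, 0, 0, 0, 1, 0, 1, 0, 0, 0, 0, 0, 0, 0, 0, 0, 0, 0, 0, 0],
    [1, 0, 0, 0, 0, 1, 1, 1, 0, 0, 1, 0, 1, 0, 1, 0, 1, 1, 0, 0, 1, 0, 0, 0, 1, 0, 0, 0, 0, 0, 0, 1, 0, 1, 1, 1, 0, 0, 0],
    [0, 1, 1, 1, 0, 0, 1, 0, 1, 1, 1, 0, 0, 0, 0, 1, 0, 0, 0, 0, 0, 0, 1, 1, 1, 1, 1, 0, 0, 0, 1, 0, 0, 0, 1, 1, 1, 1, 0],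
    [1, 0, 0, 0, 0, 1, 0, 0, 0, 0, 1, 0, 1, 0, 1, 0, 1, 1, 0, 0, 1, 0, 0, 0, 1, 0, 0, 0, 0, 0, 0, 1, 0, 1, 1, 1, 0, 0, 0],
    [1, 0, 0, 0, 0, 0, 0, 0, 1, 0, 0, 0, 1, 1, 0, 0, 1, 1, 1, 0, 1, 1, 0, 0, 0, 0, 0, 1, 0, 1, 1, 1, 0, 1, 1, 0, 1, 1, 0],
    [0, 0, 1, 1, 1, 1, 0, 0, 0, 0, 0, 0, 1, 0, 1, 1, 0, 0, 0, 0, 0, 0, 0, 1, 1, 0, 0, 0, 0, 0, 0, 0, 0, 0, 0, 0, 0, 0, 0],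
    [1, 0, 0, 0, 0, 0, 1, 1, 1, 1, 0, 1, 0, 0, 0, 1, 1, 1, 1, 1, 1, 1, 1, 1, 0, 0, 0, 0, 0, 0, 0, 0, 0, 0, 0, 0, 1, 1, 0],
    [0, 1, 1, 1, 1, 0, 1, 0, 0, 1, 1, 0, 1, 1, 1, 0, 1, 0, 1, 0, 1, 1, 0, 0, 1, 1, 1, 1, 0, 0, 0, 1, 0, 1, 1, 0, 1, 0, 0],
    [0, 0, 0, 0, 0, 0, 0, 0, 0, 0, 0, 0, 0, 0, 1, 0, 0, 0, 0, 1, 1, 0, 0, 1, 1, 0, 0, 0, 0, 0, 0, 1, 0, 0, 0, 0, 0, 0, 0],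
    [1, 1, 0, 1, 1, 1, 0, 0, 1, 1, 1, 1, 1, 0, 1, 0, 0, 1, 1, 0, 0, 0, 0, 0, 0, 1, 0, 0, 1, 0, 1, 0, 1, 0, 0, 0, 0, 0, 0],
    [1, 1, 1, 0, 0, 0, 1, 1, 0, 1, 1, 1, 1, 1, 1, 1, 0, 1, 0, 0, 0, 0, 1, 0, 0, 0, 0, 1, 1, 0, 1, 0, 0, 1, 1, 0, 0, 1, 0],
    [0, 0, 0, 0, 0, 0, 0, 0, 0, 0, 0, 0, 0, 0, 0, 0, 0, 0, 0, 0, 0, 0, 0, 0, 0, 0, 0, 0, 0, 0, 0, 0, 0, 0, 0, 0, 0, 0, 0],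
    [1, 1, 0, 1, 0, 1, 0, 0, 1, 0, 1, 1, 1, 0, 1, 0, 1, 1, 0, 1, 0, 0, 0, 0, 0, 0, 1, 0, 1, 1, 0, 1, 1, 1, 0, 0, 1, 0, 1],
    [1, 0, 0, 1, 0, 0, 0, 0, 0, 0, 0, 0, 1, 0, 0, 0, 1, 0, 0, 0, 0, 0, 0, 0, 0, 0, 0, 0, 0, 0, 0, 0, 0, 0, 0, 0, 0, 0, 0],
    [1, 0, 0, 1, 0, 0, 1, 1, 1, 1, 0, 1, 0, 1, 0, 0, 1, 1, 1, 0, 1, 1, 1, 1, 1, 0, 0, 0, 0, 0, 0, 0, 0, 0, 0, 0, 1, 1, 0],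
    [1, 0, 0, 1, 0, 0, 1, 1, 1, 1, 0, 1, 1, 0, 0, 0, 1, 1, 1, 0, 1, 1, 1, 1, 1, 0, 0, 0, 0, 0, 0, 0, 0, 0, 0, 0, 1, 1, 0],
    [0, 0, 0, 0, 0, 0, 0, 0, 0, 0, 0, 0, 0, 0, 0, 0, 0, 0, 0, 0, 0, 0, 0, 0, 0, 0, 0, 0, 0, 0, 0, 0, 0, 0, 0, 0, 0, 0, 0],
    [1, 1, 1, 1, 1, 0, 0, 1, 0, 1, 0, 1, 1, 1, 0, 1, 1, 0, 1, 1, 1, 0, 1, 1, 0, 1, 0, 1, 0, 1, 0, 0, 0, 0, 1, 0, 0, 1, 0],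
    [0, 0, 0, 0, 0, 0, 0, 0, 0, 0, 0, 0, 0, 0, 0, 0, 0, 0, 0, 0, 0, 0, 0, 0, 0, 0, 0, 0, 0, 0, 0, 0, 0, 0, 0, 0, 0, 0, 0],
    [0, 0, 0, 0, 0, 0, 0, 0, 0, 0, 0, 0, 0, 0, 0, 0, 0, 0, 0, 0, 0, 0, 0, 0, 0, 0, 0, 0, 0, 0, 0, 0, 0, 0, 0, 0, 0, 0, 0],
    [0, 0, 0, 0, 0, 0, 0, 0, 0, 0, 0, 0, 0, 0, 0, 0, 0, 0, 0, 0, 0, 0, 0, 0, 0, 0, 0, 0, 0, 0, 0, 0, 0, 0, 0, 0, 0, 0, 0],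
    [0, 0, 0, 0, 0, 0, 0, 0, 0, 0, 0, 0, 0, 0, 0, 0, 0, 0, 0, 0, 0, 0, 0, 0, 0, 0, 0, 0, 0, 0, 0, 0, 0, 0, 0, 0, 0, 0, 0]]

end CfsgLib.SchurON
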