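import Cfsg.Agent.Lib.ONRep.Cover
import Cfsg.Prelude.Def_KGroupFacts

/-!
The triple cover of the O'Nan group is a stem extension.
-/

set_option autoImplicit false
set_option linter.all false

namespace CfsgLib.SchurON

open CfsgLib.ONRep CfsgLib.CosetEnum Subgroup

local notation "G" => Cfsg.Spor.ON

/-- Perfectness of a central extension of order three over a perfect group generated by elements of order dividing four. -/
theorem commutator_top_of {A B : Type*} [Group A] [Group B] (σ : A →* B) (hs : Function.Surjective σ)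
    (hcube : ∀ x ∈ σ.ker, x ^ 3 = 1) (hB : _root_.commutator B = ⊤) (S : Set A) (hS : closure S = ⊤)
    (hS2 : ∀ x ∈ S, x ^ 4 = 1) : _root_.commutator A = ⊤ := by
  let q := QuotientGroup.mk' (_root_.commutator A)
  have h3 : ∀ x : A, q x ^ 3 = 1 := by
    intro x
    have hx : σ x ∈ (_root_.commutator A).map σ := by
      rw [_root_.commutator_def, map_commutator, map_top_of_surjective σ hs, ← _root_.commutator_def, hB]
      exact mem_top _
    obtain ⟨c, hc, hcx⟩ := hx
    have hk : c⁻¹ * x ∈ σ.ker := by rw [MonoidHom.mem_ker, map_mul, map_inv, hcx, inv_mul_cancel]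
    have he : q x = q (c⁻¹ * x) := by
      rw [map_mul, map_inv, show q c = 1 from (QuotientGroup.eq_one_iff c).2 hc, inv_one, one_mul]
    rw [he, ← map_pow, hcube _ hk, map_one]
  rw [eq_top_iff, ← hS, closure_le]
  intro x hx
  refine (QuotientGroup.eq_one_iff x).1 ?_
  have h4 : q x ^ 4 = 1 := by rw [← map_pow, hS2 x hx, map_one]
  rw [pow_succ, h3, one_mul] at h4
  exact h4

/-- A central cyclic subgroup as the kernel of a stem extension. -/
theorem stem_of {A B : Type} [Group A] [Group B] (N : Subgroup A) [N.Normal] (w : A) (hN : N = zpowers w)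
    (hc : N ≤ center A) (hw : orderOf w = 3) (e : B ≃* A ⧸ N) (hB : _root_.commutator B = ⊤)
    (hBf : Finite B) (S : Set A) (hS : closure S = ⊤) (hS2 : ∀ x ∈ S, x ^ 4 = 1) :
    ∃ (Γ : Type) (_ : Group Γ) (_ : Finite Γ) (σ : Γ →* B), Cfsg.IsStemExtension σ ∧ Nat.card σ.ker = 3 := by
  let σ : A →* B := e.symm.toMonoidHom.comp (QuotientGroup.mk' N)
  have hs : Function.Surjective σ := e.symm.surjective.comp (QuotientGroup.mk'_surjective N)
  have hk : σ.ker = N := by
    ext x
    simp [σ, MonoidHom.mem_ker, QuotientGroup.eq_one_iff]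
  have h3 : Nat.card N = 3 := by rw [hN, Nat.card_zpowers, hw]
  haveI : Finite N := Nat.finite_of_card_ne_zero (by omega)
  haveI : Finite (A ⧸ N) := Finite.of_equiv B e.toEquiv
  haveI : Finite A := Finite.of_subgroup_quotient N
  have hcube : ∀ x ∈ σ.ker, x ^ 3 = 1 := by
    rw [hk]
    intro x hx
    have := pow_card_eq_one' (x := (⟨x, hx⟩ : N))
    rw [h3] at this
    exact congrArg Subtype.val this
  refine ⟨A, inferInstance, inferInstance, σ, ⟨hs, hk ▸ hc, ?_⟩, by rw [hk]; exact h3⟩
  rw [commutator_top_of σ hs hcube hB S hS hS2]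
  exact le_top

theorem ON_perfect : _root_.commutator G = ⊤ := by
  haveI := ON.Simple.isSimple
  haveI : Finite G := ON.finite
  rcases (inferInstance : (_root_.commutator G).Normal).eq_bot_or_eq_top with h | h
  · exfalso
    letI : CommGroup G := { (inferInstance : Group G) with
      mul_comm := fun a b => commutatorElement_eq_one_iff_mul_comm.1 ((Subgroup.mem_bot).1
        (h ▸ commutator_mem_commutator (mem_top a) (mem_top b))) }
    have := IsSimpleGroup.prime_card (α := G)
    rw [ON.card_group] at this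
    norm_num at this
  · exact h

theorem gen_pow_four (a : Cfsg.Spor.ON.Gen) : φ (FreeGroup.of a) ^ 4 = 1 := by
  by_cases ha : a = .g
  · subst ha
    have h := φ_word (l := [1, 6, 7, 7]) (c := 1) (by decide +kernel)
    rw [Nat.cast_one, one_smul] at h
    have h1 : ([1, 6, 7, 7].map fun x => φ (ON.gF x)).prod = 1 := Units.ext h
    simp only [List.map_cons, List.map_nil, List.prod_cons, List.prod_nil, mul_one, ON.gF, map_inv] at h1
    have h16 := φ_word (l := [1, 6, 1, 6]) (c := 1) (by decide +kernel)
    rw [Nat.cast_one, one_smul] at h16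
    have h2 : ([1, 6, 1, 6].map fun x => φ (ON.gF x)).prod = 1 := Units.ext h16
    simp only [List.map_cons, List.map_nil, List.prod_cons, List.prod_nil, mul_one, ON.gF] at h2
    generalize φ Cfsg.Spor.ON.a = u at h1 h2
    generalize φ Cfsg.Spor.ON.f = v at h1 h2
    show φ Cfsg.Spor.ON.g ^ 4 = 1
    generalize φ Cfsg.Spor.ON.g = y at h1
    have hy : y ^ 2 = u * v := by
      have e : u * v = y * y := by
        have := congrArg (fun t => t * (y * y)) h1
        simpa [mul_assoc] using this
      rw [e, pow_two]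
    rw [show 4 = 2 * 2 from rfl, pow_mul, hy, pow_two, mul_assoc u v]
    exact h2
  · rw [show 4 = 2 * 2 from rfl, pow_mul, pow_two (φ (FreeGroup.of a)), φ_sq a ha, one_pow]

/-- The stem extension. -/
theorem exists_stem : ∃ (Γ : Type) (_ : Group Γ) (_ : Finite Γ) (σ : Γ →* G),
    Cfsg.IsStemExtension σ ∧ Nat.card σ.ker = 3 := by
  refine stem_of N z N_eq (zpowers_le.2 z_central) z_order quotEquiv ON_perfect ON.finite
    (Set.range fun a => φ.rangeRestrict (FreeGroup.of a)) ?_ ?_
  · have h : (⊤ : Subgroup (FreeGroup Cfsg.Spor.ON.Gen)).map φ.rangeRestrict = ⊤ :=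
      map_top_of_surjective _ φ.rangeRestrict_surjective
    rw [← h, ← FreeGroup.closure_range_of, MonoidHom.map_closure, ← Set.range_comp]
    rfl
  · rintro _ ⟨a, rfl⟩
    exact Subtype.ext (gen_pow_four a)

end CfsgLib.SchurON
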