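import Cfsg.Agent.Lib.Schur.ExteriorBound

/-!
The Sylow 3-subgroup of the O'Nan group, elementary abelian of order 81, and conjugating elements.
-/

set_option autoImplicit false
set_option maxRecDepth 20000

namespace CfsgLib.SchurON

/-- Words of the generators and of the conjugating elements. -/
def letters3 : List (List ℕ) := [
  [4, 0, 3, 6, 0, 2, 3, 7, 7, 7, 4, 3, 7, 4, 3, 6, 7, 4, 0, 4, 0, 3, 2, 6, 2, 7, 6, 5, 3, 1, 7, 5, 4, 0, 6, 2, 3, 7, 3, 0, 3, 0, 4, 3, 4, 0, 5, 2, 0, 4, 0, 3, 2, 1, 0],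
  [2, 3, 6, 3, 4, 0, 3, 1, 2, 7, 7, 7, 4, 6, 3, 2, 3, 2, 4, 7, 2, 3, 7, 2, 0, 1, 3, 5, 0, 4, 3, 2, 0, 5, 4, 2, 3, 4, 2, 3, 1, 2, 7],
  [7, 5, 2, 5, 3, 6, 1, 2, 4, 6, 3, 7, 4, 0, 3, 7, 5, 0, 2, 6, 4, 0, 6, 7, 7, 3, 0, 3, 1, 0, 2, 6, 1, 5, 0, 6, 3, 0, 6, 7, 4, 0, 4, 5, 2, 6, 0, 0, 6, 2, 0, 4, 7, 5, 4, 3, 0, 5, 4, 3, 2, 0, 3, 1, 2],
  [3, 0, 0, 6, 3, 1, 7, 5, 7, 4, 7, 5, 0, 6, 7, 2, 0, 6, 3, 7, 4, 5, 3, 7, 1, 6, 3, 0, 0, 4, 7, 2, 1, 3, 0, 6, 7, 4, 1, 3, 4, 7, 7, 5, 2, 7, 4, 5, 3, 4, 7, 5, 1, 2, 3, 4],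
  [3, 4, 7, 5, 0, 6, 3, 0, 6, 5, 3, 0, 0, 6, 2, 1, 3, 0, 0, 3, 4, 7, 4, 1, 7, 3, 5, 4, 6, 3, 0, 6, 7, 2, 3, 0, 1, 0, 3, 2, 6, 5, 4, 6, 7, 1, 2, 0, 1, 3, 0, 0, 4, 5, 3, 6, 2, 6, 3, 4, 3, 2, 7, 4, 5, 3, 4, 2, 3, 2],
  [4, 1, 3, 2, 0, 6, 1, 7, 3, 0, 4, 1, 0, 1, 4, 5, 1, 2, 7, 4, 2, 0, 3, 4, 1, 4, 0, 0, 4, 7, 7, 1, 7, 1, 0, 0, 4, 3, 0, 3, 7, 7, 7, 7, 2, 0, 6, 4, 0, 2, 6, 5, 6, 7, 7, 1, 4, 7, 5, 3, 4, 7, 5, 3, 4, 7, 3, 2, 7]]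

/-- Words of the elements, by increasing keys. -/
def elts3 : List (List ℕ) := [[], [0, 0, 1], [0, 1, 1, 2, 2, 3, 3], [1, 1, 2, 2], [2, 3, 3], [0, 2, 2, 3, 3], [1, 3, 3], [1, 1, 2, 2, 3], [0, 0, 1, 1, 2], [0, 0, 2, 2, 3], [1], [0, 1, 1, 3], [0, 0, 1, 1, 3, 3], [0, 0, 1, 1, 3], [1, 2, 2], [1, 2, 2, 3, 3], [1, 2, 2, 3], [0, 3], [1, 1, 2], [0, 1, 3, 3], [1, 1, 3], [0, 0, 1, 2, 2], [0, 0, 1, 1, 2, 2, 3], [0, 0, 2, 2, 3, 3], [1, 2, 3], [1, 3], [0, 1, 1, 2, 2], [0, 1, 2, 3, 3], [0, 1, 2, 2, 3], [0, 1, 2], [0, 0, 1, 1, 2, 3, 3], [0, 0, 2, 2], [0, 2], [2], [1, 1], [0, 0, 1, 1, 2, 2, 3, 3], [0, 1, 1], [0, 0, 1, 2, 3], [0, 3, 3], [0, 0, 2], [3, 3], [0, 0, 1, 2, 3, 3], [0, 2, 3, 3], [1, 1, 2, 2, 3, 3], [0, 0, 1,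 2], [0], [1, 1, 2, 3, 3], [0, 0, 1, 3, 3], [0, 0, 2, 3], [0, 0], [0, 0, 1, 2, 2, 3, 3], [0, 1, 1, 2, 2, 3], [0, 0, 1, 1], [2, 2, 3, 3], [0, 2, 3], [0, 0, 1, 1, 2, 2], [1, 1, 3, 3], [0, 1, 1, 3, 3], [2, 2, 3], [0, 2, 2], [0, 0, 3, 3], [0, 1, 1, 2, 3], [2, 2], [1, 1, 2, 3], [0, 1, 2, 2, 3, 3], [1, 2, 3, 3], [0, 1, 1, 2, 3, 3], [0, 1, 2, 3], [1, 2], [0, 0, 1, 2, 2, 3], [0, 0, 1, 3], [0, 1, 3], [2, 3], [0, 1], [0, 0, 1, 1, 2, 3], [0, 0, 2, 3, 3], [0, 1, 1, 2], [0, 0, 3], [0, 1, 2, 2], [0, 2, 2, 3], [3]]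

/-- The certificate. -/
def cert3 : SchurExterior.Cert where
  m := 4
  pairs := [(0, 1), (0, 2), (0, 3), (1, 2), (1, 3), (2, 3)]
  imgs := [[[0], [1], [0, 1, 1, 2, 2], [0, 0, 1, 1, 3, 3]], [[0, 0, 1, 2, 2, 3, 3], [2, 2, 3], [1, 1, 2, 2], [0, 1, 2, 3]]]
  comb := [(1, [0, 0, 0, 0, 0, 0, 0, 0, 0, 0, 0, 0]), (1, [0, 1, 0, 0, 0, 0, 0, 0, 0, 0, 0, 0]), (1, [0, 0, 1, 0, 0, 0, 0, 0, 0, 0, 0, 0]), (1, [0, 0, 0, 1, 0, 0, 0, 0, 0, 0, 0, 0]), (2, [0, 0, 0, 0, 1, 0, 0, 0, 0, 0, 0, 0]), (0, [0, 2, 1, 1, 2, 0, 1, 0, 0, 0, 0, 0])]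

end CfsgLib.SchurON
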