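import Cfsg.Agent.Lib.Schur.ON.Words
import Cfsg.Agent.Lib.Schur.ON.Data
import Cfsg.Agent.Lib.Schur.ON.Three
import Cfsg.Agent.Lib.Schur.ON.Exist
import Cfsg.Agent.Lib.Schur.Trivial
import Mathlib.Tactic.NormNum.Prime

/-!
The Schur multiplier of the O'Nan group is cyclic of order three.
-/

set_option autoImplicit false
set_option linter.all false
set_option maxRecDepth 20000

namespace CfsgLib.SchurON

open CfsgLib.ONWord CfsgLib.CosetEnum

/-- The checks of the data at one prime against the group. -/
noncomputable def dataOK (L : List (List ℕ)) (E : List (List ℕ)) (C : SchurPath.Cert) (q : ℕ) : Bool :=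
  (L.all fun l => l.all fun x => Nat.blt x 8) && Nat.beq E.length q &&
    (E.all fun w => w.all fun a => Nat.blt a C.m) && eqAll L C.rels &&
    incr (E.map (key L))

theorem prod_inj (L E : List (List ℕ)) (hL : (L.all fun l => l.all fun x => Nat.blt x 8) = true) (m : ℕ)
    (hE : ∀ w ∈ E, ∀ a ∈ w, a < m) (hincr : incr (E.map (key L)) = true) :
    E.length ≤ Nat.card (Subgroup.closure {x | ∃ a < m, ev (L.getD a []) = x}) := by
  haveI := ON.finite
  set S := Subgroup.closure {x | ∃ a < m, ev (L.getD a []) = x}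
  have hmem : ∀ w ∈ E, (w.map fun a => ev (L.getD a [])).prod ∈ S := fun w hw =>
    list_prod_mem fun x hx => by
      obtain ⟨a, ha, rfl⟩ := List.mem_map.1 hx
      exact Subgroup.subset_closure ⟨a, hE w hw a ha, rfl⟩
  let f : Fin E.length → S := fun j => ⟨_, hmem _ (List.getElem_mem j.2)⟩
  have hf : Function.Injective f := by
    intro j k h
    have h' : ev (flat L E[(j : ℕ)]) = ev (flat L E[(k : ℕ)]) := by
      rw [← ev_flat, ← ev_flat]
      exact congrArg Subtype.val h
    have hkey := key_eq_of_ev L hL _ _ h'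
    have hnd : (E.map (key L)).Nodup :=
      (incr_pairwise _ hincr).imp fun hab => Nat.ne_of_lt hab
    apply Fin.ext
    exact (List.Nodup.getElem_inj_iff hnd (hi := by simp) (hj := by simp)).1
      (by simpa using hkey)
  have := Nat.card_le_card_of_injective f hf
  rwa [Nat.card_fin] at this

theorem rel_of_key (L : List (List ℕ)) (hL : (L.all fun l => l.all fun x => Nat.blt x 8) = true) (u w : List ℕ)
    (h : key L u = key L w) :
    (u.map fun a => ev (L.getD a [])).prod = (w.map fun a => ev (L.getD a [])).prod := by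
  rw [ev_flat, ev_flat]
  exact ev_eq_of_key L hL _ _ h

/-- The certificate at one prime, applied. -/
theorem not_dvd_of_data (L E : List (List ℕ)) (C : SchurPath.Cert) {p : ℕ} [Fact p.Prime]
    (hC : C.check p = true) (hD : dataOK L E C (p ^ C.m) = true) {i : ℕ}
    (hNi : 460815505920 = p ^ C.m * i) (hi : ¬ p ∣ i) {Γ : Type} [Group Γ] [Finite Γ]
    (σ : Γ →* Cfsg.Spor.ON) (hσ : Function.Surjective σ) (hc : σ.ker ≤ Subgroup.center Γ)
    (hd : σ.ker ≤ commutator Γ) : ¬ p ∣ Nat.card σ.ker := by
  simp only [dataOK, Bool.and_eq_true, Nat.beq_eq] at hD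
  obtain ⟨⟨⟨⟨hL, hlen⟩, hE⟩, hR⟩, hincr⟩ := hD
  refine SchurPath.not_dvd_card_ker_of_check C hC (fun a => ev (L.getD a [])) ?_ ?_
    ON.card_group hNi hi σ hσ hc hd
  · intro r hr
    simp only [eqAll, List.all_eq_true, Nat.beq_eq] at hR
    rw [List.getD_eq_getElem _ _ hr]
    exact rel_of_key L hL _ _ (hR _ (List.getElem_mem hr))
  · simp only [List.all_eq_true, Nat.blt_eq] at hE
    have := prod_inj L E hL C.m hE hincr
    rwa [hlen] at this

/-- The checks of the data for the prime three. -/
noncomputable def dataThree (L E : List (List ℕ)) (C : SchurExterior.Cert) : Bool :=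
  (L.all fun l => l.all fun x => Nat.blt x 8) && Nat.beq E.length 81 &&
    (E.all fun w => w.all fun a => Nat.blt a C.m) && incr (E.map (key L)) &&
    ((List.range C.m).all fun i => Nat.beq (key L [i, i, i]) (key L []) &&
      (List.range C.m).all fun j => Nat.beq (key L [i, j]) (key L [j, i])) &&
    ((List.range C.imgs.length).all fun k => (List.range C.m).all fun i =>
      Nat.beq (key L [C.m + k, i]) (key L ((C.imgs.getD k []).getD i [] ++ [C.m + k]))) &&
    E.contains [] &&
    (E.all fun w => (List.range C.m).all fun i => (E.map (key L)).contains (key L (w ++ [i])))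

theorem three_of_data (L E : List (List ℕ)) (C : SchurExterior.Cert) (hC : C.check 3 = true)
    (hD : dataThree L E C = true) {Γ : Type} [Group Γ] [Finite Γ]
    (σ : Γ →* Cfsg.Spor.ON) (hσ : Function.Surjective σ) (hc : σ.ker ≤ Subgroup.center Γ)
    (hd : σ.ker ≤ commutator Γ) : ¬ 3 ^ 2 ∣ Nat.card σ.ker := by
  simp only [dataThree, Bool.and_eq_true, Nat.beq_eq, List.all_eq_true, List.mem_range, Nat.blt_eq,
    List.contains_iff_mem] at hD
  obtain ⟨⟨⟨⟨⟨⟨⟨hL, hlen⟩, hE⟩, hincr⟩, hel⟩, hconj⟩, hnil⟩, hclosed⟩ := hD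
  have hL' : (L.all fun l => l.all fun x => Nat.blt x 8) = true := by
    simp only [List.all_eq_true, Nat.blt_eq]; exact hL
  haveI : Fact (Nat.Prime 3) := ⟨Nat.prime_three⟩
  haveI := ON.finite
  set x : ℕ → Cfsg.Spor.ON := fun a => ev (L.getD a []) with hx
  refine SchurExterior.sq_not_dvd_of_check C hC x (fun k => x (C.m + k)) ?_ ?_ ?_ (a := 4) ?_
    (by rw [ON.card_group]; norm_num) σ hσ hc hd
  · intro i hi j hj
    simpa [x] using rel_of_key L hL' [i, j] [j, i] ((hel i hi).2 j hj)
  · intro i hi
    simpa [x, pow_succ, mul_assoc] using rel_of_key L hL' [i, i, i] [] (hel i hi).1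
  · intro k hk i hi
    have := rel_of_key L hL' _ _ (hconj k hk i hi)
    simpa [x, SchurExterior.wv] using this
  · refine le_antisymm ?_ ?_
    · set V : Set Cfsg.Spor.ON := {v | ∃ w ∈ E, (w.map x).prod = v} with hV
      have hsub : ∀ v ∈ Subgroup.closure {y | ∃ i < C.m, x i = y}, v ∈ V := by
        intro v hv
        rw [← Subgroup.mem_toSubmonoid, Subgroup.closure_toSubmonoid_of_finite] at hv
        refine Submonoid.closure_induction_right (motive := fun v _ => v ∈ V) ⟨[], hnil, rfl⟩ ?_ hv
        rintro u _ _ ⟨i, hi, rfl⟩ ⟨w, hw, rfl⟩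
        obtain ⟨w', hw', he⟩ := List.mem_map.1 (hclosed w hw i hi)
        refine ⟨w', hw', ?_⟩
        have := rel_of_key L hL' _ _ he
        simpa [x] using this
      have hsurj : Function.Surjective (fun j : Fin E.length => (⟨_, ⟨E[(j : ℕ)], List.getElem_mem j.2, rfl⟩⟩ : V)) := by
        rintro ⟨v, w, hw, rfl⟩
        obtain ⟨j, hj, rfl⟩ := List.getElem_of_mem hw
        exact ⟨⟨j, hj⟩, rfl⟩
      haveI : Finite V := Finite.of_surjective _ hsurj
      have h1 := Nat.card_le_card_of_injective (fun v : Subgroup.closure {y | ∃ i < C.m, x i = y} =>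
        (⟨v.1, hsub v.1 v.2⟩ : V)) fun a b h => Subtype.ext (congrArg (fun u : V => u.1) h)
      have h2 := Nat.card_le_card_of_surjective _ hsurj
      rw [Nat.card_fin, hlen] at h2
      exact (h1.trans h2).trans (by norm_num)
    · have := prod_inj L E hL' C.m hE hincr
      rw [hlen] at this
      exact le_trans (by norm_num) this

theorem data2 : dataOK letters2 elts2 cert2 (2 ^ cert2.m) = true := by decide +kernel
theorem data7 : dataOK letters7 elts7 cert7 (7 ^ cert7.m) = true := by decide +kernel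
theorem data3 : dataThree letters3 elts3 cert3 = true := by decide +kernel
theorem check2 : cert2.check 2 = true := by decide +kernel
theorem check7 : cert7.check 7 = true := by decide +kernel
theorem check3 : cert3.check 3 = true := by decide +kernel

theorem prime_cases {r : ℕ} (hr : r.Prime) (h : r ∣ 460815505920) :
    r = 2 ∨ r = 3 ∨ r = 5 ∨ r = 7 ∨ r = 11 ∨ r = 19 ∨ r = 31 := by
  rw [show 460815505920 = 2 ^ 9 * 3 ^ 4 * 5 * 7 ^ 3 * (11 * 19 * 31) by norm_num] at h
  have e : ∀ q : ℕ, q.Prime → r ∣ q → r = q := fun q hq hd => (Nat.prime_dvd_prime_iff_eq hr hq).1 hd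
  rcases hr.dvd_mul.1 h with h | h
  · rcases hr.dvd_mul.1 h with h | h
    · rcases hr.dvd_mul.1 h with h | h
      · rcases hr.dvd_mul.1 h with h | h
        · exact Or.inl (e _ Nat.prime_two (hr.dvd_of_dvd_pow h))
        · exact Or.inr (Or.inl (e _ Nat.prime_three (hr.dvd_of_dvd_pow h)))
      · exact Or.inr (Or.inr (Or.inl (e _ (by norm_num) h)))
    · exact Or.inr (Or.inr (Or.inr (Or.inl (e _ (by norm_num) (hr.dvd_of_dvd_pow h)))))
  · rcases hr.dvd_mul.1 h with h | h
    · rcases hr.dvd_mul.1 h with h | h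
      · exact Or.inr (Or.inr (Or.inr (Or.inr (Or.inl (e _ (by norm_num) h)))))
      · exact Or.inr (Or.inr (Or.inr (Or.inr (Or.inr (Or.inl (e _ (by norm_num) h))))))
    · exact Or.inr (Or.inr (Or.inr (Or.inr (Or.inr (Or.inr (e _ (by norm_num) h))))))

theorem hasCyclic : Cfsg.HasCyclicSchurMultiplier Cfsg.Spor.ON 3 := by
  have : Finite Cfsg.Spor.ON := ON.finite
  refine SchurBound.hasCyclic_of_squarefree (Nat.prime_three.squarefree) exists_stem ?_
  intro Γ _ _ σ hσ r hr
  obtain ⟨hs, hc, hd⟩ := hσ
  haveI := Fact.mk hr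
  by_cases h3 : r = 3
  · subst h3
    exact ⟨three_of_data letters3 elts3 cert3 check3 data3 σ hs hc hd, fun _ => dvd_rfl⟩
  have hno : ¬ r ∣ Nat.card σ.ker := by
    by_cases hrG : r ∣ 460815505920
    · rcases prime_cases hr hrG with rfl | rfl | rfl | rfl | rfl | rfl | rfl
      · exact not_dvd_of_data letters2 elts2 cert2 check2 data2 (i := 900030285)
          (by norm_num [cert2]) (by norm_num) σ hs hc hd
      · exact absurd rfl h3
      · exact SchurBound.not_dvd_card_ker_of_sq_not_dvd σ hs hc hd (by rw [ON.card_group]; norm_num)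
      · exact not_dvd_of_data letters7 elts7 cert7 check7 data7 (i := 1343485440)
          (by norm_num [cert7]) (by norm_num) σ hs hc hd
      all_goals exact SchurBound.not_dvd_card_ker_of_sq_not_dvd σ hs hc hd (by rw [ON.card_group]; norm_num)
    · exact SchurBound.not_dvd_card_ker_of_sq_not_dvd σ hs hc hd fun h2 => hrG (by
        rw [← ON.card_group]; exact (dvd_pow_self r two_ne_zero).trans h2)
  exact ⟨fun h2 => hno ((dvd_pow_self r two_ne_zero).trans h2), fun h1 => absurd h1 hno⟩

end CfsgLib.SchurON
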