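import Cfsg.Agent.Lib.CosetEnum.ON.Exact
import Cfsg.Agent.Lib.CosetEnum.Corr

/-!
Four points with trivial pointwise stabiliser in the O'Nan group, and kernel tests for equality of words.
-/

set_option autoImplicit false
set_option maxRecDepth 20000

namespace CfsgLib.ONWord

open CfsgLib.CosetEnum

/-- The subgroup fixing a point. -/
def fixPt {G : Type*} [Group G] {n : ℕ} (π : G →* Equiv.Perm (Fin n)) (b : Fin n) : Subgroup G where
  carrier := {z | π z b = b}
  one_mem' := by simp
  mul_mem' := fun {x y} hx hy => by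
    simp only [Set.mem_ofPred_eq] at *
    rw [map_mul, Equiv.Perm.mul_apply, hy, hx]
  inv_mem' := fun {x} hx => by
    simp only [Set.mem_ofPred_eq] at *
    rw [map_inv, Equiv.Perm.inv_def, Equiv.symm_apply_eq]
    exact hx.symm

/-- One step down a base, with the smaller group named. -/
theorem stab_step {G : Type*} [Group G] {n : ℕ} (π : G →* Equiv.Perm (Fin n)) {K : Subgroup G}
    {T : List Tr} (hT : Realised π K T) [Finite K]
    (T' : List Tr) (ws : List (List ℕ)) (P par pos : Tr) (b : Fin n) (N : ℕ)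
    (hP : Nat.beq (P.get 20 0) b = true)
    (hstep : ∀ i < N, stepOK T P par pos T.length i = true)
    (hws : (ws.all fun l => l.all fun x => decide (x < T.length)) = true)
    (hlen : ws.length = T'.length) (hcomp : ∀ k < n, compOK T T' ws k = true)
    (hfix : fixesAll T b ws = true) :
    Realised π (K ⊓ fixPt π b) T' ∧ N * Nat.card (K ⊓ fixPt π b : Subgroup G) ≤ Nat.card K := by
  classical
  refine ⟨fun j hj => ?_, ?_⟩
  · simp only [List.all_eq_true, decide_eq_true_eq] at hws
    have hj' : j < ws.length := hlen ▸ hj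
    obtain ⟨z, hz, hzk⟩ := realised_scan π hT ws[j] (hws _ (List.getElem_mem hj'))
    refine ⟨z, Subgroup.mem_inf.mpr ⟨hz, Fin.ext ?_⟩, fun k => ?_⟩
    · rw [hzk]
      exact fixesAll_spec _ _ _ hfix _ (List.getElem_mem hj')
    · have := Nat.eq_of_beq_eq_true (allFrom_spec _ _ _ (hcomp k k.2) j (Nat.zero_le _) (by omega))
      rw [List.getD_eq_getElem _ _ hj'] at this
      rw [hzk, this]
  · have hspec : ∀ i < N, pos.get 20 (P.get 20 i) = i ∧ (i = 0 ∨ (par.get 24 i >>> 4 < i ∧
        par.get 24 i &&& 15 < T.length ∧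
          act T (par.get 24 i &&& 15) (P.get 20 (par.get 24 i >>> 4)) = P.get 20 i)) := by
      intro i hi
      have h := hstep i hi
      unfold stepOK at h
      simp only [strict_eq, Bool.and_eq_true, Bool.or_eq_true] at h
      refine ⟨Nat.eq_of_beq_eq_true h.1, ?_⟩
      rcases h.2 with h0 | ⟨⟨h1, h2⟩, h3⟩
      · exact Or.inl (Nat.eq_of_beq_eq_true h0)
      · exact Or.inr ⟨Nat.le_of_ble_eq_true h1, Nat.le_of_ble_eq_true h2, Nat.eq_of_beq_eq_true h3⟩
    have hreach : ∀ i < N, ∃ z : K, ((π (z : G) b : Fin n) : ℕ) = P.get 20 i := by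
      intro i
      induction i using Nat.strong_induction_on with
      | _ i ih =>
        intro hi
        rcases (hspec i hi).2 with h0 | ⟨hj, hx, hxe⟩
        · exact ⟨1, by simp [h0, Nat.eq_of_beq_eq_true hP]⟩
        · obtain ⟨z, hz⟩ := ih _ hj (by omega)
          obtain ⟨y, hy, hyk⟩ := hT _ hx
          refine ⟨⟨y, hy⟩ * z, ?_⟩
          rw [Subgroup.coe_mul, map_mul, Equiv.Perm.mul_apply, hyk, hz, hxe]
    choose z hz using hreach
    have hinj : Function.Injective
        (fun p : Fin N × (K ⊓ fixPt π b : Subgroup G) =>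
          z p.1 p.1.2 * (⟨p.2, (Subgroup.mem_inf.mp p.2.2).1⟩ : K)) := by
      rintro ⟨i, u⟩ ⟨j, v⟩ h
      have hval : ∀ (i : Fin N) (u : (K ⊓ fixPt π b : Subgroup G)),
          ((π ((z i i.2 * (⟨u, (Subgroup.mem_inf.mp u.2).1⟩ : K) : K) : G) b : Fin n) : ℕ) = P.get 20 i := by
        intro i u
        have hu : π (u : G) b = b := (Subgroup.mem_inf.mp u.2).2
        rw [Subgroup.coe_mul, map_mul, Equiv.Perm.mul_apply, hu]
        exact hz _ _
      have hij : P.get 20 i = P.get 20 j := by
        rw [← hval i u, ← hval j v]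
        simp only at h
        rw [h]
      obtain rfl : i = j := Fin.ext (by rw [← (hspec i i.2).1, hij, (hspec j j.2).1])
      simp only [mul_right_inj] at h
      exact Prod.ext rfl (Subtype.ext (by simpa using congrArg Subtype.val h))
    have := Nat.card_le_card_of_injective _ hinj
    rwa [Nat.card_prod, Nat.card_fin] at this

/-- A permutation of the 456 flags from the point stabiliser fixing three flags is trivial. -/
theorem flags_base (K : Subgroup (Equiv.Perm (Fin 456))) [Finite K] (hK : Realised (MonoidHom.id _) K ON.qTable)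
    (hcard : Nat.card K ≤ 3753792) (v : Equiv.Perm (Fin 456)) (hv : v ∈ K)
    (h : ∀ b : Fin 456, b.1 ∈ [0, 1, 7] → v b = b) : v = 1 := by
  obtain ⟨r0, c0⟩ := stab_step (MonoidHom.id _) hK ON.BaseF.B0.table ON.BaseF.B0.ws ON.BaseF.B0.pts
    ON.BaseF.B0.par ON.BaseF.B0.pos ⟨0, by decide⟩ 456 (by decide +kernel) ON.BaseF.B0.step_ok
    (by decide +kernel) rfl ON.BaseF.B0.comp_ok (by decide +kernel)
  obtain ⟨r1, c1⟩ := stab_step (MonoidHom.id _) r0 ON.BaseF.B1.table ON.BaseF.B1.ws ON.BaseF.B1.pts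
    ON.BaseF.B1.par ON.BaseF.B1.pos ⟨1, by decide⟩ 343 (by decide +kernel) ON.BaseF.B1.step_ok
    (by decide +kernel) rfl ON.BaseF.B1.comp_ok (by decide +kernel)
  obtain ⟨-, c2⟩ := stab_step (MonoidHom.id _) r1 ON.BaseF.B2.table ON.BaseF.B2.ws ON.BaseF.B2.pts
    ON.BaseF.B2.par ON.BaseF.B2.pos ⟨7, by decide⟩ 24 (by decide +kernel) ON.BaseF.B2.step_ok
    (by decide +kernel) rfl ON.BaseF.B2.comp_ok (by decide +kernel)
  have hbot : K ⊓ fixPt (MonoidHom.id _) ⟨0, by decide⟩ ⊓ fixPt (MonoidHom.id _) ⟨1, by decide⟩ ⊓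
      fixPt (MonoidHom.id _) (⟨7, by decide⟩ : Fin 456) = ⊥ := by
    apply Subgroup.eq_bot_of_card_le
    omega
  exact Subgroup.mem_bot.1 (hbot ▸ ⟨⟨⟨hv, h ⟨0, by decide⟩ (by simp)⟩, h ⟨1, by decide⟩ (by simp)⟩,
    h ⟨7, by decide⟩ (by simp)⟩)

theorem sec_eq : ON.secT.get 20 0 = 31 ∧ ON.secT.get 20 1 = 34 ∧ ON.secT.get 20 7 = 210 := by decide +kernel

open ON.L37 in
/-- The point stabiliser acts faithfully on the flags. -/
theorem eq_one_of_fix (w : Cfsg.Spor.ON) (hw : w ∈ ON.H)
    (h : ∀ k ∈ [31, 34, 210], ∀ hk : k < 122760, ON.π w ⟨k, hk⟩ = ⟨k, hk⟩) : w = 1 := by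
  haveI := H_finite
  obtain ⟨f, hfy, hf⟩ := exists_hom_of_quot ON.π (MonoidHom.id (Equiv.Perm (Fin 456))) Function.injective_id β S β_surj
    (fun j : Fin 6 => ON.g (j.1 + 1)) uq ON.H H_gen
    (fun j y => col_S j y _ (ON.π_col j y))
    (fun j y hy => Fin.ext (by rw [col_β j y _ (ON.π_col j y) hy]; exact (uq_val j _).symm))
  have hr : Realised (MonoidHom.id _) f.range ON.qTable := fun j hj => by
    have hj : j < 6 := hj
    exact ⟨uq ⟨j, hj⟩, ⟨⟨ON.g (j + 1), ON.mem_H ⟨j, hj⟩⟩, hf ⟨j, hj⟩ _⟩, uq_val ⟨j, hj⟩⟩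
  have hle : Nat.card f.range ≤ 3753792 :=
    card_H ▸ Nat.card_le_card_of_surjective f.rangeRestrict f.rangeRestrict_surjective
  have hge : 3753792 ≤ Nat.card f.range :=
    ON.BaseF.lower _ inferInstance (MonoidHom.id _) f.range inferInstance hr
  have hinj : Function.Injective f := by
    have h := (Function.Surjective.bijective_of_nat_card_le (f := f.rangeRestrict) f.rangeRestrict_surjective
      (by rw [card_H]; exact hge)).1
    exact fun x y hxy => h (Subtype.ext hxy)
  have h0 : f ⟨w, hw⟩ = 1 := by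
    refine flags_base f.range hr hle _ ⟨_, rfl⟩ fun b hb => ?_
    obtain ⟨s1, s2⟩ := sec_ok b
    have hbS : (⟨_, s1⟩ : Fin 122760) ∈ S := by
      show ON.blkT.get 20 (ON.secT.get 20 b.1) ≠ 0
      omega
    have hβ : β ⟨_, s1⟩ = b := Fin.ext (by rw [β_val]; show ON.blkT.get 20 (ON.secT.get 20 b.1) - 1 = b.1; omega)
    have hm : ON.secT.get 20 b.1 ∈ [31, 34, 210] := by
      obtain ⟨e0, e1, e2⟩ := sec_eq
      simp only [List.mem_cons, List.not_mem_nil, or_false] at hb ⊢
      rcases hb with hb | hb | hb <;> rw [hb] <;> omega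
    have e := hfy ⟨w, hw⟩ ⟨_, s1⟩ hbS
    rw [show ON.π ((⟨w, hw⟩ : ON.H) : Cfsg.Spor.ON) ⟨_, s1⟩ = ⟨_, s1⟩ from h _ hm s1, hβ] at e
    exact e.symm
  exact congrArg Subtype.val (hinj (h0.trans (map_one f).symm) : (⟨w, hw⟩ : ON.H) = 1)

/-- An element of the O'Nan group is determined by the images of the four base points. -/
theorem eq_of_base (a b : Cfsg.Spor.ON)
    (h : ∀ k ∈ [0, 31, 34, 210], ∀ hk : k < 122760, ON.π a ⟨k, hk⟩ = ON.π b ⟨k, hk⟩) : a = b := by
  haveI := ON.finite
  have hn : 0 < 122760 := by omega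
  have hfix : ∀ k ∈ [0, 31, 34, 210], ∀ hk : k < 122760, ON.π (b⁻¹ * a) ⟨k, hk⟩ = ⟨k, hk⟩ := by
    intro k hk hk'
    rw [map_mul, Equiv.Perm.mul_apply, h k hk hk', map_inv, Equiv.Perm.inv_def, Equiv.symm_apply_apply]
  have hH : b⁻¹ * a ∈ ON.H := by
    have hz := hfix 0 (by simp) hn
    have hbij := cosetPt_bijective hn ON.π ON.H ON.covers (ON.sub_fix hn) (ON.transitive hn)
    have h1 : ((b⁻¹ * a : Cfsg.Spor.ON) : Cfsg.Spor.ON ⧸ ON.H)
        = ((1 : Cfsg.Spor.ON) : Cfsg.Spor.ON ⧸ ON.H) :=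
      hbij.1 (by rw [cosetPt_mk, cosetPt_mk, hz, map_one, Equiv.Perm.one_apply])
    simpa using QuotientGroup.eq.mp h1.symm
  exact (inv_mul_eq_one.1 (eq_one_of_fix _ hH fun k hk hk' => hfix k (List.mem_cons_of_mem _ hk) hk')).symm

/-- The inverse of a letter. -/
def il (x : ℕ) : ℕ := linv 18364758542614016535 x

/-- The value of a word in the letters. -/
def ev (w : List ℕ) : Cfsg.Spor.ON := (w.map ON.g).prod

theorem il_il : ∀ x < 8, il (il x) = x ∧ il x < 16 := by decide +kernel

theorem ev_apply : ∀ (w : List ℕ), (∀ x ∈ w, x < 8) → ∀ k : Fin 122760,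
    ((ON.π (ev w) k : Fin 122760) : ℕ) = scan ON.table (w.map il).reverse k
  | [], _, k => by simp [ev, scan_nil]
  | x :: w, h, k => by
    have hx : x < 8 := h x (by simp)
    have hπ := pi_linv_apply ON.table 18364758542614016535 122760 ON.ip_ok ON.row_ok ON.π ON.g ON.hπ
      (il_il x hx).2 (ON.π (ev w) k)
    rw [show linv 18364758542614016535 (il x) = x from (il_il x hx).1] at hπ
    rw [show ev (x :: w) = ON.g x * ev w by simp [ev], map_mul, Equiv.Perm.mul_apply, hπ,
      ev_apply w (fun y hy => h y (List.mem_cons_of_mem _ hy)), List.map_cons, List.reverse_cons, scan_append,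
      scan_cons, scan_nil]

/-- Substitute letters into a word. -/
def flat (L : List (List ℕ)) (w : List ℕ) : List ℕ := (w.map fun a => L.getD a []).flatten

theorem ev_flat (L : List (List ℕ)) : ∀ w : List ℕ,
    (w.map fun a => ev (L.getD a [])).prod = ev (flat L w)
  | [] => by simp [ev, flat]
  | a :: w => by
    rw [List.map_cons, List.prod_cons, ev_flat L w]
    simp [ev, flat]

theorem flat_lt (L : List (List ℕ)) (hL : (L.all fun l => l.all fun x => Nat.blt x 8) = true)
    (w : List ℕ) : ∀ x ∈ flat L w, x < 8 := by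
  intro x hx
  simp only [flat, List.mem_flatten, List.mem_map] at hx
  obtain ⟨l, ⟨a, -, rfl⟩, hx⟩ := hx
  simp only [List.all_eq_true, Nat.blt_eq] at hL
  by_cases ha : a < L.length
  · rw [List.getD_eq_getElem _ _ ha] at hx
    exact hL _ (List.getElem_mem ha) x hx
  · rw [List.getD_eq_default _ _ (by omega)] at hx
    simp at hx

/-- The scanned word of a substituted word. -/
def rw' (L : List (List ℕ)) (w : List ℕ) : List ℕ := ((flat L w).map il).reverse

/-- The images of the base points under a word, as one number. -/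
noncomputable def key (L : List (List ℕ)) (w : List ℕ) : ℕ :=
  strict (scan ON.table (rw' L w) 0) fun a =>
    strict (scan ON.table (rw' L w) 31) fun b =>
      strict (scan ON.table (rw' L w) 34) fun c =>
        strict (scan ON.table (rw' L w) 210) fun d => a + 131072 * (b + 131072 * (c + 131072 * d))

theorem scan_lt (L : List (List ℕ)) (hL : (L.all fun l => l.all fun x => Nat.blt x 8) = true)
    (w : List ℕ) (k : Fin 122760) : scan ON.table (rw' L w) k < 122760 := by
  rw [rw', ← ev_apply _ (flat_lt L hL w)]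
  exact Fin.is_lt _

/-- Words with equal keys have equal values. -/
theorem ev_eq_of_key (L : List (List ℕ)) (hL : (L.all fun l => l.all fun x => Nat.blt x 8) = true)
    (u w : List ℕ) (h : key L u = key L w) : ev (flat L u) = ev (flat L w) := by
  simp only [key, strict_eq] at h
  have u0 := scan_lt L hL u ⟨0, by omega⟩
  have u1 := scan_lt L hL u ⟨31, by omega⟩
  have u2 := scan_lt L hL u ⟨34, by omega⟩
  have w0 := scan_lt L hL w ⟨0, by omega⟩
  have w1 := scan_lt L hL w ⟨31, by omega⟩
  have w2 := scan_lt L hL w ⟨34, by omega⟩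
  refine eq_of_base _ _ fun k hk hk' => Fin.ext ?_
  rw [ev_apply _ (flat_lt L hL u), ev_apply _ (flat_lt L hL w)]
  simp only [rw'] at u0 u1 u2 w0 w1 w2 h
  simp only [List.mem_cons, List.not_mem_nil, or_false] at hk
  rcases hk with rfl | rfl | rfl | rfl <;> simp only <;> omega

/-- Values equal as elements have equal keys. -/
theorem key_eq_of_ev (L : List (List ℕ)) (hL : (L.all fun l => l.all fun x => Nat.blt x 8) = true)
    (u w : List ℕ) (h : ev (flat L u) = ev (flat L w)) : key L u = key L w := by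
  have hk : ∀ k : Fin 122760, scan ON.table (rw' L u) k = scan ON.table (rw' L w) k :=
    fun k => by rw [rw', rw', ← ev_apply _ (flat_lt L hL u), ← ev_apply _ (flat_lt L hL w), h]
  have h0 := hk ⟨0, by omega⟩
  have h1 := hk ⟨31, by omega⟩
  have h2 := hk ⟨34, by omega⟩
  have h3 := hk ⟨210, by omega⟩
  simp only at h0 h1 h2 h3
  simp only [key, strict_eq, h0, h1, h2, h3]

/-- All pairs of words have equal values. -/
noncomputable def eqAll (L : List (List ℕ)) (R : List (List ℕ × List ℕ)) : Bool :=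
  R.all fun q => Nat.beq (key L q.1) (key L q.2)

/-- A strictly increasing list. -/
def incr : List ℕ → Bool
  | a :: b :: l => Nat.blt a b && incr (b :: l)
  | _ => true

theorem incr_pairwise : ∀ l : List ℕ, incr l = true → l.Pairwise (· < ·)
  | [], _ => List.Pairwise.nil
  | [_], _ => List.pairwise_singleton _ _
  | a :: b :: l, h => by
    simp only [incr, Bool.and_eq_true, Nat.blt_eq] at h
    have ih := incr_pairwise (b :: l) h.2
    refine List.pairwise_cons.2 ⟨fun c hc => ?_, ih⟩
    rcases List.mem_cons.1 hc with rfl | hc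
    · exact h.1
    · exact h.1.trans ((List.pairwise_cons.1 ih).1 c hc)

end CfsgLib.ONWord
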